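import Mathlib
import Cfsg.Agent.SporadicRecognition.CosetChain
import Cfsg.Agent.AltType.EnCAll_m3
import Cfsg.Agent.Lib.NodupNat
import Cfsg.Agent.Lib.Refl
import Cfsg.Prelude.Def_TwoFusion
import Cfsg.Agent.S0215
import Cfsg.Agent.S1180
import Cfsg.Agent.TwoFusion.StronglyEmbeddedBasic
import Cfsg.Agent.SporadicRecognition.CosetCert
import Cfsg.Agent.Lib.AltCarmichael
import Cfsg.Agent.J2Type.FourSelfCent
import Cfsg.Agent.Lib.VonDyck
import Cfsg.Agent.LargeExtra.W2.PlusHom
import Cfsg.Agent.J2Type.SimpleRed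
import Cfsg.Agent.SporadicRecognition.HypFast
import Cfsg.Agent.SporadicRecognition.CertFast
import Cfsg.Agent.Lib.FastDecM
import Cfsg.Agent.FastGrp
import Cfsg.Agent.Prune
set_option linter.all false

section
prune_inst 0x7ffefffbeff8bddfffff7e7fffffdffffbfcffffffdffbfbfffdfbffefdf6b6ffbe5fbafffec58fffef7e296b0f87b53fffffeffef6ffc7ffffdfff45fffffdfffffbfad51d6b83e1ffe6ffffbfb7fffffffffffffffffffffffffffffffffffffffffffffff

-- part: AltType/Defs
section
set_option linter.all false
open scoped Cfsg.Agent.FastGrp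

/-!
The centraliser of a 2-central involution of `A₈` (and `A₉`): relations, symmetries, and the bound `192` for the
order of a group generated by elements satisfying the relations.
-/

set_option autoImplicit false
set_option maxRecDepth 100000

namespace Cfsg.Agent.AltType

open Cfsg.Agent.SporadicRecognition.CosetCert Cfsg.Agent.SporadicRecognition.CosetCertHyp
  Cfsg.Agent.SporadicRecognition.CosetChain

/-- `Q = ⟨z, a, b, c, d⟩` extraspecial of type `+` and order 32, `⟨r, s⟩ ≅ S₃`;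
`A₁ = ⟨z, a, c⟩`, `A₂ = ⟨z, b, d⟩`, `A₃ = ⟨z, abz, cdz⟩` are the normal elementary abelian subgroups of order 8. -/
structure Rel {G : Type*} [Group G] (z a b c d r s : G) : Prop where
  zz : z * z = 1
  aa : a * a = 1
  bb : b * b = 1
  cc : c * c = 1
  dd : d * d = 1
  ss : s * s = 1
  r3 : r * (r * r) = 1
  az : a * z = z * a
  bz : b * z = z * b
  cz : c * z = z * c
  dz : d * z = z * d
  sz : s * z = z * s
  rz : r * z = z * r
  ac : a * c = c * a
  bd : b * d = d * b
  ab : a * b = b * a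
  cd : c * d = d * c
  ad : a * d = z * (d * a)
  cb : c * b = z * (b * c)
  ar : a * r = r * c
  cr : c * r = r * (a * c)
  br : b * r = r * d
  dr : d * r = r * (b * d)
  as : a * s = s * a
  cs : c * s = s * (a * c)
  bs : b * s = s * b
  ds : d * s = s * (b * d)
  rsr : r * (s * r) = s

/-- The centraliser of `z` is generated by the elements and has order 192. -/
structure F1 {G : Type*} [Group G] (z a b c d r s : G) : Prop extends Rel z a b c d r s where
  cent : Subgroup.centralizer {z} = Subgroup.closure {z, a, b, c, d, r, s}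
  card : Nat.card (Subgroup.centralizer {z}) = 192

section letters

variable {G : Type*} [Group G]

/-- The letters of the certificate. -/
def lt (z a b c d r s : G) : ℕ → G
  | 0 => z
  | 1 => a
  | 2 => b
  | 3 => c
  | 4 => d
  | 5 => s
  | 6 => r
  | 7 => r⁻¹
  | _ => 1

def iv : ℕ → ℕ
  | 6 => 7
  | 7 => 6
  | n => n

def eqs : List (List ℕ × List ℕ) := [([6,6,6],[]), ([1,0],[0,1]), ([2,0],[0,2]), ([3,0],[0,3]), ([4,0],[0,4]),
  ([5,0],[0,5]), ([6,0],[0,6]), ([1,3],[3,1]), ([2,4],[4,2]), ([1,2],[2,1]), ([3,4],[4,3]), ([1,4],[0,4,1]),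
  ([3,2],[0,2,3]), ([1,6],[6,3]), ([3,6],[6,1,3]), ([2,6],[6,4]), ([4,6],[6,2,4]), ([1,5],[5,1]), ([3,5],[5,1,3]),
  ([2,5],[5,2]), ([4,5],[5,2,4]), ([6,5,6],[5])]

def rels : List (List ℕ) := eqs.map fun e => e.1 ++ invw iv e.2

variable {z a b c d r s : G}

theorem lt_inv (h : Rel z a b c d r s) (n : ℕ) (hn : n < 8) :
    iv n < 8 ∧ lt z a b c d r s n * lt z a b c d r s (iv n) = 1 := by
  interval_cases n
  · exact ⟨by decide, h.zz⟩
  · exact ⟨by decide, h.aa⟩
  · exact ⟨by decide, h.bb⟩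
  · exact ⟨by decide, h.cc⟩
  · exact ⟨by decide, h.dd⟩
  · exact ⟨by decide, h.ss⟩
  · exact ⟨by decide, mul_inv_cancel r⟩
  · exact ⟨by decide, inv_mul_cancel r⟩

theorem ev_eqs (h : Rel z a b c d r s) : ∀ e ∈ eqs, ev (lt z a b c d r s) e.1 = ev (lt z a b c d r s) e.2 := by
  intro e he
  simp only [eqs, List.mem_cons, List.not_mem_nil, or_false] at he
  rcases he with rfl | rfl | rfl | rfl | rfl | rfl | rfl | rfl | rfl | rfl | rfl | rfl | rfl | rfl | rfl | rfl | rfl |
    rfl | rfl | rfl | rfl | rfl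
  all_goals simp only [ev_cons, ev_nil, lt, mul_one]
  · exact h.r3
  · exact h.az
  · exact h.bz
  · exact h.cz
  · exact h.dz
  · exact h.sz
  · exact h.rz
  · exact h.ac
  · exact h.bd
  · exact h.ab
  · exact h.cd
  · exact h.ad
  · exact h.cb
  · exact h.ar
  · exact h.cr
  · exact h.br
  · exact h.dr
  · exact h.as
  · exact h.cs
  · exact h.bs
  · exact h.ds
  · exact h.rsr

theorem eqs_lt : ∀ e ∈ eqs, (∀ y ∈ e.1, y < 8) ∧ ∀ y ∈ e.2, y < 8 := by decide

theorem ev_rels (h : Rel z a b c d r s) : ∀ w ∈ rels, ev (lt z a b c d r s) w = 1 := by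
  intro w hw
  obtain ⟨e, he, rfl⟩ := List.mem_map.mp hw
  rw [ev_append, ev_invw (lt z a b c d r s) iv 8 (lt_inv h) e.2 (eqs_lt e he).2, ev_eqs h e he, mul_inv_cancel]

theorem card_le (h : Rel z a b c d r s) : Finite (Subgroup.closure (lt z a b c d r s '' {n | n < 8})) ∧
    Nat.card (Subgroup.closure (lt z a b c d r s '' {n | n < 8})) ≤ 192 := by
  have hinv : ∀ n, n < EnCData.C.k → EnCData.C.inv n < EnCData.C.k ∧
      lt z a b c d r s n * lt z a b c d r s (EnCData.C.inv n) = 1 := by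
    intro n hn
    change n < 8 at hn
    have h1 := (lt_inv h n hn).2
    interval_cases n <;> exact ⟨by decide +kernel, h1⟩
  have := card_step EnCData.C (lt z a b c d r s) rels [] ⊥ hinv
    (fun w hw _ => ev_rels h w hw) (by simp) (by decide +kernel) EnCAll.part inferInstance
  have h1 : Nat.card (⊥ : Subgroup G) = 1 := by simp
  rw [h1, mul_one] at this
  exact this

theorem image_lt : lt z a b c d r s '' {n | n < 8} = {z, a, b, c, d, s, r, r⁻¹} := by
  ext x
  constructor
  · rintro ⟨n, hn, rfl⟩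
    change n < 8 at hn
    interval_cases n <;> simp [lt]
  · rintro (rfl | rfl | rfl | rfl | rfl | rfl | rfl | rfl)
    · exact ⟨0, by norm_num, rfl⟩
    · exact ⟨1, by norm_num, rfl⟩
    · exact ⟨2, by norm_num, rfl⟩
    · exact ⟨3, by norm_num, rfl⟩
    · exact ⟨4, by norm_num, rfl⟩
    · exact ⟨5, by norm_num, rfl⟩
    · exact ⟨6, by norm_num, rfl⟩
    · exact ⟨7, by norm_num, rfl⟩

theorem closure_lt : Subgroup.closure (lt z a b c d r s '' {n | n < 8}) =
    Subgroup.closure {z, a, b, c, d, r, s} := by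
  rw [image_lt]
  apply le_antisymm
  · rw [Subgroup.closure_le]
    have hr : r ∈ Subgroup.closure ({z, a, b, c, d, r, s} : Set G) := Subgroup.subset_closure (by simp)
    rintro x (rfl | rfl | rfl | rfl | rfl | rfl | rfl | rfl)
    iterate 7 exact Subgroup.subset_closure (by simp)
    exact Subgroup.inv_mem _ hr
  · apply Subgroup.closure_mono
    rintro x (rfl | rfl | rfl | rfl | rfl | rfl | rfl) <;> simp

end letters

namespace Rel

variable {G : Type*} [Group G] {z a b c d r s : G} (h : Rel z a b c d r s)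
include h

theorem da : d * a = z * (a * d) := by
  rw [h.ad, ← mul_assoc, h.zz, one_mul]

theorem bc : b * c = z * (c * b) := by
  rw [h.cb, ← mul_assoc, h.zz, one_mul]

/-- exchange of the two factors -/
theorem swap : Rel z b a d c r s where
  zz := h.zz
  aa := h.bb
  bb := h.aa
  cc := h.dd
  dd := h.cc
  ss := h.ss
  r3 := h.r3
  az := h.bz
  bz := h.az
  cz := h.dz
  dz := h.cz
  sz := h.sz
  rz := h.rz
  ac := h.bd
  bd := h.ac
  ab := h.ab.symm
  cd := h.cd.symm
  ad := h.bc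
  cb := h.da
  ar := h.br
  cr := h.dr
  br := h.ar
  dr := h.cr
  as := h.bs
  cs := h.ds
  bs := h.as
  ds := h.cs
  rsr := h.rsr

/-- replace `s` by `s z` -/
theorem twist : Rel z a b c d r (s * z) where
  zz := h.zz
  aa := h.aa
  bb := h.bb
  cc := h.cc
  dd := h.dd
  ss := by
    calc s * z * (s * z) = s * (z * s) * z := by group
      _ = (s * s) * (z * z) := by rw [← h.sz]; group
      _ = 1 := by rw [h.ss, h.zz, one_mul]
  r3 := h.r3
  az := h.az
  bz := h.bz
  cz := h.cz
  dz := h.dz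
  sz := by rw [h.sz, mul_assoc, h.sz]
  rz := h.rz
  ac := h.ac
  bd := h.bd
  ab := h.ab
  cd := h.cd
  ad := h.ad
  cb := h.cb
  ar := h.ar
  cr := h.cr
  br := h.br
  dr := h.dr
  as := by rw [← mul_assoc, h.as, mul_assoc, h.az, mul_assoc]
  cs := by
    rw [← mul_assoc, h.cs]
    calc s * (a * c) * z = s * (a * (c * z)) := by group
      _ = s * (a * z * c) := by rw [h.cz]; group
      _ = s * z * (a * c) := by rw [h.az]; group
  bs := by rw [← mul_assoc, h.bs, mul_assoc, h.bz, mul_assoc]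
  ds := by
    rw [← mul_assoc, h.ds]
    calc s * (b * d) * z = s * (b * (d * z)) := by group
      _ = s * (b * z * d) := by rw [h.dz]; group
      _ = s * z * (b * d) := by rw [h.bz]; group
  rsr := by
    calc r * (s * z * r) = r * s * (z * r) := by group
      _ = (r * (s * r)) * z := by rw [← h.rz]; group
      _ = s * z := by rw [h.rsr]

end Rel

end Cfsg.Agent.AltType

private theorem dce_27f887d70219 : _root_.True := by
  try have : _root_.True := by simp only [_root_.Cfsg.Agent.AltType.lt.eq_3]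
  try have : _root_.True := by simp only [_root_.Cfsg.Agent.AltType.lt.eq_6]
  try have : _root_.True := by simp only [_root_.Cfsg.Agent.AltType.lt.eq_5]
  try have : _root_.True := by simp only [_root_.Cfsg.Agent.AltType.lt.eq_7]
  try have : _root_.True := by simp only [_root_.Cfsg.Agent.AltType.lt.eq_9]
  try have : _root_.True := by simp only [_root_.Cfsg.Agent.AltType.lt.eq_4]
  try have : _root_.True := by simp only [_root_.Cfsg.Agent.AltType.lt.eq_8]
  try have : _root_.True := by simp only [_root_.Cfsg.Agent.AltType.eqs.eq_1]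
  try have : _root_.True := by simp only [_root_.Cfsg.Agent.AltType.lt.eq_1]
  try have : _root_.True := by simp only [_root_.Cfsg.Agent.AltType.lt.eq_2]
  exact _root_.True.intro
end

-- part: AltType/Model
section
set_option linter.all false
open scoped Cfsg.Agent.FastGrp

/-!
The model of the centraliser inside `A₈ ≤ Perm (Fin 8)`.
-/

set_option autoImplicit false
set_option maxRecDepth 100000

namespace Cfsg.Agent.AltType

open Cfsg.Agent.SporadicRecognition.CosetCert Cfsg.Agent.SporadicRecognition.CosetCertHyp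
  Cfsg.Agent.SporadicRecognition.CosetChain

/-- general lemma: a homomorphism from the graph -/
theorem exists_hom_of_card {X G : Type*} [Group X] [Group G] (p : ℕ → X) (g : ℕ → G) (S : Set ℕ) (n : ℕ)
    (hfin : Finite (Subgroup.closure ((fun i => (p i, g i)) '' S)))
    (hle : Nat.card (Subgroup.closure ((fun i => (p i, g i)) '' S)) ≤ n)
    (hge : n ≤ Nat.card (Subgroup.closure (p '' S))) :
    ∃ φ : Subgroup.closure (p '' S) →* G, ∀ i (hi : i ∈ S), φ ⟨p i, Subgroup.subset_closure ⟨i, hi, rfl⟩⟩ = g i := by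
  set K : Subgroup (X × G) := Subgroup.closure ((fun i => (p i, g i)) '' S) with hK
  set M : Subgroup X := Subgroup.closure (p '' S) with hM
  have hmap : K.map (MonoidHom.fst X G) = M := by
    rw [hK, MonoidHom.map_closure, hM, Set.image_image]
    rfl
  let f : K →* M := ((MonoidHom.fst X G).comp K.subtype).codRestrict M (fun x => by
    rw [← hmap]; exact ⟨x.1, x.2, rfl⟩)
  have hsurj : Function.Surjective f := by
    rintro ⟨x, hx⟩
    rw [← hmap] at hx
    obtain ⟨y, hy, rfl⟩ := hx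
    exact ⟨⟨y, hy⟩, rfl⟩
  have hbij : Function.Bijective f := by
    have : Nat.card K = Nat.card M := le_antisymm (hle.trans hge) (Nat.card_le_card_of_surjective f hsurj)
    exact (Nat.bijective_iff_surjective_and_card f).2 ⟨hsurj, this⟩
  let e : K ≃* M := MulEquiv.ofBijective f hbij
  refine ⟨((MonoidHom.snd X G).comp K.subtype).comp e.symm.toMonoidHom, ?_⟩
  intro i hi
  have hmem : (p i, g i) ∈ K := Subgroup.subset_closure ⟨i, hi, rfl⟩
  have : e.symm ⟨p i, Subgroup.subset_closure ⟨i, hi, rfl⟩⟩ = ⟨(p i, g i), hmem⟩ := by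
    rw [MulEquiv.symm_apply_eq]; rfl
  show ((e.symm ⟨p i, _⟩ : K) : X × G).2 = g i
  rw [this]

/-- permutation given by a table -/
def pz : Equiv.Perm (Fin 8) := ⟨![1,0,3,2,5,4,7,6], ![1,0,3,2,5,4,7,6], by decide, by decide⟩
def pa : Equiv.Perm (Fin 8) := ⟨![2,3,0,1,6,7,4,5], ![2,3,0,1,6,7,4,5], by decide, by decide⟩
def pb : Equiv.Perm (Fin 8) := ⟨![3,2,1,0,6,7,4,5], ![3,2,1,0,6,7,4,5], by decide, by decide⟩
def pc : Equiv.Perm (Fin 8) := ⟨![6,7,4,5,2,3,0,1], ![6,7,4,5,2,3,0,1], by decide, by decide⟩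
def pd : Equiv.Perm (Fin 8) := ⟨![7,6,4,5,2,3,1,0], ![7,6,4,5,2,3,1,0], by decide, by decide⟩
def pr : Equiv.Perm (Fin 8) := ⟨![0,1,4,5,6,7,2,3], ![0,1,6,7,2,3,4,5], by decide, by decide⟩
def ps : Equiv.Perm (Fin 8) := ⟨![1,0,3,2,7,6,5,4], ![1,0,3,2,7,6,5,4], by decide, by decide⟩

theorem rel_p : Rel pz pa pb pc pd pr ps where
  zz := by decide
  aa := by decide
  bb := by decide
  cc := by decide
  dd := by decide
  ss := by decide
  r3 := by decide
  az := by decide
  bz := by decide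
  cz := by decide
  dz := by decide
  sz := by decide
  rz := by decide
  ac := by decide
  bd := by decide
  ab := by decide
  cd := by decide
  ad := by decide
  cb := by decide
  ar := by decide
  cr := by decide
  br := by decide
  dr := by decide
  as := by decide
  cs := by decide
  bs := by decide
  ds := by decide
  rsr := by decide

end Cfsg.Agent.AltType
end

-- part: AltType/ModelData
section
prune_inst 0x1000410074220000001800000200000030000000000000002040010209490001804000013a50000081c680e0684ac00000100109001000002000820000000000040122e2907c1c00110000404800000000000000000000000000000000000000000000000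
set_option linter.all false
open scoped Cfsg.Agent.FastGrp

/-!
The 192 permutations of the model, coded as natural numbers in base 8, with kernel-fast multiplication.
-/

set_option autoImplicit false
set_option maxRecDepth 100000

namespace Cfsg.Agent.AltType

open Cfsg.Agent.SporadicRecognition.CosetCert Cfsg.Agent.SporadicRecognition.CosetCertHyp
  Cfsg.Agent.SporadicRecognition.CosetChain

/-- base 8 digits -/
def dig (n i : ℕ) : ℕ := n / 8 ^ i % 8

/-- product of coded permutations -/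
def mulN (p q : ℕ) : ℕ := dig p (dig q 0) + 8 * dig p (dig q 1) + 64 * dig p (dig q 2) + 512 * dig p (dig q 3) +
  4096 * dig p (dig q 4) + 32768 * dig p (dig q 5) + 262144 * dig p (dig q 6) + 2097152 * dig p (dig q 7)

/-- code of a permutation -/
def enc (σ : Equiv.Perm (Fin 8)) : ℕ := (σ 0 : ℕ) + 8 * (σ 1 : ℕ) + 64 * (σ 2 : ℕ) + 512 * (σ 3 : ℕ) +
  4096 * (σ 4 : ℕ) + 32768 * (σ 5 : ℕ) + 262144 * (σ 6 : ℕ) + 2097152 * (σ 7 : ℕ)

theorem dig_enc (σ : Equiv.Perm (Fin 8)) (i : Fin 8) : dig (enc σ) (i : ℕ) = (σ i : ℕ) := by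
  have h0 := (σ 0).isLt
  have h1 := (σ 1).isLt
  have h2 := (σ 2).isLt
  have h3 := (σ 3).isLt
  have h4 := (σ 4).isLt
  have h5 := (σ 5).isLt
  have h6 := (σ 6).isLt
  have h7 := (σ 7).isLt
  unfold dig enc
  fin_cases i
  · show _ / 8 ^ 0 % 8 = ((σ 0 : Fin 8) : ℕ)
    norm_num only [_root_.Nat.div_one]; omega
  · show _ / 8 ^ 1 % 8 = ((σ 1 : Fin 8) : ℕ)
    norm_num only []; omega
  · show _ / 8 ^ 2 % 8 = ((σ 2 : Fin 8) : ℕ)
    norm_num only []; omega
  · show _ / 8 ^ 3 % 8 = ((σ 3 : Fin 8) : ℕ)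
    norm_num only []; omega
  · show _ / 8 ^ 4 % 8 = ((σ 4 : Fin 8) : ℕ)
    norm_num only []; omega
  · show _ / 8 ^ 5 % 8 = ((σ 5 : Fin 8) : ℕ)
    norm_num only []; omega
  · show _ / 8 ^ 6 % 8 = ((σ 6 : Fin 8) : ℕ)
    norm_num only []; omega
  · show _ / 8 ^ 7 % 8 = ((σ 7 : Fin 8) : ℕ)
    norm_num only []; omega

theorem enc_mul (σ τ : Equiv.Perm (Fin 8)) : enc (σ * τ) = mulN (enc σ) (enc τ) := by
  have h : ∀ i : Fin 8, dig (enc σ) (dig (enc τ) (i : ℕ)) = ((σ * τ) i : ℕ) := by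
    intro i
    rw [dig_enc τ i, dig_enc σ (τ i)]; rfl
  have h0 := h 0
  have h1 := h 1
  have h2 := h 2
  have h3 := h 3
  have h4 := h 4
  have h5 := h 5
  have h6 := h 6
  have h7 := h 7
  unfold mulN
  simp only [Fin.val_zero, Fin.val_one] at h0 h1
  change dig (enc σ) (dig (enc τ) 2) = _ at h2
  change dig (enc σ) (dig (enc τ) 3) = _ at h3
  change dig (enc σ) (dig (enc τ) 4) = _ at h4
  change dig (enc σ) (dig (enc τ) 5) = _ at h5
  change dig (enc σ) (dig (enc τ) 6) = _ at h6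
  change dig (enc σ) (dig (enc τ) 7) = _ at h7
  rw [h0, h1, h2, h3, h4, h5, h6, h7]
  rfl

theorem enc_injective : Function.Injective enc := by
  intro σ τ h
  ext i
  rw [← dig_enc σ i, ← dig_enc τ i, h]

/-- codes of the 192 elements -/
def Lc : List ℕ := [16434824,14570689,11788826,11788371,2206526,371511,9925825,7072520,11644808,9924691,9925146,342391,2177406,11789960,5208385,9780673,16434369,6852524,5017509,14569555,2281370,16288538,4988844,6823845,14570010,446355,16259859,6852069,14599809,4987255,11568830,6996542,6823404,5015934,11540151,6996087,343525,2178540,5135809,14498113,16359980,16359525,2352812,517797,14571144,4988389,16433690,417235,14424403,5017068,16433235,2252250,14453082,16405704,6851390,9704695,5132407,6822711,9733374,5132862,2207660,372645,6999944,16362248,14495845,14496300,488677,2323692,342846,2177847,9926280,5237505,11616129,2206071,9953811,372204,16331301,2352357,6822270,489811,9706963,11568375,5161527,9953370,2207205,16330860,517356,371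070,6850935,2324826,9735642,11539710,5161086,11760147,343980,14524965,2324133,11759706,9954504,7043841,11644353,16404570,9777271,414967,2280915,14453523,2178981,14524524,489132,16405011,9777726,2249982,445914,14424858,4987710,11760840,14423269,5206117,5016375,14451948,5206572,7072065,9733815,9705150,16288083,9809793,16259418,11789505,7043400,9809352,2353946,11571098,6967422,518931,11542419,6967863,11761281,5237064,9781128,14598675,11641406,2279102,417690,14598234,11640951,444087,2252691,9954945,16287404,7070252,16258725,7069797,5208840,11615688,14599368,6970824,14526792,16406145,14423724,7041132,9805950,415422,14452389,7041573,9806391,2250423,16258284,5234796,5136264,16333128,518490,9707418,16286949,5235237,2353491,9736083,11612286,443646,5164488,14498568,490266,11541978,11612727,2278647,2325267,11570643,5164929,16333569,6999489,14527233,6971265,16361793]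

/-- words of the 192 elements -/
def Wd : List (List ℕ) := [[],[0],[1],[2],[3],[4],[5],[6],[7],[0,1],[0,2],[0,3],[0,4],[0,5],[0,6],[0,7],[1,2],[1,3],[1,4],[1,5],[1,6],[1,7],[2,3],[2,4],[2,5],[2,6],[2,7],[3,2],[3,4],[3,5],[3,6],[3,7],[4,1],[4,5],[4,6],[4,7],[5,3],[5,4],[5,6],[5,7],[6,1],[6,2],[7,3],[7,4],[0,1,2],[0,1,3],[0,1,5],[0,1,6],[0,1,7],[0,2,4],[0,2,5],[0,2,6],[0,2,7],[0,3,4],[0,3,5],[0,3,6],[0,3,7],[0,4,5],[0,4,6],[0,4,7],[0,5,3],[0,5,4],[0,5,6],[0,5,7],[0,6,1],[0,6,2],[0,7,3],[0,7,4],[1,2,3],[1,2,4],[1,2,5],[1,2,6],[1,2,7],[1,3,2],[1,3,4],[1,4,5],[1,4,6],[1,4,7],[1,5,4],[1,5,6],[1,5,7],[1,6,2],[1,7,4],[2,3,4],[2,3,5],[2,3,6],[2,3,7],[2,4,1],[2,5,3],[2,5,6],[2,5,7],[2,6,1],[2,7,3],[3,2,4],[3,2,5],[3,2,6],[3,2,7],[3,4,1],[3,4,5],[3,4,6],[3,4,7],[3,5,4],[3,5,6],[3,5,7],[3,6,2],[3,7,4],[4,1,5],[4,1,6],[4,1,7],[4,5,3],[4,5,6],[4,5,7],[4,6,1],[4,7,3],[5,3,2],[5,3,4],[5,3,6],[5,3,7],[5,4,1],[5,4,6],[5,4,7],[6,1,2],[6,1,4],[6,2,3],[7,3,2],[7,3,4],[7,4,1],[0,1,2,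5],[0,1,2,6],[0,1,2,7],[0,1,5,6],[0,1,5,7],[0,1,7,4],[0,2,5,6],[0,2,5,7],[0,2,7,3],[0,3,4,5],[0,3,4,6],[0,3,4,7],[0,3,5,4],[0,3,5,6],[0,3,5,7],[0,3,6,2],[0,4,5,3],[0,4,5,6],[0,4,5,7],[0,4,6,1],[0,5,3,4],[0,5,3,6],[0,5,3,7],[0,5,4,6],[0,5,4,7],[0,6,1,2],[0,7,3,4],[1,2,3,4],[1,2,5,6],[1,2,5,7],[1,3,2,4],[1,4,5,6],[1,4,5,7],[1,5,4,6],[1,5,4,7],[2,3,5,6],[2,3,5,7],[2,5,3,6],[2,5,3,7],[3,2,5,6],[3,2,5,7],[3,4,5,6],[3,4,5,7],[3,5,4,6],[3,5,4,7],[4,1,5,6],[4,1,5,7],[4,5,3,6],[4,5,3,7],[5,3,2,6],[5,3,2,7],[5,3,4,6],[5,3,4,7],[5,3,6,2],[5,3,7,4],[5,4,1,6],[5,4,1,7],[5,4,6,1],[5,4,7,3],[0,1,2,5,6],[0,1,2,5,7],[0,3,4,5,6],[0,3,4,5,7],[0,5,3,4,6],[0,5,3,4,7]]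

/-- codes of the letters -/
def cl : ℕ → ℕ
  | 0 => 14570689
  | 1 => 11788826
  | 2 => 11788371
  | 3 => 2206526
  | 4 => 371511
  | 5 => 9925825
  | 6 => 7072520
  | 7 => 11644808
  | _ => 16434824

/-- the letters in the model -/
def lp : ℕ → Equiv.Perm (Fin 8) := lt pz pa pb pc pd pr ps

theorem enc_one : enc 1 = 16434824 := by decide

theorem enc_lp (k : ℕ) (hk : k < 8) : enc (lp k) = cl k := by
  interval_cases k <;> decide

theorem Lc_nodup : Lc.Nodup :=
  Cfsg.Agent.NodupNat.of_go (by decide +kernel)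

/-- value of a word in codes -/
def evN (w : List ℕ) : ℕ := w.foldr (fun k n => mulN (cl k) n) 16434824

theorem enc_ev (w : List ℕ) (hw : ∀ y ∈ w, y < 8) : enc (ev lp w) = evN w := by
  induction w with
  | nil => exact enc_one
  | cons x w ih =>
    rw [ev_cons, enc_mul, enc_lp x (hw x (by simp)), ih (fun y hy => hw y (by simp [hy]))]
    rfl

theorem Wd_lt : ∀ w ∈ Wd, ∀ y ∈ w, y < 8 := by decide +kernel

theorem Wd_map : Wd.map evN = Lc := by decide +kernel

theorem Lc_closed : ∀ n ∈ Lc, ∀ k < 8, mulN n (cl k) ∈ Lc := by (delta Cfsg.Agent.AltType.mulN Cfsg.Agent.AltType.dig; set_option synthInstance.maxSize 100000 in exact Cfsg.Agent.Lib.Refl.of (by decide +kernel))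

theorem Lc_one : 16434824 ∈ Lc := by decide +kernel

/-- the model group -/
def M : Subgroup (Equiv.Perm (Fin 8)) := Subgroup.closure (lp '' {n | n < 8})

theorem ev_mem_M (w : List ℕ) (hw : ∀ y ∈ w, y < 8) : ev lp w ∈ M := by
  induction w with
  | nil => exact M.one_mem
  | cons x w ih =>
    rw [ev_cons]
    exact M.mul_mem (Subgroup.subset_closure ⟨x, hw x (by simp), rfl⟩) (ih fun y hy => hw y (by simp [hy]))

theorem enc_mem {σ : Equiv.Perm (Fin 8)} (h : σ ∈ M) : enc σ ∈ Lc := by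
  unfold M at h
  induction h using Subgroup.closure_induction_right with
  | one => rw [enc_one]; exact Lc_one
  | mul_right x hx y hy ih =>
    obtain ⟨k, hk, rfl⟩ := hy
    rw [enc_mul, enc_lp k hk]
    exact Lc_closed _ ih k hk
  | mul_inv_cancel x hx y hy ih =>
    obtain ⟨k, hk, rfl⟩ := hy
    have h1 : (lp k)⁻¹ = lp (iv k) :=
      inv_eq_of_mul_eq_one_right (lt_inv rel_p k hk).2
    rw [h1, enc_mul, enc_lp _ (lt_inv rel_p k hk).1]
    exact Lc_closed _ ih _ (lt_inv rel_p k hk).1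

theorem exists_of_mem {n : ℕ} (h : n ∈ Lc) : ∃ σ ∈ M, enc σ = n := by
  rw [← Wd_map, List.mem_map] at h
  obtain ⟨w, hw, rfl⟩ := h
  exact ⟨ev lp w, ev_mem_M w (Wd_lt w hw), enc_ev w (Wd_lt w hw)⟩

theorem Lc_length : Lc.length = 192 := by decide +kernel

theorem card_M : 192 ≤ Nat.card M := by
  classical
  let f : {n // n ∈ Lc.toFinset} → M := fun n =>
    ⟨(exists_of_mem (List.mem_toFinset.mp n.2)).choose, (exists_of_mem (List.mem_toFinset.mp n.2)).choose_spec.1⟩
  have hf : Function.Injective f := by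
    intro x y hxy
    have hx := (exists_of_mem (List.mem_toFinset.mp x.2)).choose_spec.2
    have hy := (exists_of_mem (List.mem_toFinset.mp y.2)).choose_spec.2
    have h1 : ((f x : M) : Equiv.Perm (Fin 8)) = f y := by rw [hxy]
    change (exists_of_mem (List.mem_toFinset.mp x.2)).choose = (exists_of_mem (List.mem_toFinset.mp y.2)).choose at h1
    rw [h1, hy] at hx
    exact Subtype.ext hx.symm
  have h2 := Nat.card_le_card_of_injective f hf
  rw [Nat.card_eq_fintype_card, Fintype.card_coe, List.toFinset_card_of_nodup Lc_nodup, Lc_length] at h2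
  exact h2

end Cfsg.Agent.AltType
end

-- part: AltType/Tab
section
set_option linter.all false
open scoped Cfsg.Agent.FastGrp

/-!
Transfer from the model: coded elements of the centraliser.
-/

set_option autoImplicit false
set_option maxRecDepth 100000

namespace Cfsg.Agent.AltType

open Cfsg.Agent.SporadicRecognition.CosetCert Cfsg.Agent.SporadicRecognition.CosetCertHyp
  Cfsg.Agent.SporadicRecognition.CosetChain

variable {G : Type*} [Group G] {z a b c d r s : G}

theorem Rel.prod {X : Type*} [Group X] {z' a' b' c' d' r' s' : X} (h' : Rel z' a' b' c' d' r' s')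
    (h : Rel z a b c d r s) :
    Rel (z', z) (a', a) (b', b) (c', c) (d', d) (r', r) (s', s) where
  zz := Prod.ext h'.zz h.zz
  aa := Prod.ext h'.aa h.aa
  bb := Prod.ext h'.bb h.bb
  cc := Prod.ext h'.cc h.cc
  dd := Prod.ext h'.dd h.dd
  ss := Prod.ext h'.ss h.ss
  r3 := Prod.ext h'.r3 h.r3
  az := Prod.ext h'.az h.az
  bz := Prod.ext h'.bz h.bz
  cz := Prod.ext h'.cz h.cz
  dz := Prod.ext h'.dz h.dz
  sz := Prod.ext h'.sz h.sz
  rz := Prod.ext h'.rz h.rz
  ac := Prod.ext h'.ac h.ac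
  bd := Prod.ext h'.bd h.bd
  ab := Prod.ext h'.ab h.ab
  cd := Prod.ext h'.cd h.cd
  ad := Prod.ext h'.ad h.ad
  cb := Prod.ext h'.cb h.cb
  ar := Prod.ext h'.ar h.ar
  cr := Prod.ext h'.cr h.cr
  br := Prod.ext h'.br h.br
  dr := Prod.ext h'.dr h.dr
  as := Prod.ext h'.as h.as
  cs := Prod.ext h'.cs h.cs
  bs := Prod.ext h'.bs h.bs
  ds := Prod.ext h'.ds h.ds
  rsr := Prod.ext h'.rsr h.rsr

theorem lt_prod {X : Type*} [Group X] (z' a' b' c' d' r' s' : X) (z a b c d r s : G) :
    (fun i => (lt z' a' b' c' d' r' s' i, lt z a b c d r s i)) =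
      lt (z', z) (a', a) (b', b) (c', c) (d', d) (r', r) (s', s) := by
  funext i
  unfold lt
  rcases i with _ | _ | _ | _ | _ | _ | _ | _ | i <;> rfl

theorem lp_mem {k : ℕ} (hk : k < 8) : lp k ∈ M := Subgroup.subset_closure ⟨k, hk, rfl⟩

/-- The homomorphism from the model. -/
theorem exists_hom (h : Rel z a b c d r s) :
    ∃ φ : M →* G, ∀ k (hk : k < 8), φ ⟨lp k, lp_mem hk⟩ = lt z a b c d r s k := by
  have h1 := card_le (rel_p.prod h)
  rw [← lt_prod] at h1
  exact exists_hom_of_card lp (lt z a b c d r s) {n | n < 8} 192 h1.1 h1.2 card_M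

theorem hom_ev {φ : M →* G} (hφ : ∀ k (hk : k < 8), φ ⟨lp k, lp_mem hk⟩ = lt z a b c d r s k)
    (w : List ℕ) (hw : ∀ y ∈ w, y < 8) : φ ⟨ev lp w, ev_mem_M w hw⟩ = ev (lt z a b c d r s) w := by
  induction w with
  | nil => exact map_one φ
  | cons x w ih =>
    have h1 : (⟨ev lp (x :: w), ev_mem_M (x :: w) hw⟩ : M) =
        ⟨lp x, lp_mem (hw x (by simp))⟩ * ⟨ev lp w, ev_mem_M w (fun y hy => hw y (by simp [hy]))⟩ := by
      apply Subtype.ext
      exact ev_cons lp x w
    rw [h1, map_mul, hφ x (hw x (by simp)), ih (fun y hy => hw y (by simp [hy])), ev_cons]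

/-- identities of words in the model hold in every group with the relations -/
theorem Rel.word (h : Rel z a b c d r s) (v w : List ℕ) (hvw : ((v ++ w).all fun y => Nat.blt y 8) = true)
    (he : evN v = evN w) : ev (lt z a b c d r s) v = ev (lt z a b c d r s) w := by
  obtain ⟨φ, hφ⟩ := exists_hom h
  have hlt := all_lt hvw
  have hv : ∀ y ∈ v, y < 8 := fun y hy => hlt y (by simp [hy])
  have hw : ∀ y ∈ w, y < 8 := fun y hy => hlt y (by simp [hy])
  rw [← hom_ev hφ v hv, ← hom_ev hφ w hw]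
  congr 1
  apply Subtype.ext
  apply enc_injective
  show enc (ev lp v) = enc (ev lp w)
  rw [enc_ev v hv, enc_ev w hw, he]

/-- Coded elements of the centraliser. -/
structure Tab (z a b c d r s : G) (t : ℕ → G) : Prop where
  mem : ∀ x, x ∈ Subgroup.centralizer {z} ↔ ∃ n ∈ Lc, t n = x
  mul : ∀ n ∈ Lc, ∀ m ∈ Lc, mulN n m ∈ Lc ∧ t n * t m = t (mulN n m)
  inj : ∀ n ∈ Lc, ∀ m ∈ Lc, t n = t m → n = m
  one : t 16434824 = 1
  let' : ∀ k < 8, t (cl k) = lt z a b c d r s k

theorem F1.exists_tab (h : F1 z a b c d r s) : ∃ t : ℕ → G, Tab z a b c d r s t := by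
  classical
  obtain ⟨φ, hφ⟩ := exists_hom h.toRel
  have hrange : φ.range = Subgroup.centralizer {z} := by
    rw [h.cent, ← closure_lt (r := r)]
    apply le_antisymm
    · rintro _ ⟨⟨x, hx⟩, rfl⟩
      have hx' := hx
      unfold M at hx'
      induction hx' using Subgroup.closure_induction with
      | one => exact (map_one φ) ▸ Subgroup.one_mem _
      | mem x hx1 =>
        obtain ⟨k, hk, rfl⟩ := hx1
        rw [hφ k hk]
        exact Subgroup.subset_closure ⟨k, hk, rfl⟩
      | mul x y hx1 hy1 ihx ihy =>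
        have : (⟨x * y, hx⟩ : M) = ⟨x, hx1⟩ * ⟨y, hy1⟩ := rfl
        rw [this, map_mul]
        exact Subgroup.mul_mem _ (ihx hx1) (ihy hy1)
      | inv x hx1 ihx =>
        have : (⟨x⁻¹, hx⟩ : M) = ⟨x, hx1⟩⁻¹ := rfl
        rw [this, map_inv]
        exact Subgroup.inv_mem _ (ihx hx1)
    · rw [Subgroup.closure_le]
      rintro _ ⟨k, hk, rfl⟩
      exact ⟨_, hφ k hk⟩
  have hMc : Nat.card M = 192 := by
    have h1 := card_le rel_p
    exact le_antisymm h1.2 card_M
  have hinj : Function.Injective φ := by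
    have h1 : Function.Surjective φ.rangeRestrict := φ.rangeRestrict_surjective
    have hfin : Finite M := (card_le rel_p).1
    have h2 : Nat.card φ.range = Nat.card M := by rw [hrange, h.card, hMc]
    have h3 := (Nat.bijective_iff_surjective_and_card φ.rangeRestrict).2 ⟨h1, h2.symm⟩
    intro x y hxy
    exact h3.1 (Subtype.ext hxy)
  let t : ℕ → G := fun n => if hn : n ∈ Lc then
    φ ⟨(exists_of_mem hn).choose, (exists_of_mem hn).choose_spec.1⟩ else 1
  have ht : ∀ (σ : Equiv.Perm (Fin 8)) (hσ : σ ∈ M), t (enc σ) = φ ⟨σ, hσ⟩ := by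
    intro σ hσ
    have hn := enc_mem hσ
    show (if hn : enc σ ∈ Lc then
      φ ⟨(exists_of_mem hn).choose, (exists_of_mem hn).choose_spec.1⟩ else 1) = _
    rw [dif_pos hn]
    congr 1
    apply Subtype.ext
    exact enc_injective (exists_of_mem hn).choose_spec.2
  have hex : ∀ n ∈ Lc, ∃ (σ : Equiv.Perm (Fin 8)) (hσ : σ ∈ M), enc σ = n ∧ t n = φ ⟨σ, hσ⟩ := by
    intro n hn
    obtain ⟨σ, hσ, rfl⟩ := exists_of_mem hn
    exact ⟨σ, hσ, rfl, ht σ hσ⟩
  refine ⟨t, ?_, ?_, ?_, ?_, ?_⟩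
  · intro x
    rw [← hrange]
    constructor
    · rintro ⟨⟨σ, hσ⟩, rfl⟩
      exact ⟨enc σ, enc_mem hσ, ht σ hσ⟩
    · rintro ⟨n, hn, rfl⟩
      obtain ⟨σ, hσ, -, h1⟩ := hex n hn
      exact ⟨⟨σ, hσ⟩, h1.symm⟩
  · intro n hn m hm
    obtain ⟨σ, hσ, rfl, h1⟩ := hex n hn
    obtain ⟨τ, hτ, rfl, h2⟩ := hex m hm
    rw [← enc_mul]
    refine ⟨enc_mem (M.mul_mem hσ hτ), ?_⟩
    rw [h1, h2, ht _ (M.mul_mem hσ hτ), ← map_mul]
    rfl
  · intro n hn m hm hnm
    obtain ⟨σ, hσ, rfl, h1⟩ := hex n hn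
    obtain ⟨τ, hτ, rfl, h2⟩ := hex m hm
    rw [h1, h2] at hnm
    have := hinj hnm
    rw [Subtype.mk.injEq] at this
    rw [this]
  · rw [← enc_one, ht 1 M.one_mem]
    exact map_one φ
  · intro k hk
    rw [← enc_lp k hk, ht _ (lp_mem hk), hφ k hk]

end Cfsg.Agent.AltType
end

-- part: AltType/Facts
section
prune_inst 0x1000410074220000081800000200004030000002004040002040010209490041a04100013a70001081d694e0784ac00000100109003800002000ba000002000004052ae2947c1e00190000404800000000000000000000000000000000000000000000000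
set_option linter.all false

/-!
Finite facts about the centraliser, checked in the model.
-/

set_option autoImplicit false
set_option maxRecDepth 100000

namespace Cfsg.Agent.AltType

open Cfsg.Agent.SporadicRecognition.CosetCert Cfsg.Agent.SporadicRecognition.CosetCertHyp
  Cfsg.Agent.SporadicRecognition.CosetChain

/-- words of the elements of `E = ⟨z, a, b, s⟩`: bits `z, a, b, s` -/
def wE : ℕ → List ℕ
  | 0 => []
  | 1 => [0]
  | 2 => [1]
  | 3 => [0,1]
  | 4 => [2]
  | 5 => [0,2]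
  | 6 => [1,2]
  | 7 => [0,1,2]
  | 8 => [5]
  | 9 => [0,5]
  | 10 => [1,5]
  | 11 => [0,1,5]
  | 12 => [2,5]
  | 13 => [0,2,5]
  | 14 => [1,2,5]
  | _ => [0,1,2,5]

/-- words of the elements of `A₁ = ⟨z, a, c⟩`: bits `z, a, c` -/
def wF : ℕ → List ℕ
  | 0 => []
  | 1 => [0]
  | 2 => [1]
  | 3 => [0,1]
  | 4 => [3]
  | 5 => [0,3]
  | 6 => [1,3]
  | _ => [0,1,3]

/-- codes of the elements of `E` -/
def cE : ℕ → ℕ := fun v => [16434824, 14570689, 11788826, 9924691, 11788371, 9925146, 16434369, 14571144, 9925825,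
  11789960, 14569555, 16433690, 14570010, 16433235, 9926280, 11789505].getD v 0

def cF : ℕ → ℕ := fun v => [16434824, 14570689, 11788826, 9924691, 2206526, 342391, 6852524, 4988389].getD v 0

theorem cE_eq : ∀ v < 16, evN (wE v) = cE v := by decide +kernel
theorem cF_eq : ∀ v < 8, evN (wF v) = cF v := by decide +kernel
theorem wE_lt : ∀ v < 16, ∀ y ∈ wE v, y < 8 := by decide +kernel
theorem wF_lt : ∀ v < 8, ∀ y ∈ wF v, y < 8 := by decide +kernel
theorem cl_mem : ∀ k < 8, cl k ∈ Lc := by decide +kernel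

theorem code_invol : ∀ n ∈ Lc, mulN n n = 16434824 → n = 16434824 ∨ n = 14570689 ∨
    ∃ m ∈ Lc, ∃ w ∈ [11788826, 11788371, 14571144, 9925825, 11789960], mulN n m = mulN m w := by decide +kernel

theorem code_centS : ∀ n ∈ Lc, mulN n 9925825 = mulN 9925825 n → ∃ v < 16, n = cE v := by decide +kernel

theorem code_centA : ∀ n ∈ Lc, mulN n 11788826 = mulN 11788826 n → mulN n 2206526 = mulN 2206526 n →
    ∃ v < 8, n = cF v := by decide +kernel

theorem code_P : ∀ n ∈ Lc, mulN n 11788826 = mulN 11788826 n → mulN n n = 16434824 →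
    (∃ m ∈ Lc, mulN m 11788826 = mulN 11788826 m ∧ mulN n m = mulN 14570689 (mulN m n)) →
    (∃ m ∈ Lc, mulN m 11788826 = mulN 11788826 m ∧ mulN n m = mulN 11788826 (mulN m n)) →
    ∃ v < 8, 4 ≤ v ∧ n = cF v := by decide +kernel

theorem code_B : ∀ n ∈ Lc, mulN n 11788826 = mulN 11788826 n → mulN n n = 16434824 →
    mulN 2206526 n = mulN 11788826 (mulN n 2206526) → ∃ v < 16, (v = 8 ∨ v = 9 ∨ v = 10 ∨ v = 11) ∧ n = cE v := by
  decide +kernel

set_option synthInstance.maxSize 1024 in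
set_option synthInstance.maxHeartbeats 200000 in
theorem code_NCE : ∀ n ∈ Lc, ∀ A1 < 16, mulN 11788826 n = mulN n (cE A1) →
    ∀ A2 < 16, mulN 11788371 n = mulN n (cE A2) → ∀ A3 < 16, mulN 9925825 n = mulN n (cE A3) →
    (A1, A2, A3) ∈ [(2, 4, 8), (2, 5, 10), (3, 4, 12), (3, 5, 15)] := by decide +kernel

theorem code_exp : ∀ n ∈ Lc, mulN n 11788371 = mulN 11788371 n → mulN (mulN n n) (mulN n n) = 16434824 := by
  decide +kernel

theorem code_xor : ∀ v < 16, ∀ w < 16, mulN (cE v) (cE w) = cE (v ^^^ w) ∧ v ^^^ w < 16 := by decide +kernel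

theorem code_F_xor : ∀ v < 8, ∀ w < 8, mulN (cF v) (cF w) = cF (v ^^^ w) ∧ v ^^^ w < 8 := by decide +kernel

end Cfsg.Agent.AltType
end

-- part: AltType/Cent
section
set_option linter.all false
open scoped Cfsg.Agent.FastGrp

/-!
Facts about the centraliser of `z`, at the level of the group.
-/

set_option autoImplicit false
set_option maxRecDepth 100000
set_option linter.unusedSectionVars false

namespace Cfsg.Agent.AltType

open Cfsg.Agent.SporadicRecognition.CosetCert Cfsg.Agent.SporadicRecognition.CosetCertHyp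
  Cfsg.Agent.SporadicRecognition.CosetChain

variable {G : Type*} [Group G] {z a b c d r s : G}

/-- the elements of `E`: bits `z, a, b, s` -/
def eG (z a b s : G) : ℕ → G
  | 0 => 1
  | 1 => z
  | 2 => a
  | 3 => z * a
  | 4 => b
  | 5 => z * b
  | 6 => a * b
  | 7 => z * (a * b)
  | 8 => s
  | 9 => z * s
  | 10 => a * s
  | 11 => z * (a * s)
  | 12 => b * s
  | 13 => z * (b * s)
  | 14 => a * (b * s)
  | _ => z * (a * (b * s))

/-- the elements of `A₁`: bits `z, a, c` -/
def fG (z a c : G) : ℕ → G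
  | 0 => 1
  | 1 => z
  | 2 => a
  | 3 => z * a
  | 4 => c
  | 5 => z * c
  | 6 => a * c
  | _ => z * (a * c)

theorem ev_wE (v : ℕ) (hv : v < 16) : ev (lt z a b c d r s) (wE v) = eG z a b s v := by
  interval_cases v <;> simp only [wE, ev_cons, ev_nil, lt, mul_one, eG]

theorem ev_wF (v : ℕ) (hv : v < 8) : ev (lt z a b c d r s) (wF v) = fG z a c v := by
  interval_cases v <;> simp only [wF, ev_cons, ev_nil, lt, mul_one, fG]

theorem evN_append (v w : List ℕ) (hv : ∀ y ∈ v, y < 8) (hw : ∀ y ∈ w, y < 8) :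
    evN (v ++ w) = mulN (evN v) (evN w) := by
  rw [← enc_ev (v ++ w) (by
    intro y hy
    rcases List.mem_append.mp hy with h | h
    · exact hv y h
    · exact hw y h), ev_append, enc_mul, enc_ev v hv, enc_ev w hw]

theorem Rel.eG_mul (h : Rel z a b c d r s) {v w : ℕ} (hv : v < 16) (hw : w < 16) :
    eG z a b s v * eG z a b s w = eG z a b s (v ^^^ w) := by
  obtain ⟨h1, h2⟩ := code_xor v hv w hw
  have h3 := h.word (wE v ++ wE w) (wE (v ^^^ w)) (by
    rw [List.all_eq_true]
    intro y hy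
    rcases List.mem_append.mp hy with hy | hy
    · rcases List.mem_append.mp hy with hy | hy
      · exact Nat.ble_eq_true_of_le (wE_lt v hv y hy)
      · exact Nat.ble_eq_true_of_le (wE_lt w hw y hy)
    · exact Nat.ble_eq_true_of_le (wE_lt _ h2 y hy)) (by
    rw [evN_append _ _ (wE_lt v hv) (wE_lt w hw), cE_eq v hv, cE_eq w hw, cE_eq _ h2, h1])
  rwa [ev_append, ev_wE v hv, ev_wE w hw, ev_wE _ h2] at h3

theorem Rel.fG_mul (h : Rel z a b c d r s) {v w : ℕ} (hv : v < 8) (hw : w < 8) :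
    fG z a c v * fG z a c w = fG z a c (v ^^^ w) := by
  obtain ⟨h1, h2⟩ := code_F_xor v hv w hw
  have h3 := h.word (wF v ++ wF w) (wF (v ^^^ w)) (by
    rw [List.all_eq_true]
    intro y hy
    rcases List.mem_append.mp hy with hy | hy
    · rcases List.mem_append.mp hy with hy | hy
      · exact Nat.ble_eq_true_of_le (wF_lt v hv y hy)
      · exact Nat.ble_eq_true_of_le (wF_lt w hw y hy)
    · exact Nat.ble_eq_true_of_le (wF_lt _ h2 y hy)) (by
    rw [evN_append _ _ (wF_lt v hv) (wF_lt w hw), cF_eq v hv, cF_eq w hw, cF_eq _ h2, h1])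
  rwa [ev_append, ev_wF v hv, ev_wF w hw, ev_wF _ h2] at h3

namespace Tab

variable {t : ℕ → G} (T : Tab z a b c d r s t)
include T

theorem ev (w : List ℕ) (hw : ∀ y ∈ w, y < 8) :
    evN w ∈ Lc ∧ t (evN w) = Cfsg.Agent.SporadicRecognition.CosetCert.ev (lt z a b c d r s) w := by
  induction w with
  | nil => exact ⟨Lc_one, T.one⟩
  | cons x w ih =>
    obtain ⟨h1, h2⟩ := ih (fun y hy => hw y (by simp [hy]))
    have hx := hw x (by simp)
    obtain ⟨h3, h4⟩ := T.mul (cl x) (cl_mem x hx) (evN w) h1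
    refine ⟨h3, ?_⟩
    rw [ev_cons, ← h2, ← T.let' x hx, h4]
    rfl

theorem e {v : ℕ} (hv : v < 16) : cE v ∈ Lc ∧ t (cE v) = eG z a b s v := by
  obtain ⟨h1, h2⟩ := T.ev (wE v) (wE_lt v hv)
  rw [cE_eq v hv] at h1 h2
  exact ⟨h1, by rw [h2, ev_wE v hv]⟩

theorem f {v : ℕ} (hv : v < 8) : cF v ∈ Lc ∧ t (cF v) = fG z a c v := by
  obtain ⟨h1, h2⟩ := T.ev (wF v) (wF_lt v hv)
  rw [cF_eq v hv] at h1 h2
  exact ⟨h1, by rw [h2, ev_wF v hv]⟩

theorem mul_eq {n m k l : ℕ} (hn : n ∈ Lc) (hm : m ∈ Lc) (hk : k ∈ Lc) (hl : l ∈ Lc) :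
    t n * t m = t k * t l ↔ mulN n m = mulN k l := by
  obtain ⟨h1, h2⟩ := T.mul n hn m hm
  obtain ⟨h3, h4⟩ := T.mul k hk l hl
  rw [h2, h4]
  exact ⟨T.inj _ h1 _ h3, fun h => by rw [h]⟩

theorem mul_eq3 {n m j k l : ℕ} (hn : n ∈ Lc) (hm : m ∈ Lc) (hj : j ∈ Lc) (hk : k ∈ Lc) (hl : l ∈ Lc) :
    t n * t m = t j * (t k * t l) ↔ mulN n m = mulN j (mulN k l) := by
  obtain ⟨h1, h2⟩ := T.mul k hk l hl
  rw [h2]
  exact T.mul_eq hn hm hj h1

theorem mul_one' {n m : ℕ} (hn : n ∈ Lc) (hm : m ∈ Lc) : t n * t m = 1 ↔ mulN n m = 16434824 := by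
  obtain ⟨h1, h2⟩ := T.mul n hn m hm
  rw [h2, ← T.one]
  exact ⟨T.inj _ h1 _ Lc_one, fun h => by rw [h]⟩

theorem tz : 14570689 ∈ Lc ∧ t 14570689 = z := T.e (v := 1) (by norm_num)
theorem ta : 11788826 ∈ Lc ∧ t 11788826 = a := T.e (v := 2) (by norm_num)
theorem tb : 11788371 ∈ Lc ∧ t 11788371 = b := T.e (v := 4) (by norm_num)
theorem tu : 14571144 ∈ Lc ∧ t 14571144 = z * (a * b) := T.e (v := 7) (by norm_num)
theorem ts : 9925825 ∈ Lc ∧ t 9925825 = s := T.e (v := 8) (by norm_num)
theorem tzs : 11789960 ∈ Lc ∧ t 11789960 = z * s := T.e (v := 9) (by norm_num)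
theorem tc : 2206526 ∈ Lc ∧ t 2206526 = c := T.f (v := 4) (by norm_num)

end Tab

namespace F1

variable (h : F1 z a b c d r s)
include h

theorem mem_cent {x : G} : x ∈ Subgroup.centralizer {z} ↔ x * z = z * x := by
  rw [Subgroup.mem_centralizer_singleton_iff]

/-- classes of involutions in the centraliser -/
theorem invol {x : G} (hx : x * z = z * x) (hxx : x * x = 1) : x = 1 ∨ x = z ∨
    ∃ y, y * z = z * y ∧ (x * y = y * a ∨ x * y = y * b ∨ x * y = y * (z * (a * b)) ∨ x * y = y * s ∨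
      x * y = y * (z * s)) := by
  obtain ⟨t, T⟩ := h.exists_tab
  obtain ⟨n, hn, rfl⟩ := (T.mem x).1 (h.mem_cent.2 hx)
  rw [T.mul_one' hn hn] at hxx
  rcases code_invol n hn hxx with h1 | h1 | ⟨m, hm, w, hw, h1⟩
  · left; rw [h1, T.one]
  · right; left; rw [h1, T.tz.2]
  · right; right
    refine ⟨t m, h.mem_cent.1 ((T.mem _).2 ⟨m, hm, rfl⟩), ?_⟩
    simp only [List.mem_cons, List.not_mem_nil, or_false] at hw
    rcases hw with rfl | rfl | rfl | rfl | rfl
    · left; rw [← T.ta.2, T.mul_eq hn hm hm T.ta.1, h1]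
    · right; left; rw [← T.tb.2, T.mul_eq hn hm hm T.tb.1, h1]
    · right; right; left; rw [← T.tu.2, T.mul_eq hn hm hm T.tu.1, h1]
    · right; right; right; left; rw [← T.ts.2, T.mul_eq hn hm hm T.ts.1, h1]
    · right; right; right; right; rw [← T.tzs.2, T.mul_eq hn hm hm T.tzs.1, h1]

theorem cent_s {x : G} (hx : x * z = z * x) (hxs : x * s = s * x) : ∃ v < 16, x = eG z a b s v := by
  obtain ⟨t, T⟩ := h.exists_tab
  obtain ⟨n, hn, rfl⟩ := (T.mem x).1 (h.mem_cent.2 hx)
  rw [← T.ts.2, T.mul_eq hn T.ts.1 T.ts.1 hn] at hxs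
  obtain ⟨v, hv, rfl⟩ := code_centS n hn hxs
  exact ⟨v, hv, (T.e hv).2⟩

theorem cent_ac {x : G} (hx : x * z = z * x) (hxa : x * a = a * x) (hxc : x * c = c * x) :
    ∃ v < 8, x = fG z a c v := by
  obtain ⟨t, T⟩ := h.exists_tab
  obtain ⟨n, hn, rfl⟩ := (T.mem x).1 (h.mem_cent.2 hx)
  rw [← T.ta.2, T.mul_eq hn T.ta.1 T.ta.1 hn] at hxa
  rw [← T.tc.2, T.mul_eq hn T.tc.1 T.tc.1 hn] at hxc
  obtain ⟨v, hv, rfl⟩ := code_centA n hn hxa hxc
  exact ⟨v, hv, (T.f hv).2⟩

theorem prop_P {x y w : G} (hx : x * z = z * x) (hxa : x * a = a * x) (hxx : x * x = 1)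
    (hy : y * z = z * y) (hya : y * a = a * y) (hxy : x * y = z * (y * x))
    (hw : w * z = z * w) (hwa : w * a = a * w) (hxw : x * w = a * (w * x)) :
    ∃ v < 8, 4 ≤ v ∧ x = fG z a c v := by
  obtain ⟨t, T⟩ := h.exists_tab
  obtain ⟨n, hn, rfl⟩ := (T.mem x).1 (h.mem_cent.2 hx)
  obtain ⟨m, hm, rfl⟩ := (T.mem y).1 (h.mem_cent.2 hy)
  obtain ⟨k, hk, rfl⟩ := (T.mem w).1 (h.mem_cent.2 hw)
  have h1 := (T.mul_eq hn T.ta.1 T.ta.1 hn).1 (by rw [T.ta.2, hxa])
  have h2 := (T.mul_eq hm T.ta.1 T.ta.1 hm).1 (by rw [T.ta.2, hya])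
  have h3 := (T.mul_eq hk T.ta.1 T.ta.1 hk).1 (by rw [T.ta.2, hwa])
  have h4 := (T.mul_eq3 hn hm T.tz.1 hm hn).1 (by rw [T.tz.2, hxy])
  have h5 := (T.mul_eq3 hn hk T.ta.1 hk hn).1 (by rw [T.ta.2, hxw])
  rw [T.mul_one' hn hn] at hxx
  obtain ⟨v, hv, hv4, rfl⟩ := code_P n hn h1 hxx ⟨m, hm, h2, h4⟩ ⟨k, hk, h3, h5⟩
  exact ⟨v, hv, hv4, (T.f hv).2⟩

theorem prop_B {x : G} (hx : x * z = z * x) (hxa : x * a = a * x) (hxx : x * x = 1)
    (hxc : c * x = a * (x * c)) : x = s ∨ x = z * s ∨ x = a * s ∨ x = z * (a * s) := by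
  obtain ⟨t, T⟩ := h.exists_tab
  obtain ⟨n, hn, rfl⟩ := (T.mem x).1 (h.mem_cent.2 hx)
  have h1 := (T.mul_eq hn T.ta.1 T.ta.1 hn).1 (by rw [T.ta.2, hxa])
  have h4 := (T.mul_eq3 T.tc.1 hn T.ta.1 hn T.tc.1).1 (by rw [T.ta.2, T.tc.2, hxc])
  rw [T.mul_one' hn hn] at hxx
  obtain ⟨v, hv, hv4, rfl⟩ := code_B n hn h1 hxx h4
  rcases hv4 with rfl | rfl | rfl | rfl
  · left; exact (T.e hv).2
  · right; left; exact (T.e hv).2
  · right; right; left; exact (T.e hv).2
  · right; right; right; exact (T.e hv).2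

/-- the centraliser of `z` and `b` has exponent four -/
theorem cent_exp {x : G} (hx : x * z = z * x) (hxb : x * b = b * x) : (x * x) * (x * x) = 1 := by
  obtain ⟨t, T⟩ := h.exists_tab
  obtain ⟨n, hn, rfl⟩ := (T.mem x).1 (h.mem_cent.2 hx)
  rw [← T.tb.2, T.mul_eq hn T.tb.1 T.tb.1 hn] at hxb
  have h1 := code_exp n hn hxb
  obtain ⟨h2, h3⟩ := T.mul n hn n hn
  rw [h3, T.mul_one' h2 h2]
  exact h1

/-- elements of the centraliser normalising `E` act in one of four ways -/
theorem nce {x : G} (hx : x * z = z * x) {A1 A2 A3 : ℕ} (h1 : A1 < 16) (h2 : A2 < 16) (h3 : A3 < 16)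
    (ha : a * x = x * eG z a b s A1) (hb : b * x = x * eG z a b s A2) (hs : s * x = x * eG z a b s A3) :
    (A1, A2, A3) ∈ [(2, 4, 8), (2, 5, 10), (3, 4, 12), (3, 5, 15)] := by
  obtain ⟨t, T⟩ := h.exists_tab
  obtain ⟨n, hn, rfl⟩ := (T.mem x).1 (h.mem_cent.2 hx)
  refine code_NCE n hn A1 h1 ?_ A2 h2 ?_ A3 h3 ?_
  · rw [← T.mul_eq T.ta.1 hn hn (T.e h1).1, T.ta.2, (T.e h1).2, ha]
  · rw [← T.mul_eq T.tb.1 hn hn (T.e h2).1, T.tb.2, (T.e h2).2, hb]
  · rw [← T.mul_eq T.ts.1 hn hn (T.e h3).1, T.ts.2, (T.e h3).2, hs]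

end F1

end Cfsg.Agent.AltType

private theorem dce_1c9b9b3eb1ac : _root_.True := by
  try have : _root_.True := by simp only [_root_.Cfsg.Agent.AltType.eG.eq_14]
  try have : _root_.True := by simp only [_root_.Cfsg.Agent.AltType.fG.eq_6]
  try have : _root_.True := by simp only [_root_.Cfsg.Agent.AltType.eG.eq_12]
  try have : _root_.True := by simp only [_root_.Cfsg.Agent.AltType.wE.eq_5]
  try have : _root_.True := by simp only [_root_.Cfsg.Agent.AltType.wE.eq_1]
  try have : _root_.True := by simp only [_root_.Cfsg.Agent.AltType.wF.eq_8]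
  try have : _root_.True := by simp only [_root_.Cfsg.Agent.AltType.fG.eq_2]
  try have : _root_.True := by simp only [_root_.Cfsg.Agent.AltType.wF.eq_4]
  try have : _root_.True := by simp only [_root_.Cfsg.Agent.AltType.wF.eq_6]
  try have : _root_.True := by simp only [_root_.Cfsg.Agent.AltType.wE.eq_13]
  try have : _root_.True := by simp only [_root_.Cfsg.Agent.AltType.wE.eq_11]
  try have : _root_.True := by simp only [_root_.Cfsg.Agent.AltType.wF.eq_5]
  try have : _root_.True := by simp only [_root_.Cfsg.Agent.AltType.fG.eq_8]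
  try have : _root_.True := by simp only [_root_.Cfsg.Agent.AltType.eG.eq_10]
  try have : _root_.True := by simp only [_root_.Cfsg.Agent.AltType.fG.eq_4]
  try have : _root_.True := by simp only [_root_.Cfsg.Agent.AltType.wF.eq_2]
  try have : _root_.True := by simp only [_root_.Cfsg.Agent.AltType.eG.eq_8]
  try have : _root_.True := by simp only [_root_.Cfsg.Agent.AltType.eG.eq_4]
  try have : _root_.True := by simp only [_root_.Cfsg.Agent.AltType.wE.eq_15]
  try have : _root_.True := by simp only [_root_.Cfsg.Agent.AltType.wF.eq_3]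
  try have : _root_.True := by simp only [_root_.Cfsg.Agent.AltType.fG.eq_7]
  try have : _root_.True := by simp only [_root_.Cfsg.Agent.AltType.eG.eq_15]
  try have : _root_.True := by simp only [_root_.Cfsg.Agent.AltType.fG.eq_5]
  try have : _root_.True := by simp only [_root_.Cfsg.Agent.AltType.eG.eq_1]
  try have : _root_.True := by simp only [_root_.Cfsg.Agent.AltType.wE.eq_16]
  try have : _root_.True := by simp only [_root_.Cfsg.Agent.AltType.eG.eq_2]
  try have : _root_.True := by simp only [_root_.Cfsg.Agent.AltType.wE.eq_2]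
  try have : _root_.True := by simp only [_root_.Cfsg.Agent.AltType.fG.eq_3]
  try have : _root_.True := by simp only [_root_.Cfsg.Agent.AltType.wF.eq_7]
  try have : _root_.True := by simp only [_root_.Cfsg.Agent.AltType.eG.eq_11]
  try have : _root_.True := by simp only [_root_.Cfsg.Agent.AltType.eG.eq_3]
  try have : _root_.True := by simp only [_root_.Cfsg.Agent.AltType.eG.eq_6]
  try have : _root_.True := by simp only [_root_.Cfsg.Agent.AltType.wE.eq_6]
  try have : _root_.True := by simp only [_root_.Cfsg.Agent.AltType.wE.eq_4]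
  try have : _root_.True := by simp only [_root_.Cfsg.Agent.AltType.wE.eq_8]
  try have : _root_.True := by simp only [_root_.Cfsg.Agent.AltType.fG.eq_1]
  try have : _root_.True := by simp only [_root_.Cfsg.Agent.AltType.eG.eq_5]
  try have : _root_.True := by simp only [_root_.Cfsg.Agent.AltType.wE.eq_12]
  try have : _root_.True := by simp only [_root_.Cfsg.Agent.AltType.eG.eq_9]
  try have : _root_.True := by simp only [_root_.Cfsg.Agent.AltType.eG.eq_7]
  try have : _root_.True := by simp only [_root_.Cfsg.Agent.AltType.wE.eq_9]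
  try have : _root_.True := by simp only [_root_.Cfsg.Agent.AltType.wE.eq_7]
  try have : _root_.True := by simp only [_root_.Cfsg.Agent.AltType.eG.eq_16]
  try have : _root_.True := by simp only [_root_.Cfsg.Agent.AltType.eG.eq_13]
  try have : _root_.True := by simp only [_root_.Cfsg.Agent.AltType.wF.eq_1]
  try have : _root_.True := by simp only [_root_.Cfsg.Agent.AltType.wE.eq_3]
  try have : _root_.True := by simp only [_root_.Cfsg.Agent.AltType.wE.eq_10]
  try have : _root_.True := by simp only [_root_.Cfsg.Agent.AltType.wE.eq_14]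
  exact _root_.True.intro
end

-- part: AltType/Sym
section
set_option linter.all false
open scoped Cfsg.Agent.FastGrp

/-!
The symmetries of the configuration.
-/

set_option autoImplicit false
set_option maxRecDepth 100000

namespace Cfsg.Agent.AltType

open Cfsg.Agent.SporadicRecognition.CosetCert Cfsg.Agent.SporadicRecognition.CosetCertHyp
  Cfsg.Agent.SporadicRecognition.CosetChain

variable {G : Type*} [Group G] {z a b c d r s : G}

/-- replace the second factor by the third -/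
theorem Rel.third (h : Rel z a b c d r s) : Rel z a (z * (a * b)) c (z * (c * d)) r s where
  zz := by simpa only [ev_cons, ev_nil, lt, mul_one, mul_assoc] using h.word [0,0] [] (by decide) (by decide +kernel)
  aa := by simpa only [ev_cons, ev_nil, lt, mul_one, mul_assoc] using h.word [1,1] [] (by decide) (by decide +kernel)
  bb := by simpa only [ev_cons, ev_nil, lt, mul_one, mul_assoc] using h.word [0,1,2,0,1,2] [] (by decide) (by decide +kernel)
  cc := by simpa only [ev_cons, ev_nil, lt, mul_one, mul_assoc] using h.word [3,3] [] (by decide) (by decide +kernel)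
  dd := by simpa only [ev_cons, ev_nil, lt, mul_one, mul_assoc] using h.word [0,3,4,0,3,4] [] (by decide) (by decide +kernel)
  ss := by simpa only [ev_cons, ev_nil, lt, mul_one, mul_assoc] using h.word [5,5] [] (by decide) (by decide +kernel)
  r3 := by simpa only [ev_cons, ev_nil, lt, mul_one, mul_assoc] using h.word [6,6,6] [] (by decide) (by decide +kernel)
  az := by simpa only [ev_cons, ev_nil, lt, mul_one, mul_assoc] using h.word [1,0] [0,1] (by decide) (by decide +kernel)
  bz := by simpa only [ev_cons, ev_nil, lt, mul_one, mul_assoc] using h.word [0,1,2,0] [0,0,1,2] (by decide) (by decide +kernel)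
  cz := by simpa only [ev_cons, ev_nil, lt, mul_one, mul_assoc] using h.word [3,0] [0,3] (by decide) (by decide +kernel)
  dz := by simpa only [ev_cons, ev_nil, lt, mul_one, mul_assoc] using h.word [0,3,4,0] [0,0,3,4] (by decide) (by decide +kernel)
  sz := by simpa only [ev_cons, ev_nil, lt, mul_one, mul_assoc] using h.word [5,0] [0,5] (by decide) (by decide +kernel)
  rz := by simpa only [ev_cons, ev_nil, lt, mul_one, mul_assoc] using h.word [6,0] [0,6] (by decide) (by decide +kernel)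
  ac := by simpa only [ev_cons, ev_nil, lt, mul_one, mul_assoc] using h.word [1,3] [3,1] (by decide) (by decide +kernel)
  bd := by simpa only [ev_cons, ev_nil, lt, mul_one, mul_assoc] using h.word [0,1,2,0,3,4] [0,3,4,0,1,2] (by decide) (by decide +kernel)
  ab := by simpa only [ev_cons, ev_nil, lt, mul_one, mul_assoc] using h.word [1,0,1,2] [0,1,2,1] (by decide) (by decide +kernel)
  cd := by simpa only [ev_cons, ev_nil, lt, mul_one, mul_assoc] using h.word [3,0,3,4] [0,3,4,3] (by decide) (by decide +kernel)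
  ad := by simpa only [ev_cons, ev_nil, lt, mul_one, mul_assoc] using h.word [1,0,3,4] [0,0,3,4,1] (by decide) (by decide +kernel)
  cb := by simpa only [ev_cons, ev_nil, lt, mul_one, mul_assoc] using h.word [3,0,1,2] [0,0,1,2,3] (by decide) (by decide +kernel)
  ar := by simpa only [ev_cons, ev_nil, lt, mul_one, mul_assoc] using h.word [1,6] [6,3] (by decide) (by decide +kernel)
  cr := by simpa only [ev_cons, ev_nil, lt, mul_one, mul_assoc] using h.word [3,6] [6,1,3] (by decide) (by decide +kernel)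
  br := by simpa only [ev_cons, ev_nil, lt, mul_one, mul_assoc] using h.word [0,1,2,6] [6,0,3,4] (by decide) (by decide +kernel)
  dr := by simpa only [ev_cons, ev_nil, lt, mul_one, mul_assoc] using h.word [0,3,4,6] [6,0,1,2,0,3,4] (by decide) (by decide +kernel)
  as := by simpa only [ev_cons, ev_nil, lt, mul_one, mul_assoc] using h.word [1,5] [5,1] (by decide) (by decide +kernel)
  cs := by simpa only [ev_cons, ev_nil, lt, mul_one, mul_assoc] using h.word [3,5] [5,1,3] (by decide) (by decide +kernel)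
  bs := by simpa only [ev_cons, ev_nil, lt, mul_one, mul_assoc] using h.word [0,1,2,5] [5,0,1,2] (by decide) (by decide +kernel)
  ds := by simpa only [ev_cons, ev_nil, lt, mul_one, mul_assoc] using h.word [0,3,4,5] [5,0,1,2,0,3,4] (by decide) (by decide +kernel)
  rsr := by simpa only [ev_cons, ev_nil, lt, mul_one, mul_assoc] using h.word [6,5,6] [5] (by decide) (by decide +kernel)

theorem F1.swap (h : F1 z a b c d r s) : F1 z b a d c r s where
  toRel := h.toRel.swap
  card := h.card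
  cent := by
    rw [h.cent]
    congr 1
    ext x
    simp only [Set.mem_insert_iff, Set.mem_singleton_iff]
    tauto

theorem F1.twist (h : F1 z a b c d r s) : F1 z a b c d r (s * z) where
  toRel := h.toRel.twist
  card := h.card
  cent := by
    rw [h.cent]
    apply le_antisymm
    · have hz : z ∈ Subgroup.closure ({z, a, b, c, d, r, s * z} : Set G) := Subgroup.subset_closure (by simp)
      have hs : s * z ∈ Subgroup.closure ({z, a, b, c, d, r, s * z} : Set G) := Subgroup.subset_closure (by simp)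
      have hs' : s ∈ Subgroup.closure ({z, a, b, c, d, r, s * z} : Set G) := by
        have := Subgroup.mul_mem _ hs hz
        rwa [mul_assoc, h.zz, mul_one] at this
      rw [Subgroup.closure_le]
      rintro x (rfl | rfl | rfl | rfl | rfl | rfl | rfl)
      iterate 6 exact Subgroup.subset_closure (by simp)
      exact hs'
    · have hz : z ∈ Subgroup.closure ({z, a, b, c, d, r, s} : Set G) := Subgroup.subset_closure (by simp)
      have hs : s ∈ Subgroup.closure ({z, a, b, c, d, r, s} : Set G) := Subgroup.subset_closure (by simp)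
      have hs' := Subgroup.mul_mem _ hs hz
      rw [Subgroup.closure_le]
      rintro x (rfl | rfl | rfl | rfl | rfl | rfl | rfl)
      iterate 6 exact Subgroup.subset_closure (by simp)
      exact hs'

theorem F1.third (h : F1 z a b c d r s) : F1 z a (z * (a * b)) c (z * (c * d)) r s where
  toRel := h.toRel.third
  card := h.card
  cent := by
    rw [h.cent]
    apply le_antisymm
    · set K := Subgroup.closure ({z, a, z * (a * b), c, z * (c * d), r, s} : Set G) with hK
      have hz : z ∈ K := Subgroup.subset_closure (by simp)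
      have ha : a ∈ K := Subgroup.subset_closure (by simp)
      have hc : c ∈ K := Subgroup.subset_closure (by simp)
      have hu : z * (a * b) ∈ K := Subgroup.subset_closure (by simp)
      have hv : z * (c * d) ∈ K := Subgroup.subset_closure (by simp)
      have hr : r ∈ K := Subgroup.subset_closure (by simp)
      have hs : s ∈ K := Subgroup.subset_closure (by simp)
      have hb : b ∈ K := by
        have := Subgroup.mul_mem _ (Subgroup.mul_mem _ ha hz) hu
        rwa [show a * z * (z * (a * b)) = a * (z * z) * a * b by group, h.zz, mul_one, h.aa, one_mul] at this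
      have hd : d ∈ K := by
        have := Subgroup.mul_mem _ (Subgroup.mul_mem _ hc hz) hv
        rwa [show c * z * (z * (c * d)) = c * (z * z) * c * d by group, h.zz, mul_one, h.cc, one_mul] at this
      rw [Subgroup.closure_le]
      rintro x (rfl | rfl | rfl | rfl | rfl | rfl | rfl)
      exacts [hz, ha, hb, hc, hd, hr, hs]
    · set K := Subgroup.closure ({z, a, b, c, d, r, s} : Set G) with hK
      have hz : z ∈ K := Subgroup.subset_closure (by simp)
      have ha : a ∈ K := Subgroup.subset_closure (by simp)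
      have hb : b ∈ K := Subgroup.subset_closure (by simp)
      have hc : c ∈ K := Subgroup.subset_closure (by simp)
      have hd : d ∈ K := Subgroup.subset_closure (by simp)
      have hr : r ∈ K := Subgroup.subset_closure (by simp)
      have hs : s ∈ K := Subgroup.subset_closure (by simp)
      have hu := Subgroup.mul_mem _ hz (Subgroup.mul_mem _ ha hb)
      have hv := Subgroup.mul_mem _ hz (Subgroup.mul_mem _ hc hd)
      rw [Subgroup.closure_le]
      rintro x (rfl | rfl | rfl | rfl | rfl | rfl | rfl)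
      exacts [hz, ha, hu, hc, hv, hr, hs]

end Cfsg.Agent.AltType
end

-- part: AltType/Lin
section
set_option linter.all false
open scoped Cfsg.Agent.FastGrp

/-!
Linear action on `E = ⟨z, a, b, s⟩` and on `A₁ = ⟨z, a, c⟩`, in coordinates.
-/

set_option autoImplicit false
set_option maxRecDepth 100000

namespace Cfsg.Agent.AltType

variable {G : Type*} [Group G] {z a b c d r s : G}

/-- images of the basis `z, a, b, s` -/
structure Mat where
  A0 : ℕ
  A1 : ℕ
  A2 : ℕ
  A3 : ℕ
deriving DecidableEq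

/-- application of a matrix -/
def app (A : Mat) : ℕ → ℕ
  | 0 => 0
  | 1 => A.A0
  | 2 => A.A1
  | 3 => A.A0 ^^^ A.A1
  | 4 => A.A2
  | 5 => A.A0 ^^^ A.A2
  | 6 => A.A1 ^^^ A.A2
  | 7 => A.A0 ^^^ (A.A1 ^^^ A.A2)
  | 8 => A.A3
  | 9 => A.A0 ^^^ A.A3
  | 10 => A.A1 ^^^ A.A3
  | 11 => A.A0 ^^^ (A.A1 ^^^ A.A3)
  | 12 => A.A2 ^^^ A.A3
  | 13 => A.A0 ^^^ (A.A2 ^^^ A.A3)
  | 14 => A.A1 ^^^ (A.A2 ^^^ A.A3)
  | _ => A.A0 ^^^ (A.A1 ^^^ (A.A2 ^^^ A.A3))

/-- first `A`, then `B` -/
def cmp (A B : Mat) : Mat := ⟨app B A.A0, app B A.A1, app B A.A2, app B A.A3⟩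

/-- `n` normalises `E` and acts by `x ↦ n⁻¹ x n` with matrix `A` -/
structure Act (z a b s n : G) (A : Mat) : Prop where
  l0 : A.A0 < 16
  l1 : A.A1 < 16
  l2 : A.A2 < 16
  l3 : A.A3 < 16
  e0 : z * n = n * eG z a b s A.A0
  e1 : a * n = n * eG z a b s A.A1
  e2 : b * n = n * eG z a b s A.A2
  e3 : s * n = n * eG z a b s A.A3

theorem Rel.comb (h : Rel z a b c d r s) {n x y : G} {V W : ℕ} (hV : V < 16) (hW : W < 16)
    (hx : x * n = n * eG z a b s V) (hy : y * n = n * eG z a b s W) :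
    x * y * n = n * eG z a b s (V ^^^ W) := by
  rw [mul_assoc, hy, ← mul_assoc, hx, mul_assoc, h.eG_mul hV hW]

theorem xlt {V W : ℕ} (hV : V < 16) (hW : W < 16) : V ^^^ W < 16 := (code_xor V hV W hW).2

theorem Rel.act_app (h : Rel z a b c d r s) {n : G} {A : Mat} (hA : Act z a b s n A) {v : ℕ} (hv : v < 16) :
    eG z a b s v * n = n * eG z a b s (app A v) ∧ app A v < 16 := by
  have h0 := hA.e0
  have h1 := hA.e1
  have h2 := hA.e2
  have h3 := hA.e3
  have l0 := hA.l0
  have l1 := hA.l1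
  have l2 := hA.l2
  have l3 := hA.l3
  interval_cases v
  · exact ⟨by show 1 * n = n * 1; rw [one_mul, mul_one], by show 0 < 16; norm_num⟩
  · exact ⟨h0, l0⟩
  · exact ⟨h1, l1⟩
  · exact ⟨h.comb l0 l1 h0 h1, xlt l0 l1⟩
  · exact ⟨h2, l2⟩
  · exact ⟨h.comb l0 l2 h0 h2, xlt l0 l2⟩
  · exact ⟨h.comb l1 l2 h1 h2, xlt l1 l2⟩
  · exact ⟨h.comb l0 (xlt l1 l2) h0 (h.comb l1 l2 h1 h2), xlt l0 (xlt l1 l2)⟩
  · exact ⟨h3, l3⟩
  · exact ⟨h.comb l0 l3 h0 h3, xlt l0 l3⟩
  · exact ⟨h.comb l1 l3 h1 h3, xlt l1 l3⟩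
  · exact ⟨h.comb l0 (xlt l1 l3) h0 (h.comb l1 l3 h1 h3), xlt l0 (xlt l1 l3)⟩
  · exact ⟨h.comb l2 l3 h2 h3, xlt l2 l3⟩
  · exact ⟨h.comb l0 (xlt l2 l3) h0 (h.comb l2 l3 h2 h3), xlt l0 (xlt l2 l3)⟩
  · exact ⟨h.comb l1 (xlt l2 l3) h1 (h.comb l2 l3 h2 h3), xlt l1 (xlt l2 l3)⟩
  · exact ⟨h.comb l0 (xlt l1 (xlt l2 l3)) h0 (h.comb l1 (xlt l2 l3) h1 (h.comb l2 l3 h2 h3)),
      xlt l0 (xlt l1 (xlt l2 l3))⟩

theorem Rel.act_mul (h : Rel z a b c d r s) {n m : G} {A B : Mat} (hA : Act z a b s n A) (hB : Act z a b s m B) :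
    Act z a b s (n * m) (cmp A B) where
  l0 := (h.act_app hB hA.l0).2
  l1 := (h.act_app hB hA.l1).2
  l2 := (h.act_app hB hA.l2).2
  l3 := (h.act_app hB hA.l3).2
  e0 := by rw [← mul_assoc, hA.e0, mul_assoc, (h.act_app hB hA.l0).1, ← mul_assoc]; rfl
  e1 := by rw [← mul_assoc, hA.e1, mul_assoc, (h.act_app hB hA.l1).1, ← mul_assoc]; rfl
  e2 := by rw [← mul_assoc, hA.e2, mul_assoc, (h.act_app hB hA.l2).1, ← mul_assoc]; rfl
  e3 := by rw [← mul_assoc, hA.e3, mul_assoc, (h.act_app hB hA.l3).1, ← mul_assoc]; rfl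

/-- action of `c` -/
theorem Rel.act_c (h : Rel z a b c d r s) : Act z a b s c ⟨1, 2, 5, 10⟩ where
  l0 := by norm_num
  l1 := by norm_num
  l2 := by norm_num
  l3 := by norm_num
  e0 := h.cz.symm
  e1 := h.ac
  e2 := by
    show b * c = c * (z * b)
    rw [h.bc, ← mul_assoc, ← mul_assoc, h.cz]
  e3 := by
    show s * c = c * (a * s)
    have h1 := h.cs
    have : s * (a * (a * c)) = a * (s * (a * c)) := by rw [← mul_assoc s a, ← h.as, mul_assoc]
    rw [← h1, ← mul_assoc a a c, h.aa, one_mul] at this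
    rw [this, ← mul_assoc, h.ac, mul_assoc]

/-- action of `d` -/
theorem Rel.act_d (h : Rel z a b c d r s) : Act z a b s d ⟨1, 3, 4, 12⟩ where
  l0 := by norm_num
  l1 := by norm_num
  l2 := by norm_num
  l3 := by norm_num
  e0 := h.dz.symm
  e1 := by
    show a * d = d * (z * a)
    rw [h.ad, ← mul_assoc, ← mul_assoc, h.dz]
  e2 := h.bd
  e3 := by
    show s * d = d * (b * s)
    have h1 := h.ds
    have : s * (b * (b * d)) = b * (s * (b * d)) := by rw [← mul_assoc s b, ← h.bs, mul_assoc]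
    rw [← h1, ← mul_assoc b b d, h.bb, one_mul] at this
    rw [this, ← mul_assoc, h.bd, mul_assoc]

/-- injectivity of the coordinates, given that `z, a, b, s` generate a group of order 16 -/
theorem F1.eG_inj (h : F1 z a b c d r s) {v w : ℕ} (hv : v < 16) (hw : w < 16)
    (hvw : eG z a b s v = eG z a b s w) : v = w := by
  obtain ⟨t, T⟩ := h.exists_tab
  rw [← (T.e hv).2, ← (T.e hw).2] at hvw
  have := T.inj _ (T.e hv).1 _ (T.e hw).1 hvw
  revert this
  have key : ∀ v < 16, ∀ w < 16, cE v = cE w → v = w := by decide +kernel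
  exact key v hv w hw

theorem F1.fG_inj (h : F1 z a b c d r s) {v w : ℕ} (hv : v < 8) (hw : w < 8)
    (hvw : fG z a c v = fG z a c w) : v = w := by
  obtain ⟨t, T⟩ := h.exists_tab
  rw [← (T.f hv).2, ← (T.f hw).2] at hvw
  have := T.inj _ (T.f hv).1 _ (T.f hw).1 hvw
  revert this
  have key : ∀ v < 8, ∀ w < 8, cF v = cF w → v = w := by decide +kernel
  exact key v hv w hw

theorem F1.z_ne_one (h : F1 z a b c d r s) : z ≠ 1 := fun h1 => by
  have := h.eG_inj (v := 1) (w := 0) (by norm_num) (by norm_num) h1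
  norm_num at this

/-- elements fixing `z` and normalising `E` act in one of four ways -/
theorem F1.four (h : F1 z a b c d r s) {n : G} {A : Mat} (hA : Act z a b s n A) (h0 : A.A0 = 1) :
    (A.A1, A.A2, A.A3) ∈ [(2, 4, 8), (2, 5, 10), (3, 4, 12), (3, 5, 15)] := by
  have h1 := hA.e0
  rw [h0] at h1
  exact h.nce (x := n) h1.symm hA.l1 hA.l2 hA.l3 hA.e1 hA.e2 hA.e3

/-- The matrix is determined by the element. -/
theorem F1.act_unique (h : F1 z a b c d r s) {n : G} {A B : Mat} (hA : Act z a b s n A) (hB : Act z a b s n B) :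
    A = B := by
  obtain ⟨A0, A1, A2, A3⟩ := A
  obtain ⟨B0, B1, B2, B3⟩ := B
  have h0 := h.eG_inj hA.l0 hB.l0 (mul_left_cancel (hA.e0.symm.trans hB.e0))
  have h1 := h.eG_inj hA.l1 hB.l1 (mul_left_cancel (hA.e1.symm.trans hB.e1))
  have h2 := h.eG_inj hA.l2 hB.l2 (mul_left_cancel (hA.e2.symm.trans hB.e2))
  have h3 := h.eG_inj hA.l3 hB.l3 (mul_left_cancel (hA.e3.symm.trans hB.e3))
  simp only at h0 h1 h2 h3
  rw [h0, h1, h2, h3]

end Cfsg.Agent.AltType
end

-- part: AltType/LinF
section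
set_option linter.all false
open scoped Cfsg.Agent.FastGrp

/-!
Linear action on `A₁ = ⟨z, a, c⟩`, in coordinates.
-/

set_option autoImplicit false
set_option maxRecDepth 100000

namespace Cfsg.Agent.AltType

variable {G : Type*} [Group G] {z a b c d r s : G}

/-- images of the basis `z, a, c` -/
structure MatF where
  A0 : ℕ
  A1 : ℕ
  A2 : ℕ
deriving DecidableEq

/-- application of a matrix -/
def appF (A : MatF) : ℕ → ℕ
  | 0 => 0
  | 1 => A.A0
  | 2 => A.A1
  | 3 => A.A0 ^^^ A.A1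
  | 4 => A.A2
  | 5 => A.A0 ^^^ A.A2
  | 6 => A.A1 ^^^ A.A2
  | _ => A.A0 ^^^ (A.A1 ^^^ A.A2)

/-- first `A`, then `B` -/
def cmpF (A B : MatF) : MatF := ⟨appF B A.A0, appF B A.A1, appF B A.A2⟩

/-- `n` normalises `A₁` and acts by `x ↦ n⁻¹ x n` with matrix `A` -/
structure ActF (z a c n : G) (A : MatF) : Prop where
  l0 : A.A0 < 8
  l1 : A.A1 < 8
  l2 : A.A2 < 8
  e0 : z * n = n * fG z a c A.A0
  e1 : a * n = n * fG z a c A.A1
  e2 : c * n = n * fG z a c A.A2

theorem Rel.combF (h : Rel z a b c d r s) {n x y : G} {V W : ℕ} (hV : V < 8) (hW : W < 8)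
    (hx : x * n = n * fG z a c V) (hy : y * n = n * fG z a c W) :
    x * y * n = n * fG z a c (V ^^^ W) := by
  rw [mul_assoc, hy, ← mul_assoc, hx, mul_assoc, h.fG_mul hV hW]

theorem xltF {V W : ℕ} (hV : V < 8) (hW : W < 8) : V ^^^ W < 8 := (code_F_xor V hV W hW).2

theorem Rel.actF_app (h : Rel z a b c d r s) {n : G} {A : MatF} (hA : ActF z a c n A) {v : ℕ} (hv : v < 8) :
    fG z a c v * n = n * fG z a c (appF A v) ∧ appF A v < 8 := by
  have h0 := hA.e0
  have h1 := hA.e1
  have h2 := hA.e2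
  have l0 := hA.l0
  have l1 := hA.l1
  have l2 := hA.l2
  interval_cases v
  · exact ⟨by show 1 * n = n * 1; rw [one_mul, mul_one], by show 0 < 8; norm_num⟩
  · exact ⟨h0, l0⟩
  · exact ⟨h1, l1⟩
  · exact ⟨h.combF l0 l1 h0 h1, xltF l0 l1⟩
  · exact ⟨h2, l2⟩
  · exact ⟨h.combF l0 l2 h0 h2, xltF l0 l2⟩
  · exact ⟨h.combF l1 l2 h1 h2, xltF l1 l2⟩
  · exact ⟨h.combF l0 (xltF l1 l2) h0 (h.combF l1 l2 h1 h2), xltF l0 (xltF l1 l2)⟩

theorem Rel.actF_mul (h : Rel z a b c d r s) {n m : G} {A B : MatF} (hA : ActF z a c n A) (hB : ActF z a c m B) :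
    ActF z a c (n * m) (cmpF A B) where
  l0 := (h.actF_app hB hA.l0).2
  l1 := (h.actF_app hB hA.l1).2
  l2 := (h.actF_app hB hA.l2).2
  e0 := by rw [← mul_assoc, hA.e0, mul_assoc, (h.actF_app hB hA.l0).1, ← mul_assoc]; rfl
  e1 := by rw [← mul_assoc, hA.e1, mul_assoc, (h.actF_app hB hA.l1).1, ← mul_assoc]; rfl
  e2 := by rw [← mul_assoc, hA.e2, mul_assoc, (h.actF_app hB hA.l2).1, ← mul_assoc]; rfl

theorem Rel.actF_one (h : Rel z a b c d r s) : ActF z a c 1 ⟨1, 2, 4⟩ where
  l0 := by norm_num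
  l1 := by norm_num
  l2 := by norm_num
  e0 := by rw [mul_one, one_mul]; rfl
  e1 := by rw [mul_one, one_mul]; rfl
  e2 := by rw [mul_one, one_mul]; rfl

theorem Rel.actF_r (h : Rel z a b c d r s) : ActF z a c r ⟨1, 4, 6⟩ where
  l0 := by norm_num
  l1 := by norm_num
  l2 := by norm_num
  e0 := h.rz.symm
  e1 := h.ar
  e2 := h.cr

theorem Rel.actF_s (h : Rel z a b c d r s) : ActF z a c s ⟨1, 2, 6⟩ where
  l0 := by norm_num
  l1 := by norm_num
  l2 := by norm_num
  e0 := h.sz.symm
  e1 := h.as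
  e2 := h.cs

theorem Rel.actF_b (h : Rel z a b c d r s) : ActF z a c b ⟨1, 2, 5⟩ where
  l0 := by norm_num
  l1 := by norm_num
  l2 := by norm_num
  e0 := h.bz.symm
  e1 := h.ab
  e2 := by
    show c * b = b * (z * c)
    rw [h.cb, ← mul_assoc, ← mul_assoc, h.bz]

theorem Rel.actF_d (h : Rel z a b c d r s) : ActF z a c d ⟨1, 3, 4⟩ where
  l0 := by norm_num
  l1 := by norm_num
  l2 := by norm_num
  e0 := h.dz.symm
  e1 := by
    show a * d = d * (z * a)
    rw [h.ad, ← mul_assoc, ← mul_assoc, h.dz]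
  e2 := h.cd

/-- an element acting trivially on `A₁` lies in `A₁` -/
theorem F1.actF_triv (h : F1 z a b c d r s) {n : G} (hA : ActF z a c n ⟨1, 2, 4⟩) : ∃ v < 8, n = fG z a c v :=
  h.cent_ac hA.e0.symm hA.e1.symm hA.e2.symm

/-- an element of `A₁` commuting with `n` has coordinates fixed by the matrix of `n` -/
theorem F1.actF_fix (h : F1 z a b c d r s) {n : G} {A : MatF} (hA : ActF z a c n A) {v : ℕ} (hv : v < 8)
    (hc : fG z a c v * n = n * fG z a c v) : appF A v = v := by
  obtain ⟨h1, h2⟩ := h.actF_app hA hv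
  exact h.fG_inj h2 hv (mul_left_cancel (h1.symm.trans hc))

theorem F1.act_fix (h : F1 z a b c d r s) {n : G} {A : Mat} (hA : Act z a b s n A) {v : ℕ} (hv : v < 16)
    (hc : eG z a b s v * n = n * eG z a b s v) : app A v = v := by
  obtain ⟨h1, h2⟩ := h.act_app hA hv
  exact h.eG_inj h2 hv (mul_left_cancel (h1.symm.trans hc))

theorem Rel.act_one (h : Rel z a b c d r s) : Act z a b s 1 ⟨1, 2, 4, 8⟩ where
  l0 := by norm_num
  l1 := by norm_num
  l2 := by norm_num
  l3 := by norm_num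
  e0 := by rw [mul_one, one_mul]; rfl
  e1 := by rw [mul_one, one_mul]; rfl
  e2 := by rw [mul_one, one_mul]; rfl
  e3 := by rw [mul_one, one_mul]; rfl

end Cfsg.Agent.AltType
end

-- part: AltType/GDefs
section
set_option linter.all false
open scoped Cfsg.Agent.FastGrp

/-!
The element `g` of order three with `z → a → z a`, and the relation `(r g)⁴ = 1`.
-/

set_option autoImplicit false
set_option maxRecDepth 100000

namespace Cfsg.Agent.AltType

open Cfsg.Agent.SporadicRecognition.CosetCert Cfsg.Agent.SporadicRecognition.CosetCertHyp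
  Cfsg.Agent.SporadicRecognition.CosetChain

variable {G : Type*} [Group G] {z a b c d r s g : G}

/-- relations of `g` without `(r g)⁴ = 1` -/
structure GRel0 (z a b c d s g : G) : Prop where
  g3 : g * (g * g) = 1
  zg : z * g = g * a
  ag : a * g = g * (z * a)
  cg : c * g = g * c
  bg : b * g = g * s
  sg : s * g = g * (b * s)
  gdg : g * (d * g) = d

/-- relations of `g` -/
structure GRel (z a b c d r s g : G) : Prop extends GRel0 z a b c d s g where
  rg : r * (g * (r * (g * (r * (g * (r * g)))))) = 1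

/-- letters for the certificate `EnP` -/
def lg (z a b c d r s g : G) : ℕ → G
  | 0 => z
  | 1 => a
  | 2 => b
  | 3 => c
  | 4 => d
  | 5 => s
  | 6 => r
  | 7 => r⁻¹
  | 8 => g
  | 9 => g⁻¹
  | _ => 1

def ivg : ℕ → ℕ
  | 6 => 7
  | 7 => 6
  | 8 => 9
  | 9 => 8
  | n => n

theorem lg_lt (k : ℕ) (hk : k < 8) : lg z a b c d r s g k = lt z a b c d r s k := by
  interval_cases k <;> rfl

theorem ev_congr {g₁ g₂ : ℕ → G} (w : List ℕ) (h : ∀ y ∈ w, g₁ y = g₂ y) : ev g₁ w = ev g₂ w := by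
  induction w with
  | nil => rfl
  | cons x w ih => rw [ev_cons, ev_cons, h x (by simp), ih (fun y hy => h y (by simp [hy]))]

theorem lg_inv (h : Rel z a b c d r s) (n : ℕ) (hn : n < 10) :
    ivg n < 10 ∧ lg z a b c d r s g n * lg z a b c d r s g (ivg n) = 1 := by
  interval_cases n
  · exact ⟨by decide, h.zz⟩
  · exact ⟨by decide, h.aa⟩
  · exact ⟨by decide, h.bb⟩
  · exact ⟨by decide, h.cc⟩
  · exact ⟨by decide, h.dd⟩
  · exact ⟨by decide, h.ss⟩
  · exact ⟨by decide, mul_inv_cancel r⟩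
  · exact ⟨by decide, inv_mul_cancel r⟩
  · exact ⟨by decide, mul_inv_cancel g⟩
  · exact ⟨by decide, inv_mul_cancel g⟩

def eqsG : List (List ℕ × List ℕ) := [([8,8,8],[]), ([0,8],[8,1]), ([1,8],[8,0,1]), ([3,8],[8,3]), ([2,8],[8,5]),
  ([5,8],[8,2,5]), ([8,4,8],[4]), ([6,8,6,8,6,8,6,8],[0,3])]

theorem ev_eqsG (h : GRel0 z a b c d s g) (hrg : r * (g * (r * (g * (r * (g * (r * g)))))) = z * c) :
    ∀ e ∈ eqsG, ev (lg z a b c d r s g) e.1 = ev (lg z a b c d r s g) e.2 := by
  intro e he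
  simp only [eqsG, List.mem_cons, List.not_mem_nil, or_false] at he
  rcases he with rfl | rfl | rfl | rfl | rfl | rfl | rfl | rfl
  all_goals simp only [ev_cons, ev_nil, lg, mul_one]
  · exact h.g3
  · exact h.zg
  · exact h.ag
  · exact h.cg
  · exact h.bg
  · exact h.sg
  · exact h.gdg
  · exact hrg

def relsP : List (List ℕ) := (eqs ++ eqsG).map fun e => e.1 ++ invw ivg e.2

theorem eqsP_lt : ∀ e ∈ eqs ++ eqsG, (∀ y ∈ e.1, y < 10) ∧ ∀ y ∈ e.2, y < 10 := by decide

theorem ev_relsP (h : Rel z a b c d r s) (hg : GRel0 z a b c d s g)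
    (hrg : r * (g * (r * (g * (r * (g * (r * g)))))) = z * c) :
    ∀ w ∈ relsP, ev (lg z a b c d r s g) w = 1 := by
  intro w hw
  obtain ⟨e, he, rfl⟩ := List.mem_map.mp hw
  have h1 : ev (lg z a b c d r s g) e.1 = ev (lg z a b c d r s g) e.2 := by
    rcases List.mem_append.mp he with he | he
    · have h2 := eqs_lt e he
      rw [ev_congr e.1 (fun y hy => lg_lt y (h2.1 y hy)), ev_congr e.2 (fun y hy => lg_lt y (h2.2 y hy))]
      exact ev_eqs h e he
    · exact ev_eqsG hg hrg e he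
  rw [ev_append, ev_invw (lg z a b c d r s g) ivg 10 (lg_inv h) e.2 (eqsP_lt e he).2, h1, mul_inv_cancel]

theorem collapse (h : Rel z a b c d r s) (hg : GRel0 z a b c d s g)
    (hrg : r * (g * (r * (g * (r * (g * (r * g)))))) = z * c) : z = 1 := by
  have key : ∀ w ∈ EnPData.rels, okRel ivg 10 relsP w = true := by decide +kernel
  have := EnP.eq_one (lg z a b c d r s g) (fun x hx => by
    have h1 := (lg_inv h (g := g) x hx).2
    interval_cases x <;> exact h1) (fun w hw => okRel_sound _ (lg_inv h) (ev_relsP h hg hrg) (key w hw)) [0]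
    (by simp [EnPData.targets])
  simpa only [ev_cons, ev_nil, lg, mul_one] using this

/-- `(r g)⁴ = 1` is a consequence of the other relations in presence of the centraliser. -/
theorem F1.grel_of_grel0 (h : F1 z a b c d r s) (hg : GRel0 z a b c d s g) : GRel z a b c d r s g := by
  refine ⟨hg, ?_⟩
  have hG : ActF z a c g ⟨2, 3, 4⟩ := ⟨by norm_num, by norm_num, by norm_num, hg.zg, hg.ag, hg.cg⟩
  have h1 := h.actF_mul h.actF_r hG
  have h2 := h.actF_mul h1 h1
  have h4 := h.actF_mul h2 h2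
  have e4 : cmpF (cmpF (cmpF ⟨1, 4, 6⟩ ⟨2, 3, 4⟩) (cmpF ⟨1, 4, 6⟩ ⟨2, 3, 4⟩))
      (cmpF (cmpF ⟨1, 4, 6⟩ ⟨2, 3, 4⟩) (cmpF ⟨1, 4, 6⟩ ⟨2, 3, 4⟩)) = ⟨1, 2, 4⟩ := by decide
  rw [e4] at h4
  obtain ⟨v, hv, hvw⟩ := h.actF_triv h4
  have hw : r * (g * (r * (g * (r * (g * (r * g)))))) = fG z a c v := by rw [← hvw]; group
  have hcomm : fG z a c v * (r * g) = (r * g) * fG z a c v := by rw [← hvw]; group
  have hfix := h.actF_fix h1 hv hcomm
  have hv' : v = 0 ∨ v = 5 := by
    revert hfix
    interval_cases v <;> decide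
  rcases hv' with rfl | rfl
  · rw [hw]; rfl
  · exfalso
    exact h.z_ne_one (collapse h.toRel hg hw)

end Cfsg.Agent.AltType

private theorem dce_cc0dd7d1b9af : _root_.True := by
  try have : _root_.True := by simp only [_root_.Cfsg.Agent.AltType.lg.eq_10]
  try have : _root_.True := by simp only [_root_.Cfsg.Agent.AltType.lg.eq_11]
  try have : _root_.True := by simp only [_root_.Cfsg.Agent.AltType.lg.eq_6]
  try have : _root_.True := by simp only [_root_.Cfsg.Agent.AltType.lg.eq_1]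
  try have : _root_.True := by simp only [_root_.Cfsg.Agent.AltType.lg.eq_2]
  try have : _root_.True := by simp only [_root_.Cfsg.Agent.AltType.eqsG.eq_1]
  try have : _root_.True := by simp only [_root_.Cfsg.Agent.AltType.lg.eq_8]
  try have : _root_.True := by simp only [_root_.Cfsg.Agent.AltType.lg.eq_4]
  try have : _root_.True := by simp only [_root_.Cfsg.Agent.AltType.lg.eq_7]
  try have : _root_.True := by simp only [_root_.Cfsg.Agent.AltType.lg.eq_9]
  try have : _root_.True := by simp only [_root_.Cfsg.Agent.AltType.lg.eq_5]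
  try have : _root_.True := by simp only [_root_.Cfsg.Agent.AltType.EnPData.targets.eq_1]
  try have : _root_.True := by simp only [_root_.Cfsg.Agent.AltType.lg.eq_3]
  exact _root_.True.intro
end

-- part: AltType/CaseI
section
set_option linter.all false
open scoped Cfsg.Agent.FastGrp

/-!
Some non-central involution of `Q` is conjugate to `z`.
-/

set_option autoImplicit false
set_option maxRecDepth 100000

namespace Cfsg.Agent.AltType

variable {G : Type*} [Group G] {z a b c d r s : G}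

/-- conjugacy, `y = g⁻¹ x g` -/
def Fus (x y : G) : Prop := ∃ g : G, x * g = g * y

theorem Fus.refl (x : G) : Fus x x := ⟨1, by rw [mul_one, one_mul]⟩

theorem Fus.symm {x y : G} (h : Fus x y) : Fus y x := by
  obtain ⟨g, hg⟩ := h
  refine ⟨g⁻¹, ?_⟩
  rw [eq_inv_mul_iff_mul_eq, ← mul_assoc, ← hg, mul_inv_cancel_right]

theorem Fus.trans {x y w : G} (h : Fus x y) (h' : Fus y w) : Fus x w := by
  obtain ⟨g, hg⟩ := h
  obtain ⟨k, hk⟩ := h'
  exact ⟨g * k, by rw [← mul_assoc, hg, mul_assoc, hk, mul_assoc]⟩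

theorem Fus.iff {x y w : G} (h : Fus x y) : Fus w x ↔ Fus w y :=
  ⟨fun h' => h'.trans h, fun h' => h'.trans h.symm⟩

/-- A finite non-abelian simple group has no isolated involution (by the `Z*`-theorem); copy of
`J2Type.SimpleRed.not_isolated`. -/
theorem not_isolated [Finite G] [IsSimpleGroup G] (t : G) (hiso : Cfsg.IsIsolatedInvolution t)
    (hnc : ∃ a b : G, a * b ≠ b * a) : False := by
  have : Fact (Nat.Prime 2) := ⟨Nat.prime_two⟩
  have hp : IsPGroup 2 (Subgroup.zpowers t) := by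
    apply IsPGroup.of_card (n := 1)
    rw [Nat.card_zpowers, hiso.1, pow_one]
  obtain ⟨P, hP⟩ := hp.exists_le_sylow
  have htP : t ∈ P := hP (Subgroup.mem_zpowers t)
  obtain ⟨N, hN, hodd, hcomm⟩ := Cfsg.Agent.S0215.result P t hiso.1 htP
    (fun g hg => Cfsg.Agent.S1180.eq_of_conj_mem_isPGroup t hiso (P : Subgroup G) P.2 htP g hg)
  rcases hN.eq_bot_or_eq_top with h | h
  · have hcen : ∀ g : G, t * g = g * t := by
      intro g
      have := hcomm g
      rw [h, Subgroup.mem_bot] at this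
      have h1 : t * g * t⁻¹ = g := by
        have := mul_inv_eq_one.mp this
        exact this
      rw [mul_inv_eq_iff_eq_mul] at h1
      exact h1
    have htc : t ∈ Subgroup.center G := by
      rw [Subgroup.mem_center_iff]; intro g; exact (hcen g).symm
    rcases (inferInstance : (Subgroup.center G).Normal).eq_bot_or_eq_top with hc | hc
    · rw [hc, Subgroup.mem_bot] at htc
      have := hiso.1
      rw [htc, orderOf_one] at this
      omega
    · obtain ⟨a, b, hab⟩ := hnc
      apply hab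
      have : b ∈ Subgroup.center G := by rw [hc]; trivial
      exact (Subgroup.mem_center_iff.mp this a)
  · rw [h, Subgroup.card_top] at hodd
    have h2 : 2 ∣ Nat.card G := by
      rw [← hiso.1]; exact orderOf_dvd_natCard t
    exact (Nat.not_even_iff_odd.mpr hodd) (even_iff_two_dvd.mpr h2)

/-- the Z*-theorem: `z` is conjugate to another element of its centraliser -/
theorem exists_fused [Finite G] [IsSimpleGroup G] (hc : ¬ IsMulCommutative G) {z : G} (hz : z * z = 1) (h1 : z ≠ 1) :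
    ∃ x, x * z = z * x ∧ x ≠ z ∧ Fus z x := by
  by_contra hcon
  push Not at hcon
  refine not_isolated z ⟨?_, ?_⟩ ?_
  · exact orderOf_eq_prime (by rw [pow_two, hz]) h1
  · intro g hg
    by_contra hne
    refine hcon (g * z * g⁻¹) hg.eq.symm hne ⟨g⁻¹, ?_⟩
    group
  · by_contra hcom
    push Not at hcom
    exact hc ⟨⟨hcom⟩⟩

theorem fus_mul_self {x y : G} (h : Fus x y) (hx : x * x = 1) : y * y = 1 := by
  obtain ⟨g, hg⟩ := h
  have h1 : y = g⁻¹ * x * g := by rw [mul_assoc, hg, inv_mul_cancel_left]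
  rw [h1]
  calc g⁻¹ * x * g * (g⁻¹ * x * g) = g⁻¹ * (x * x) * g := by group
    _ = 1 := by rw [hx]; group

theorem fus_ne_one {x y : G} (h : Fus x y) (hx : x ≠ 1) : y ≠ 1 := by
  rintro rfl
  obtain ⟨g, hg⟩ := h
  apply hx
  rw [mul_one] at hg
  exact mul_eq_right.mp hg

/-- class of `x` in the centraliser of `z` for a conjugate of `z` -/
theorem F1.fus_cases (h : F1 z a b c d r s) {x : G} (hx : x * z = z * x) (hxz : x ≠ z) (hf : Fus z x) :
    ∃ y, y * z = z * y ∧ (x * y = y * a ∨ x * y = y * b ∨ x * y = y * (z * (a * b)) ∨ x * y = y * s ∨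
      x * y = y * (z * s)) := by
  rcases h.invol hx (fus_mul_self hf h.zz) with h1 | h1 | h1
  · exact absurd h1 (fus_ne_one hf h.z_ne_one)
  · exact absurd h1 hxz
  · exact h1

section fusE

variable (h : Rel z a b c d r s)
include h

theorem Rel.fus_app {n : G} {A : Mat} (hA : Act z a b s n A) {v : ℕ} (hv : v < 16) :
    Fus (eG z a b s v) (eG z a b s (app A v)) := ⟨n, (h.act_app hA hv).1⟩

theorem Rel.fus_c {v : ℕ} (hv : v < 16) : Fus (eG z a b s v) (eG z a b s (app ⟨1, 2, 5, 10⟩ v)) :=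
  h.fus_app h.act_c hv

theorem Rel.fus_d {v : ℕ} (hv : v < 16) : Fus (eG z a b s v) (eG z a b s (app ⟨1, 3, 4, 12⟩ v)) :=
  h.fus_app h.act_d hv

end fusE

/-- `D`-indicator in the first case -/
def inD1 (v : ℕ) : Bool := decide (v = 1) || decide (8 ≤ v)
def inD2 (v : ℕ) : Bool := decide (v = 1) || decide (v = 8) || decide (v = 10) || decide (v = 12) || decide (v = 15)

theorem check1 : ∀ A1 < 16, ∀ A2 < 16, ∀ A3 ∈ [1, 9], ¬ (∀ v < 16, inD1 v = inD1 (app ⟨8, A1, A2, A3⟩ v)) := by
  decide +kernel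

set_option synthInstance.maxSize 1024 in
set_option synthInstance.maxHeartbeats 200000 in
theorem check2 : ∀ A1 < 16, ∀ A2 < 16, (∀ v < 16, inD2 v = inD2 (app ⟨8, A1, A2, 1⟩ v)) →
    (A1, A2) ∈ [(11, 13), (11, 14), (13, 11), (13, 14), (14, 11), (14, 13)] := by
  decide +kernel

theorem F1.caseI_key (h : F1 z a b c d r s) (ha : ¬ Fus z a) (hb : ¬ Fus z b) (hu : ¬ Fus z (z * (a * b)))
    (hs : Fus z s) : False := by
  classical
  obtain ⟨g, hg⟩ := hs
  have hzz := h.zz
  have hxf : Fus z (g * z * g⁻¹) := ⟨g⁻¹, by group⟩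
  have hz' : z = g * s * g⁻¹ := by rw [← hg]; group
  have hxc : g * z * g⁻¹ * z = z * (g * z * g⁻¹) := by
    calc g * z * g⁻¹ * z = g * z * g⁻¹ * (g * s * g⁻¹) := by rw [← hz']
      _ = g * (z * s) * g⁻¹ := by group
      _ = g * (s * z) * g⁻¹ := by rw [h.sz]
      _ = (g * s * g⁻¹) * (g * z * g⁻¹) := by group
      _ = z * (g * z * g⁻¹) := by rw [← hz']
  have hsz : s ≠ z := fun e => by
    have := h.eG_inj (v := 8) (w := 1) (by norm_num) (by norm_num) e
    norm_num at this
  have hxz : g * z * g⁻¹ ≠ z := by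
    intro e
    apply hsz
    have h1 : g * z = z * g := by
      rw [mul_inv_eq_iff_eq_mul] at e; exact e
    rw [hg] at h1
    exact (mul_left_cancel h1).symm
  obtain ⟨y, hy, hyw⟩ := h.fus_cases hxc hxz hxf
  -- the element `n`
  have key : ∀ w, g * z * g⁻¹ * y = y * w → z * (y⁻¹ * g) = (y⁻¹ * g) * s ∧ w * (y⁻¹ * g) = (y⁻¹ * g) * z := by
    intro w hw
    have hy' : z * y⁻¹ = y⁻¹ * z := by
      rw [eq_inv_mul_iff_mul_eq, ← mul_assoc, hy, mul_inv_cancel_right]
    constructor
    · rw [← mul_assoc, hy', mul_assoc, hg, mul_assoc]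
    · have h1 : w = y⁻¹ * (g * z * g⁻¹) * y := by rw [mul_assoc, hw, inv_mul_cancel_left]
      rw [h1]; group
  have hfin : ∀ w, (w = s ∨ w = z * s) → g * z * g⁻¹ * y = y * w → False := by
    intro w hw hyw
    obtain ⟨hn1, hn2⟩ := key w hyw
    set n := y⁻¹ * g with hn
    -- images of `a`, `b`
    have img : ∀ v : G, v * z = z * v → v * s = s * v → ∃ A < 16, v * n = n * eG z a b s A := by
      intro v hvz hvs
      have hvw : v * w = w * v := by
        rcases hw with rfl | rfl
        · exact hvs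
        · rw [← mul_assoc, hvz, mul_assoc, hvs, mul_assoc]
      have h1 : s = n⁻¹ * z * n := by rw [mul_assoc, hn1, inv_mul_cancel_left]
      have h2 : z = n⁻¹ * w * n := by rw [mul_assoc, hn2, inv_mul_cancel_left]
      have h3 : (n⁻¹ * v * n) * z = z * (n⁻¹ * v * n) := by
        calc (n⁻¹ * v * n) * z = (n⁻¹ * v * n) * (n⁻¹ * w * n) := by rw [← h2]
          _ = n⁻¹ * (v * w) * n := by group
          _ = n⁻¹ * (w * v) * n := by rw [hvw]
          _ = (n⁻¹ * w * n) * (n⁻¹ * v * n) := by group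
          _ = z * (n⁻¹ * v * n) := by rw [← h2]
      have h4 : (n⁻¹ * v * n) * s = s * (n⁻¹ * v * n) := by
        calc (n⁻¹ * v * n) * s = (n⁻¹ * v * n) * (n⁻¹ * z * n) := by rw [← h1]
          _ = n⁻¹ * (v * z) * n := by group
          _ = n⁻¹ * (z * v) * n := by rw [hvz]
          _ = (n⁻¹ * z * n) * (n⁻¹ * v * n) := by group
          _ = s * (n⁻¹ * v * n) := by rw [← h1]
      obtain ⟨A, hA, h5⟩ := h.cent_s h3 h4
      exact ⟨A, hA, by rw [← h5]; group⟩
    obtain ⟨A1, hA1, e1⟩ := img a h.az h.as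
    obtain ⟨A2, hA2, e2⟩ := img b h.bz h.bs
    have hA3 : ∃ A3, (A3 = 1 ∧ w = s ∨ A3 = 9 ∧ w = z * s) ∧ s * n = n * eG z a b s A3 := by
      rcases hw with rfl | rfl
      · exact ⟨1, Or.inl ⟨rfl, rfl⟩, hn2⟩
      · refine ⟨9, Or.inr ⟨rfl, rfl⟩, ?_⟩
        show s * n = n * (z * s)
        have h1 : s * n = z * (z * s * n) := by
          calc s * n = (z * z) * (s * n) := by rw [hzz, one_mul]
            _ = z * (z * s * n) := by simp only [mul_assoc]
        rw [h1, hn2, ← mul_assoc, hn1, mul_assoc, h.sz]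
    obtain ⟨A3, hA3, e3⟩ := hA3
    have hact : Act z a b s n ⟨8, A1, A2, A3⟩ := ⟨by norm_num, hA1, hA2, by
      rcases hA3 with ⟨rfl, -⟩ | ⟨rfl, -⟩ <;> norm_num, hn1, e1, e2, e3⟩
    -- the classes in `E`
    have hD : ∀ v < 16, (Fus z (eG z a b s v) ↔ Fus z (eG z a b s (app ⟨8, A1, A2, A3⟩ v))) :=
      fun v hv => (h.fus_app hact hv).iff
    have hd3 : Fus a (z * a) := h.fus_d (v := 2) (by norm_num)
    have hd5 : Fus b (z * b) := h.fus_c (v := 4) (by norm_num)
    have hd6 : Fus (z * (a * b)) (a * b) := h.fus_c (v := 7) (by norm_num)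
    have hd10 : Fus s (a * s) := h.fus_c (v := 8) (by norm_num)
    have hd12 : Fus s (b * s) := h.fus_d (v := 8) (by norm_num)
    have hd15 : Fus (a * s) (z * (a * (b * s))) := h.fus_d (v := 10) (by norm_num)
    have hd11 : Fus (z * s) (z * (a * s)) := h.fus_c (v := 9) (by norm_num)
    have hd13 : Fus (z * s) (z * (b * s)) := h.fus_d (v := 9) (by norm_num)
    have hd14 : Fus (z * (a * s)) (a * (b * s)) := h.fus_d (v := 11) (by norm_num)
    have hfs : Fus z s := ⟨g, hg⟩
    have n0 : ¬ Fus z (eG z a b s 0) := fun e => fus_ne_one e h.z_ne_one rfl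
    have y1 : Fus z (eG z a b s 1) := Fus.refl z
    have n2 : ¬ Fus z (eG z a b s 2) := ha
    have n3 : ¬ Fus z (eG z a b s 3) := fun e => ha (e.trans hd3.symm)
    have n4 : ¬ Fus z (eG z a b s 4) := hb
    have n5 : ¬ Fus z (eG z a b s 5) := fun e => hb (e.trans hd5.symm)
    have n6 : ¬ Fus z (eG z a b s 6) := fun e => hu (e.trans hd6.symm)
    have n7 : ¬ Fus z (eG z a b s 7) := hu
    have y8 : Fus z (eG z a b s 8) := hfs
    have y10 : Fus z (eG z a b s 10) := hfs.trans hd10
    have y12 : Fus z (eG z a b s 12) := hfs.trans hd12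
    have y15 : Fus z (eG z a b s 15) := (hfs.trans hd10).trans hd15
    by_cases h9 : Fus z (z * s)
    · have hin : ∀ v < 16, (Fus z (eG z a b s v) ↔ inD1 v = true) := by
        have y9 : Fus z (eG z a b s 9) := h9
        have y11 : Fus z (eG z a b s 11) := h9.trans hd11
        have y13 : Fus z (eG z a b s 13) := h9.trans hd13
        have y14 : Fus z (eG z a b s 14) := (h9.trans hd11).trans hd14
        intro v hv
        interval_cases v
        · exact ⟨fun e => absurd e n0, fun e => absurd e (by decide)⟩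
        · exact ⟨fun _ => by decide, fun _ => y1⟩
        · exact ⟨fun e => absurd e n2, fun e => absurd e (by decide)⟩
        · exact ⟨fun e => absurd e n3, fun e => absurd e (by decide)⟩
        · exact ⟨fun e => absurd e n4, fun e => absurd e (by decide)⟩
        · exact ⟨fun e => absurd e n5, fun e => absurd e (by decide)⟩
        · exact ⟨fun e => absurd e n6, fun e => absurd e (by decide)⟩
        · exact ⟨fun e => absurd e n7, fun e => absurd e (by decide)⟩
        · exact ⟨fun _ => by decide, fun _ => y8⟩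
        · exact ⟨fun _ => by decide, fun _ => y9⟩
        · exact ⟨fun _ => by decide, fun _ => y10⟩
        · exact ⟨fun _ => by decide, fun _ => y11⟩
        · exact ⟨fun _ => by decide, fun _ => y12⟩
        · exact ⟨fun _ => by decide, fun _ => y13⟩
        · exact ⟨fun _ => by decide, fun _ => y14⟩
        · exact ⟨fun _ => by decide, fun _ => y15⟩
      refine check1 A1 hA1 A2 hA2 A3 ?_ ?_
      · rcases hA3 with ⟨rfl, -⟩ | ⟨rfl, -⟩ <;> decide
      · intro v hv
        have h1 := hD v hv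
        rw [hin v hv, hin _ (h.act_app hact hv).2] at h1
        exact Bool.eq_iff_iff.mpr h1
    · have hA3' : A3 = 1 := by
        rcases hA3 with ⟨rfl, -⟩ | ⟨-, rfl⟩
        · rfl
        · exfalso
          apply h9
          exact Fus.symm ⟨n, hn2⟩
      subst hA3'
      have hin : ∀ v < 16, (Fus z (eG z a b s v) ↔ inD2 v = true) := by
        have n9 : ¬ Fus z (eG z a b s 9) := h9
        have n11 : ¬ Fus z (eG z a b s 11) := fun e => h9 (e.trans hd11.symm)
        have n13 : ¬ Fus z (eG z a b s 13) := fun e => h9 (e.trans hd13.symm)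
        have n14 : ¬ Fus z (eG z a b s 14) := fun e => h9 ((e.trans hd14.symm).trans hd11.symm)
        intro v hv
        interval_cases v
        · exact ⟨fun e => absurd e n0, fun e => absurd e (by decide)⟩
        · exact ⟨fun _ => by decide, fun _ => y1⟩
        · exact ⟨fun e => absurd e n2, fun e => absurd e (by decide)⟩
        · exact ⟨fun e => absurd e n3, fun e => absurd e (by decide)⟩
        · exact ⟨fun e => absurd e n4, fun e => absurd e (by decide)⟩
        · exact ⟨fun e => absurd e n5, fun e => absurd e (by decide)⟩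
        · exact ⟨fun e => absurd e n6, fun e => absurd e (by decide)⟩
        · exact ⟨fun e => absurd e n7, fun e => absurd e (by decide)⟩
        · exact ⟨fun _ => by decide, fun _ => y8⟩
        · exact ⟨fun e => absurd e n9, fun e => absurd e (by decide)⟩
        · exact ⟨fun _ => by decide, fun _ => y10⟩
        · exact ⟨fun e => absurd e n11, fun e => absurd e (by decide)⟩
        · exact ⟨fun _ => by decide, fun _ => y12⟩
        · exact ⟨fun e => absurd e n13, fun e => absurd e (by decide)⟩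
        · exact ⟨fun e => absurd e n14, fun e => absurd e (by decide)⟩
        · exact ⟨fun _ => by decide, fun _ => y15⟩
      have hmem := check2 A1 hA1 A2 hA2 (by
        intro v hv
        have h1 := hD v hv
        rw [hin v hv, hin _ (h.act_app hact hv).2] at h1
        exact Bool.eq_iff_iff.mpr h1)
      have hcc := h.act_c
      have hdd := h.act_d
      have hcd := h.act_mul hcc hdd
      simp only [List.mem_cons, List.not_mem_nil, or_false, Prod.mk.injEq] at hmem
      rcases hmem with ⟨rfl, rfl⟩ | ⟨rfl, rfl⟩ | ⟨rfl, rfl⟩ | ⟨rfl, rfl⟩ | ⟨rfl, rfl⟩ | ⟨rfl, rfl⟩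
      · exact absurd (h.four (h.act_mul (h.act_mul (h.act_mul (h.act_mul hact hcc) hact) hcc) hact) (by decide)) (by decide)
      · exact absurd (h.four (h.act_mul (h.act_mul (h.act_mul (h.act_mul hact hcd) hact) hdd) hact) (by decide)) (by decide)
      · exact absurd (h.four (h.act_mul (h.act_mul (h.act_mul (h.act_mul hact hcc) hact) hdd) hact) (by decide)) (by decide)
      · exact absurd (h.four (h.act_mul hact hact) (by decide)) (by decide)
      · exact absurd (h.four (h.act_mul hact hact) (by decide)) (by decide)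
      · exact absurd (h.four (h.act_mul (h.act_mul (h.act_mul (h.act_mul hact hcd) hact) hcc) hact) (by decide)) (by decide)
  rcases hyw with e | e | e | e | e
  · exact ha (hxf.trans ⟨y, e⟩)
  · exact hb (hxf.trans ⟨y, e⟩)
  · exact hu (hxf.trans ⟨y, e⟩)
  · exact hfin s (Or.inl rfl) e
  · exact hfin (z * s) (Or.inr rfl) e

/-- some non-central involution of `Q` is conjugate to `z` -/
theorem F1.caseI [Finite G] [IsSimpleGroup G] (hc : ¬ IsMulCommutative G) (h : F1 z a b c d r s) :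
    Fus z a ∨ Fus z b ∨ Fus z (z * (a * b)) := by
  by_contra hcon
  push Not at hcon
  obtain ⟨ha, hb, hu⟩ := hcon
  obtain ⟨x, hx, hxz, hf⟩ := exists_fused hc h.zz h.z_ne_one
  obtain ⟨y, hy, hyw⟩ := h.fus_cases hx hxz hf
  rcases hyw with e | e | e | e | e
  · exact ha (hf.trans ⟨y, e⟩)
  · exact hb (hf.trans ⟨y, e⟩)
  · exact hu (hf.trans ⟨y, e⟩)
  · exact h.caseI_key ha hb hu (hf.trans ⟨y, e⟩)
  · refine h.twist.caseI_key ha hb hu ?_
    rw [h.sz]
    exact hf.trans ⟨y, e⟩

end Cfsg.Agent.AltType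
end

-- part: AltType/GOne
section
set_option linter.all false
open scoped Cfsg.Agent.FastGrp

/-!
If `a` is conjugate to `z` then there is an element `g` of order three with `z → a → z a`, normalising
`E = ⟨z, a, b, s⟩` and inverted by `d`.
-/

set_option autoImplicit false
set_option maxRecDepth 100000

namespace Cfsg.Agent.AltType

variable {G : Type*} [Group G] {z a b c d r s : G}

theorem cj_mul {x y w g k : G} (h : x * g = g * y) (h' : y * k = k * w) : x * (g * k) = (g * k) * w := by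
  rw [← mul_assoc, h, mul_assoc, h', mul_assoc]

theorem cj_inv {x y g : G} (h : x * g = g * y) : y * g⁻¹ = g⁻¹ * x := by
  rw [eq_inv_mul_iff_mul_eq, ← mul_assoc, ← h, mul_inv_cancel_right]

theorem cj_mulx {x y x' y' g : G} (h : x * g = g * y) (h' : x' * g = g * y') : (x * x') * g = g * (y * y') := by
  rw [mul_assoc, h', ← mul_assoc, h, mul_assoc]

theorem cj_comm {x y x' y' g : G} (h : x * g = g * y) (h' : x' * g = g * y') (hc : x * x' = x' * x) :
    y * y' = y' * y := by
  have h1 := cj_mulx h h'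
  have h2 := cj_mulx h' h
  rw [hc] at h1
  exact mul_left_cancel (h1.symm.trans h2)

theorem cj_uniq {x y y' g : G} (h : x * g = g * y) (h' : x * g = g * y') : y = y' :=
  mul_left_cancel (h.symm.trans h')

/-- first adjustment -/
theorem F1.step_adjust (h : F1 z a b c d r s) {n x t y1 y2 : G} (hn1 : z * n = n * a) (hn2 : x * n = n * z)
    (htt : t * t = 1) (htz : t * z = z * t) (htx : t * x = x * t)
    (h1z : y1 * z = z * y1) (h1x : y1 * x = x * y1) (h2z : y2 * z = z * y2) (h2x : y2 * x = x * y2)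
    (ht1 : t * y1 = z * (y1 * t)) (ht2 : t * y2 = x * (y2 * t)) :
    ∃ n', z * n' = n' * a ∧ x * n' = n' * z ∧ t * n' = n' * c := by
  have T0 : t * n = n * (n⁻¹ * t * n) := by group
  have Y1 : y1 * n = n * (n⁻¹ * y1 * n) := by group
  have Y2 : y2 * n = n * (n⁻¹ * y2 * n) := by group
  obtain ⟨v, hv, hv4, hT⟩ := h.prop_P (x := n⁻¹ * t * n) (y := n⁻¹ * y2 * n) (w := n⁻¹ * y1 * n)
    (cj_comm T0 hn2 htx) (cj_comm T0 hn1 htz)
    (by
      have := cj_mulx T0 T0
      rw [htt, one_mul] at this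
      exact mul_eq_left.mp this.symm)
    (cj_comm Y2 hn2 h2x) (cj_comm Y2 hn1 h2z)
    (by
      have e1 := cj_mulx T0 Y2
      have e2 := cj_mulx hn2 (cj_mulx Y2 T0)
      rw [ht2] at e1
      exact cj_uniq e1 e2)
    (cj_comm Y1 hn2 h1x) (cj_comm Y1 hn1 h1z)
    (by
      have e1 := cj_mulx T0 Y1
      have e2 := cj_mulx hn1 (cj_mulx Y1 T0)
      rw [ht1] at e1
      exact cj_uniq e1 e2)
  rw [hT] at T0
  -- adjust by an element commuting with `z, a`
  have hy : ∃ y, z * y = y * z ∧ a * y = y * a ∧ fG z a c v * y = y * c := by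
    have hb := h.actF_b
    have hs := h.actF_s
    have hsb := h.actF_mul hs hb
    have : v = 4 ∨ v = 5 ∨ v = 6 ∨ v = 7 := by omega
    rcases this with rfl | rfl | rfl | rfl
    · exact ⟨1, by rw [mul_one, one_mul], by rw [mul_one, one_mul], by rw [mul_one, one_mul]; rfl⟩
    · exact ⟨b, hb.e0, hb.e1, (h.actF_app hb (v := 5) (by norm_num)).1⟩
    · exact ⟨s, hs.e0, hs.e1, (h.actF_app hs (v := 6) (by norm_num)).1⟩
    · exact ⟨s * b, hsb.e0, hsb.e1, (h.actF_app hsb (v := 7) (by norm_num)).1⟩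
  obtain ⟨y, hyz, hya, hyc⟩ := hy
  exact ⟨n * y, cj_mul hn1 hya, cj_mul hn2 hyz, cj_mul T0 hyc⟩

/-- the element `k` acting on `A₁` as `z → a → z a`, `c → c` -/
theorem F1.exists_k (h : F1 z a b c d r s) (hf : Fus z a) :
    ∃ k, z * k = k * a ∧ a * k = k * (z * a) ∧ c * k = k * c := by
  obtain ⟨g, hg⟩ := hf
  have hz' : z = g * a * g⁻¹ := by rw [← hg]; group
  have hxc : g * z * g⁻¹ * z = z * (g * z * g⁻¹) := by
    calc g * z * g⁻¹ * z = g * z * g⁻¹ * (g * a * g⁻¹) := by rw [← hz']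
      _ = g * (z * a) * g⁻¹ := by group
      _ = g * (a * z) * g⁻¹ := by rw [h.az]
      _ = (g * a * g⁻¹) * (g * z * g⁻¹) := by group
      _ = z * (g * z * g⁻¹) := by rw [← hz']
  have haz : a ≠ z := fun e => by
    have := h.eG_inj (v := 2) (w := 1) (by norm_num) (by norm_num) e
    norm_num at this
  have hxz : g * z * g⁻¹ ≠ z := by
    intro e
    apply haz
    have h1 : g * z = z * g := by
      rw [mul_inv_eq_iff_eq_mul] at e; exact e
    rw [hg] at h1
    exact (mul_left_cancel h1).symm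
  obtain ⟨y, hy, hyw⟩ := h.fus_cases hxc hxz ⟨g⁻¹, by group⟩
  have key : ∀ w, g * z * g⁻¹ * y = y * w → z * (y⁻¹ * g) = (y⁻¹ * g) * a ∧ w * (y⁻¹ * g) = (y⁻¹ * g) * z := by
    intro w hw
    have hy' : z * y⁻¹ = y⁻¹ * z := by
      rw [eq_inv_mul_iff_mul_eq, ← mul_assoc, hy, mul_inv_cancel_right]
    constructor
    · rw [← mul_assoc, hy', mul_assoc, hg, mul_assoc]
    · have h1 : w = y⁻¹ * (g * z * g⁻¹) * y := by rw [mul_assoc, hw, inv_mul_cancel_left]
      rw [h1]; group
  -- `w = s` or `z s` is impossible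
  have hbad : ∀ w, w = s ∨ w = z * s → ¬ (g * z * g⁻¹ * y = y * w) := by
    intro w hw hyw
    obtain ⟨hn1, hn2⟩ := key w hyw
    set n := y⁻¹ * g with hn
    have img : ∀ v : G, v * z = z * v → v * a = a * v → ∃ V < 16, n * v = eG z a b s V * n := by
      intro v hvz hva
      have i1 : a * n⁻¹ = n⁻¹ * z := cj_inv hn1
      have i2 : z * n⁻¹ = n⁻¹ * w := cj_inv hn2
      have i3 : v * n⁻¹ = n⁻¹ * (n * v * n⁻¹) := by group
      have h3 : (n * v * n⁻¹) * z = z * (n * v * n⁻¹) := cj_comm i3 i1 hva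
      have h4 : (n * v * n⁻¹) * w = w * (n * v * n⁻¹) := cj_comm i3 i2 hvz
      have h5 : (n * v * n⁻¹) * s = s * (n * v * n⁻¹) := by
        rcases hw with rfl | rfl
        · exact h4
        · have : z * ((n * v * n⁻¹) * s) = z * (s * (n * v * n⁻¹)) := by
            rw [← mul_assoc, ← h3, mul_assoc, h4, mul_assoc]
          exact mul_left_cancel this
      obtain ⟨V, hV, h6⟩ := h.cent_s h3 h5
      exact ⟨V, hV, by rw [← h6]; group⟩
    obtain ⟨V, hV, e1⟩ := img c h.cz h.ac.symm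
    obtain ⟨W, hW, e2⟩ := img b h.bz h.ab.symm
    have h1 : n * (c * b) = n * (b * c) := by
      calc n * (c * b) = (n * c) * b := by group
        _ = eG z a b s V * (n * b) := by rw [e1, mul_assoc]
        _ = eG z a b s V * eG z a b s W * n := by rw [e2, mul_assoc]
        _ = eG z a b s W * eG z a b s V * n := by rw [h.eG_mul hV hW, h.eG_mul hW hV, Nat.xor_comm]
        _ = eG z a b s W * (n * c) := by rw [e1, mul_assoc]
        _ = (n * b) * c := by rw [e2]; exact (mul_assoc _ _ _).symm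
        _ = n * (b * c) := by group
    have h2 := mul_left_cancel h1
    rw [h.cb] at h2
    exact h.z_ne_one (mul_eq_right.mp h2)
  -- the general situation after adjustment
  have fin2 : ∀ n t x, z * n = n * a → x * n = n * z → t * n = n * c →
      (x * (s * r) = (s * r) * t ∧ t * (s * r) = (s * r) * x) →
      ∃ k, z * k = k * a ∧ a * k = k * (z * a) ∧ c * k = k * c := by
    intro n t x hn1 hn2 hn3 hxt
    have hr := h.actF_r
    have hs := h.actF_s
    have hb := h.actF_b
    have hsr := h.actF_mul hs hr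
    have hzsr : z * (s * r) = (s * r) * z := hsr.e0
    -- `m = n⁻¹ (s r) n`: `z → c → z`, `a → a`
    have i1 := cj_inv hn1
    have i2 := cj_inv hn2
    have i3 := cj_inv hn3
    have m0 : z * (n⁻¹ * ((s * r) * n)) = (n⁻¹ * ((s * r) * n)) * c := cj_mul i2 (cj_mul hxt.1 hn3)
    have m1 : a * (n⁻¹ * ((s * r) * n)) = (n⁻¹ * ((s * r) * n)) * a := cj_mul i1 (cj_mul hzsr hn1)
    have m2 : c * (n⁻¹ * ((s * r) * n)) = (n⁻¹ * ((s * r) * n)) * z := cj_mul i3 (cj_mul hxt.2 hn2)
    have hm : ActF z a c (n⁻¹ * ((s * r) * n)) ⟨4, 2, 1⟩ := ⟨by norm_num, by norm_num, by norm_num, m0, m1, m2⟩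
    have hk := h.actF_mul (h.actF_mul (h.actF_mul hsr hb) hm) hsr
    have e4 : cmpF (cmpF (cmpF (cmpF ⟨1, 2, 6⟩ ⟨1, 4, 6⟩) ⟨1, 2, 5⟩) ⟨4, 2, 1⟩) (cmpF ⟨1, 2, 6⟩ ⟨1, 4, 6⟩) =
      ⟨2, 3, 4⟩ := by decide
    rw [e4] at hk
    exact ⟨_, hk.e0, hk.e1, hk.e2⟩
  rcases hyw with e | e | e | e | e
  · obtain ⟨hn1, hn2⟩ := key a e
    obtain ⟨n, m1, m2, m3⟩ := h.step_adjust (t := c) (y1 := b) (y2 := s) hn1 hn2 h.cc h.cz h.ac.symm h.bz
      h.ab.symm h.sz h.as.symm h.cb (by rw [h.cs, ← mul_assoc, ← h.as, mul_assoc])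
    have hn : ActF z a c n ⟨2, 1, 4⟩ := ⟨by norm_num, by norm_num, by norm_num, m1, m2, m3⟩
    have hk := h.actF_mul h.actF_d hn
    have e4 : cmpF ⟨1, 3, 4⟩ ⟨2, 1, 4⟩ = ⟨2, 3, 4⟩ := by decide
    rw [e4] at hk
    exact ⟨_, hk.e0, hk.e1, hk.e2⟩
  · obtain ⟨hn1, hn2⟩ := key b e
    obtain ⟨n, m1, m2, m3⟩ := h.step_adjust (t := d) (y1 := a) (y2 := s) hn1 hn2 h.dd h.dz h.bd.symm h.az
      h.ab h.sz h.bs.symm h.toRel.da (by rw [h.ds, ← mul_assoc, ← h.bs, mul_assoc])
    have hk := h.swap.actF_mul h.swap.actF_s h.swap.actF_r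
    refine fin2 n d b m1 m2 m3 ⟨hk.e1, ?_⟩
    exact hk.e2
  · obtain ⟨hn1, hn2⟩ := key _ e
    have h3 := h.third.swap
    obtain ⟨n, m1, m2, m3⟩ := h.step_adjust (t := z * (c * d)) (y1 := a) (y2 := s) hn1 hn2 h3.cc h3.cz h3.ac.symm
      h.az h3.ab.symm h.sz h3.as.symm h3.cb (by rw [h3.cs, ← mul_assoc, ← h3.as, mul_assoc])
    have hk := h3.actF_mul h3.actF_s h3.actF_r
    refine fin2 n _ _ m1 m2 m3 ⟨hk.e1, ?_⟩
    exact hk.e2
  · exact absurd e (hbad s (Or.inl rfl))
  · exact absurd e (hbad _ (Or.inr rfl))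

/-- an element acting on `A₁` as `z → a → z a`, `c → c` can be chosen of order three -/
theorem F1.exists_k3 (h : F1 z a b c d r s) (hf : Fus z a) :
    ∃ k, k * (k * k) = 1 ∧ z * k = k * a ∧ a * k = k * (z * a) ∧ c * k = k * c := by
  obtain ⟨k, k0, k1, k2⟩ := h.exists_k hf
  have hk : ActF z a c k ⟨2, 3, 4⟩ := ⟨by norm_num, by norm_num, by norm_num, k0, k1, k2⟩
  have hk3 := h.actF_mul hk (h.actF_mul hk hk)
  have e3 : cmpF ⟨2, 3, 4⟩ (cmpF ⟨2, 3, 4⟩ ⟨2, 3, 4⟩) = ⟨1, 2, 4⟩ := by decide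
  rw [e3] at hk3
  obtain ⟨v, hv, hvk⟩ := h.actF_triv hk3
  have hcomm : fG z a c v * k = k * fG z a c v := by rw [← hvk]; group
  have hfix := h.actF_fix hk hv hcomm
  have hv' : v = 0 ∨ v = 4 := by
    revert hfix
    interval_cases v <;> decide
  rcases hv' with rfl | rfl
  · exact ⟨k, hvk, k0, k1, k2⟩
  · -- `k³ = c`: take `c k`
    have hkc : k * (k * k) = c := hvk
    have hc := h.cc
    refine ⟨c * k, ?_, ?_, ?_, ?_⟩
    · calc c * k * (c * k * (c * k)) = c * (k * c) * k * (c * k) := by group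
        _ = (c * c) * k * k * (c * k) := by rw [← k2]; group
        _ = k * (k * c) * k := by rw [hc]; group
        _ = k * (c * k) * k := by rw [k2]
        _ = (k * c) * k * k := by group
        _ = c * (k * (k * k)) := by rw [← k2]; group
        _ = 1 := by rw [hkc, hc]
    · rw [← mul_assoc, ← h.cz, mul_assoc, k0, mul_assoc]
    · rw [← mul_assoc, h.ac, mul_assoc, k1, mul_assoc]
    · rw [mul_assoc, ← k2]

theorem checkB : ∀ B ∈ [8, 9, 10, 11], ∀ X < 16,
    cmp ⟨2, 3, B, X⟩ (cmp ⟨1, 3, 4, 12⟩ ⟨2, 3, B, X⟩) = ⟨1, 3, 4, 12⟩ →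
    cmp ⟨2, 3, B, X⟩ (cmp ⟨2, 3, B, X⟩ ⟨2, 3, B, X⟩) = ⟨1, 2, 4, 8⟩ →
    (B, X) ∈ [(8, 12), (9, 15)] := by
  decide +kernel

/-- the element `g`, possibly after replacing `s` by `s z` -/
theorem F1.exists_g (h : F1 z a b c d r s) (hf : Fus z a) :
    ∃ s', (s' = s ∨ s' = s * z) ∧ ∃ g, GRel z a b c d r s' g := by
  obtain ⟨k, hk3, k0, k1, k2⟩ := h.exists_k3 hf
  -- make it inverted by `d`
  have hg : ∃ g, g * (g * g) = 1 ∧ z * g = g * a ∧ a * g = g * (z * a) ∧ c * g = g * c ∧ g * (d * g) = d := by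
    have hk : ActF z a c k ⟨2, 3, 4⟩ := ⟨by norm_num, by norm_num, by norm_num, k0, k1, k2⟩
    have hkd := h.actF_mul hk h.actF_d
    have h2 := h.actF_mul hkd hkd
    have e2 : cmpF (cmpF ⟨2, 3, 4⟩ ⟨1, 3, 4⟩) (cmpF ⟨2, 3, 4⟩ ⟨1, 3, 4⟩) = ⟨1, 2, 4⟩ := by decide
    rw [e2] at h2
    obtain ⟨v, hv, hvk⟩ := h.actF_triv h2
    have hcomm : fG z a c v * (k * d) = (k * d) * fG z a c v := by rw [← hvk]; group
    have hfix := h.actF_fix hkd hv hcomm
    have hv' : v = 0 ∨ v = 2 ∨ v = 4 ∨ v = 6 := by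
      revert hfix
      interval_cases v <;> decide
    have hdd := h.dd
    -- `x = d k d = k⁻¹ v` has order three
    have hx : d * k * d = k⁻¹ * fG z a c v := by
      rw [← hvk]; group
    have hx3 : (d * k * d) * ((d * k * d) * (d * k * d)) = 1 := by
      calc (d * k * d) * ((d * k * d) * (d * k * d)) = d * k * (d * d) * k * (d * d) * k * d := by group
        _ = d * (k * (k * k)) * d := by rw [hdd]; group
        _ = 1 := by rw [hk3, mul_one, hdd]
    have hi0 : z * k⁻¹ = k⁻¹ * (z * a) := by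
      have h1 := cj_mulx k0 k1
      have h2 : a * (z * a) = z := by rw [← mul_assoc, h.az, mul_assoc, h.aa, mul_one]
      rw [h2] at h1
      exact cj_inv h1
    have hi1 : a * k⁻¹ = k⁻¹ * z := cj_inv k0
    have hi2 : c * k⁻¹ = k⁻¹ * c := cj_inv k2
    have hi : ActF z a c k⁻¹ ⟨3, 1, 4⟩ := ⟨by norm_num, by norm_num, by norm_num, hi0, hi1, hi2⟩
    have hcube : k⁻¹ * (k⁻¹ * k⁻¹) = 1 := by
      have : k⁻¹ * (k⁻¹ * k⁻¹) = (k * (k * k))⁻¹ := by group
      rw [this, hk3, inv_one]
    have hbad : ∀ v < 8, v = 4 ∨ v = 6 → (k⁻¹ * fG z a c v) * ((k⁻¹ * fG z a c v) * (k⁻¹ * fG z a c v)) = 1 →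
        False := by
      intro v hv hv4 hcub
      have f1 := (h.actF_app hi hv).1
      have l1 := (h.actF_app hi hv).2
      have f2 := (h.actF_app hi l1).1
      have l2 := (h.actF_app hi l1).2
      have e5 : (k⁻¹ * fG z a c v) * ((k⁻¹ * fG z a c v) * (k⁻¹ * fG z a c v)) =
          k⁻¹ * (k⁻¹ * k⁻¹) * (fG z a c (appF ⟨3, 1, 4⟩ (appF ⟨3, 1, 4⟩ v)) *
            (fG z a c (appF ⟨3, 1, 4⟩ v) * fG z a c v)) := by
        calc (k⁻¹ * fG z a c v) * ((k⁻¹ * fG z a c v) * (k⁻¹ * fG z a c v))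
            = k⁻¹ * (fG z a c v * k⁻¹) * (fG z a c v * k⁻¹) * fG z a c v := by group
          _ = k⁻¹ * k⁻¹ * (fG z a c (appF ⟨3, 1, 4⟩ v) * k⁻¹) * fG z a c (appF ⟨3, 1, 4⟩ v) * fG z a c v := by
              rw [f1]; group
          _ = _ := by rw [f2]; group
      rw [e5, hcube, one_mul, h.fG_mul l1 hv, h.fG_mul l2 (xltF l1 hv)] at hcub
      have := h.fG_inj (xltF l2 (xltF l1 hv)) (by norm_num : (0 : ℕ) < 8) hcub
      revert this
      rcases hv4 with rfl | rfl <;> decide
    rw [hx] at hx3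
    rcases hv' with rfl | rfl | rfl | rfl
    · refine ⟨k, hk3, k0, k1, k2, ?_⟩
      have h1 : k * d * (k * d) = 1 := hvk
      calc k * (d * k) = k * d * (k * d) * d⁻¹ := by group
        _ = d := by rw [h1, one_mul]; exact inv_eq_of_mul_eq_one_left hdd
    · -- replace `k` by `a k a`
      have haa := h.aa
      have h1 : k * d * (k * d) = a := hvk
      have hdi : d⁻¹ = d := inv_eq_of_mul_eq_one_left hdd
      have h2 : k * d * k = a * d := by
        calc k * d * k = k * d * (k * d) * d⁻¹ := by group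
          _ = a * d := by rw [h1, hdi]
      refine ⟨a * (k * a), ?_, ?_, ?_, ?_, ?_⟩
      · calc a * (k * a) * (a * (k * a) * (a * (k * a))) = a * k * (a * a) * k * (a * a) * k * a := by group
          _ = a * (k * (k * k)) * a := by rw [haa]; group
          _ = 1 := by rw [hk3, mul_one, haa]
      · exact cj_mul h.az.symm (cj_mul k0 rfl)
      · refine cj_mul rfl (cj_mul k1 ?_)
        rw [mul_assoc, ← mul_assoc a z a, h.az, mul_assoc]
      · exact cj_mul h.ac.symm (cj_mul k2 h.ac.symm)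
      · have hda : a * (d * a) = z * d := by
          rw [← mul_assoc, h.ad, mul_assoc, mul_assoc, haa, mul_one]
        have hkz : k * z = (z * a) * k := by
          have h3 := cj_mulx k0 k1
          have h4 : a * (z * a) = z := by rw [← mul_assoc, h.az, mul_assoc, haa, mul_one]
          rw [h4] at h3
          exact h3.symm
        calc a * (k * a) * (d * (a * (k * a))) = a * k * (a * (d * a)) * k * a := by group
          _ = a * (k * z) * d * k * a := by rw [hda]; group
          _ = a * z * (a * (k * d * k)) * a := by rw [hkz]; group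
          _ = a * z * ((a * a) * d) * a := by rw [h2]; group
          _ = (z * a) * d * a := by rw [haa, h.az]; group
          _ = z * (a * (d * a)) := by group
          _ = d := by rw [hda, ← mul_assoc, h.zz, one_mul]
    · exact (hbad 4 (by norm_num) (Or.inl rfl) hx3).elim
    · exact (hbad 6 (by norm_num) (Or.inr rfl) hx3).elim
  obtain ⟨g, g3, g0, g1, g2, gd⟩ := hg
  -- the images of `b` and `s`
  have hza : z * a * g = g * z := by
    have h1 := cj_mulx g0 g1
    have h2 : a * (z * a) = z := by rw [← mul_assoc, h.az, mul_assoc, h.aa, mul_one]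
    rwa [h2] at h1
  have hB : b * g = g * (g⁻¹ * b * g) := by group
  have hBz : (g⁻¹ * b * g) * z = z * (g⁻¹ * b * g) :=
    cj_comm hB hza (by rw [← mul_assoc, h.bz, mul_assoc, ← h.ab, mul_assoc])
  have hBa : (g⁻¹ * b * g) * a = a * (g⁻¹ * b * g) := cj_comm hB g0 h.bz
  have hBB : (g⁻¹ * b * g) * (g⁻¹ * b * g) = 1 := by
    calc (g⁻¹ * b * g) * (g⁻¹ * b * g) = g⁻¹ * (b * b) * g := by group
      _ = 1 := by rw [h.bb]; group
  have hBc : c * (g⁻¹ * b * g) = a * ((g⁻¹ * b * g) * c) := by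
    have h1 := cj_mulx g2 hB
    have h2 := cj_mulx g0 (cj_mulx hB g2)
    rw [h.cb] at h1
    exact cj_uniq h1 h2
  have hcases := h.prop_B hBz hBa hBB hBc
  -- `s` goes into `E`
  have hS : s * g = g * (g⁻¹ * s * g) := by group
  have hSz : (g⁻¹ * s * g) * z = z * (g⁻¹ * s * g) :=
    cj_comm hS hza (by rw [← mul_assoc, h.sz, mul_assoc, ← h.as, mul_assoc])
  have hSa : (g⁻¹ * s * g) * a = a * (g⁻¹ * s * g) := cj_comm hS g0 h.sz
  have hSB : (g⁻¹ * s * g) * (g⁻¹ * b * g) = (g⁻¹ * b * g) * (g⁻¹ * s * g) := cj_comm hS hB h.bs.symm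
  have hSs : (g⁻¹ * s * g) * s = s * (g⁻¹ * s * g) := by
    have hfin : ∀ y, (g⁻¹ * s * g) * y = y * (g⁻¹ * s * g) → (g⁻¹ * s * g) * (y * s) = (y * s) * (g⁻¹ * s * g) →
        (g⁻¹ * s * g) * s = s * (g⁻¹ * s * g) := by
      intro y h1 h2
      have h3 : y * ((g⁻¹ * s * g) * s) = y * (s * (g⁻¹ * s * g)) := by
        rw [← mul_assoc, ← h1, mul_assoc, h2, mul_assoc]
      exact mul_left_cancel h3
    rcases hcases with e | e | e | e
    · rw [e] at hSB; exact hSB
    · rw [e] at hSB; exact hfin z hSz hSB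
    · rw [e] at hSB; exact hfin a hSa hSB
    · have e' : g⁻¹ * b * g = z * a * s := by rw [e, mul_assoc]
      rw [e'] at hSB
      refine hfin (z * a) ?_ hSB
      rw [← mul_assoc, hSz, mul_assoc, hSa, mul_assoc, ← mul_assoc z a]
  obtain ⟨X, hX, hSX⟩ := h.cent_s hSz hSs
  rw [hSX] at hS
  have hB' : ∃ B, B ∈ [8, 9, 10, 11] ∧ g⁻¹ * b * g = eG z a b s B := by
    rcases hcases with e | e | e | e
    · exact ⟨8, by decide, e⟩
    · exact ⟨9, by decide, e⟩
    · exact ⟨10, by decide, e⟩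
    · exact ⟨11, by decide, e⟩
  obtain ⟨B, hBm, hBe⟩ := hB'
  rw [hBe] at hB
  have hB16 : B < 16 := by
    simp only [List.mem_cons, List.not_mem_nil, or_false] at hBm
    omega
  have hG : Act z a b s g ⟨2, 3, B, X⟩ := ⟨by norm_num, by norm_num, hB16, hX, g0, g1, hB, hS⟩
  have c1 := h.act_mul hG (h.act_mul h.act_d hG)
  rw [gd] at c1
  have c2 := h.act_mul hG (h.act_mul hG hG)
  rw [g3] at c2
  have hBX := checkB B hBm X hX (h.act_unique c1 h.act_d) (h.act_unique c2 h.act_one)
  simp only [List.mem_cons, List.not_mem_nil, or_false, Prod.mk.injEq] at hBX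
  rcases hBX with ⟨rfl, rfl⟩ | ⟨rfl, rfl⟩
  · exact ⟨s, Or.inl rfl, g, h.grel_of_grel0 ⟨g3, g0, g1, g2, hB, hS, gd⟩⟩
  · refine ⟨s * z, Or.inr rfl, g, h.twist.grel_of_grel0 ⟨g3, g0, g1, g2, ?_, ?_, gd⟩⟩
    · rw [h.sz]; exact hB
    · have h1 := cj_mulx hS g0
      have h2 : eG z a b s 15 * a = b * (s * z) := by
        have h3 := h.eG_mul (v := 15) (w := 2) (by norm_num) (by norm_num)
        have h4 : b * (s * z) = eG z a b s 13 := by
          rw [h.sz, ← mul_assoc, h.bz, mul_assoc]; rfl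
        rw [h4]; exact h3
      rw [h2] at h1
      exact h1

end Cfsg.Agent.AltType
end

-- part: AltType/GTwo
section
set_option linter.all false
open scoped Cfsg.Agent.FastGrp

/-!
Two commuting elements `g, k` of order three, and `u = z a b` is not conjugate to `z`.
-/

set_option autoImplicit false
set_option maxRecDepth 100000

namespace Cfsg.Agent.AltType

variable {G : Type*} [Group G] {z a b c d r s g k : G}

theorem Rel.act_g (_h : Rel z a b c d r s) (hg : GRel z a b c d r s g) : Act z a b s g ⟨2, 3, 8, 12⟩ :=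
  ⟨by norm_num, by norm_num, by norm_num, by norm_num, hg.zg, hg.ag, hg.bg, hg.sg⟩

theorem Rel.act_k (_h : Rel z a b c d r s) (hk : GRel z b a d c r s k) : Act z a b s k ⟨4, 8, 5, 10⟩ :=
  ⟨by norm_num, by norm_num, by norm_num, by norm_num, hk.zg, hk.bg, hk.ag, hk.sg⟩

/-- the second element with the wrong sign is impossible -/
theorem F1.no_wrong (h : F1 z a b c d r s) (hg : GRel z a b c d r s g) (hk : GRel z b a d c r (s * z) k) : False := by
  have hG := h.act_g hg
  have hK : Act z a b s k ⟨4, 9, 5, 15⟩ := by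
    refine ⟨by norm_num, by norm_num, by norm_num, by norm_num, hk.zg, ?_, hk.ag, ?_⟩
    · have h1 := hk.bg
      rw [h.sz] at h1
      exact h1
    · have h1 := cj_mulx hk.sg hk.zg
      rw [mul_assoc s z z, h.zz, mul_one] at h1
      rw [h1]
      have h2 : a * (s * z) = eG z a b s 11 := by
        rw [h.sz, ← mul_assoc, h.az, mul_assoc]; rfl
      have h3 := h.eG_mul (v := 11) (w := 4) (by norm_num) (by norm_num)
      rw [h2]
      exact congrArg (fun x => k * x) h3
  exact absurd (h.four (h.act_mul (h.act_mul (h.act_mul (h.act_mul hG hK) hG) hK) hG) (by decide)) (by decide)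

theorem F1.exists_two (h : F1 z a b c d r s) (ha : Fus z a) (hb : Fus z b) :
    ∃ s', F1 z a b c d r s' ∧ ∃ g k, GRel z a b c d r s' g ∧ GRel z b a d c r s' k := by
  obtain ⟨s1, hs1, g, hg⟩ := h.exists_g ha
  have h1 : F1 z a b c d r s1 := by
    rcases hs1 with rfl | rfl
    · exact h
    · exact h.twist
  refine ⟨s1, h1, g, ?_⟩
  obtain ⟨s2, hs2, k, hk⟩ := h1.swap.exists_g hb
  rcases hs2 with rfl | rfl
  · exact ⟨k, hg, hk⟩
  · exact (h1.no_wrong hg hk).elim

/-- `u = z a b` is not conjugate to `z` -/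
theorem F1.not_fus_u (h : F1 z a b c d r s) (hg : GRel z a b c d r s g) (hk : GRel z b a d c r s k) :
    ¬ Fus z (z * (a * b)) := by
  intro hu
  obtain ⟨s3, hs3, m, hm⟩ := h.third.swap.exists_g hu
  have hG := h.act_g hg
  have hK := h.act_k hk
  have hbm : b * m = m * (z * s3) := by
    have h1 := cj_mulx hm.zg (cj_mulx hm.bg hm.ag)
    have h2 : z * (a * (z * (a * b))) = b := by
      have h3 := h.eG_mul (v := 3) (w := 7) (by norm_num) (by norm_num)
      rw [← mul_assoc]
      exact h3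
    have h3 : z * (a * b) * (s3 * (z * (z * (a * b)))) = z * s3 := by
      rcases hs3 with rfl | rfl
      · have e1 := h.eG_mul (v := 7) (w := 8) (by norm_num) (by norm_num)
        have e2 := h.eG_mul (v := 15) (w := 6) (by norm_num) (by norm_num)
        rw [← mul_assoc z z, h.zz, one_mul, ← mul_assoc]
        exact (congrArg (fun x => x * (a * b)) e1).trans e2
      · have e1 := h.eG_mul (v := 7) (w := 9) (by norm_num) (by norm_num)
        have e2 := h.eG_mul (v := 14) (w := 6) (by norm_num) (by norm_num)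
        rw [← mul_assoc z z, h.zz, one_mul, ← mul_assoc, h.sz, ← mul_assoc z z s, h.zz, one_mul]
        exact (congrArg (fun x => x * (a * b)) e1).trans e2
    rw [h2, h3] at h1
    exact h1
  have hm3 := hm.g3
  rcases hs3 with rfl | rfl
  · have hM : Act z a b s3 m ⟨7, 8, 9, 10⟩ :=
      ⟨by norm_num, by norm_num, by norm_num, by norm_num, hm.zg, hm.bg, hbm, hm.sg⟩
    exact absurd (h.four (h.act_mul (h.act_mul (h.act_mul (h.act_mul hG hM) hG) hM) hG) (by decide)) (by decide)
  · have hM : Act z a b s m ⟨7, 9, 8, 12⟩ := by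
      refine ⟨by norm_num, by norm_num, by norm_num, by norm_num, hm.zg, ?_, ?_, ?_⟩
      · have h1 := hm.bg
        rw [h.sz] at h1
        exact h1
      · rw [hbm, h.sz, ← mul_assoc z z s, h.zz, one_mul]; rfl
      · have h1 := cj_mulx hm.sg hm.zg
        rw [mul_assoc s z z, h.zz, mul_one] at h1
        rw [h1]
        have h2 : a * (s * z) = eG z a b s 11 := by
          rw [h.sz, ← mul_assoc, h.az, mul_assoc]; rfl
        have h3 := h.eG_mul (v := 11) (w := 7) (by norm_num) (by norm_num)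
        rw [h2]
        exact congrArg (fun x => m * x) h3
    exact absurd (h.four (h.act_mul (h.act_mul hG hK) (h.act_mul (h.act_mul hM hM) (h.act_mul hK hK))) (by decide))
      (by decide)

/-- the two elements can be chosen to commute -/
theorem F1.exists_commuting (h : F1 z a b c d r s) (hg : GRel z a b c d r s g) (hk : GRel z b a d c r s k) :
    ∃ k', GRel z b a d c r s k' ∧ g * k' = k' * g := by
  have hG := h.act_g hg
  have hK := h.act_k hk
  have hGK := h.act_mul hG hK
  have hKG := h.act_mul hK hG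
  set x := (k * g)⁻¹ * (g * k) with hx
  have hcomm : ∀ v < 16, app (cmp ⟨2, 3, 8, 12⟩ ⟨4, 8, 5, 10⟩) v = app (cmp ⟨4, 8, 5, 10⟩ ⟨2, 3, 8, 12⟩) v := by
    decide +kernel
  have hxw : ∀ v < 16, x * eG z a b s (app (cmp ⟨2, 3, 8, 12⟩ ⟨4, 8, 5, 10⟩) v) =
      eG z a b s (app (cmp ⟨2, 3, 8, 12⟩ ⟨4, 8, 5, 10⟩) v) * x := by
    intro v hv
    have h1 := (h.act_app hGK hv).1
    have h2 := (h.act_app hKG hv).1
    rw [← hcomm v hv] at h2
    have h3 := cj_inv h2
    exact (cj_mul h3 h1).symm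
  obtain ⟨v1, hv1, hv1'⟩ : ∃ v < 16, app (cmp ⟨2, 3, 8, 12⟩ ⟨4, 8, 5, 10⟩) v = 1 := by decide +kernel
  obtain ⟨v2, hv2, hv2'⟩ : ∃ v < 16, app (cmp ⟨2, 3, 8, 12⟩ ⟨4, 8, 5, 10⟩) v = 8 := by decide +kernel
  have hxz := hxw v1 hv1
  have hxs := hxw v2 hv2
  rw [hv1'] at hxz
  rw [hv2'] at hxs
  obtain ⟨w, hw, hxe⟩ := h.cent_s hxz hxs
  -- relations with `c` and `d`
  have hcc := h.cc
  have hdd := h.dd
  have kc1 : c * k⁻¹ = k * c := by
    have := hk.gdg
    calc c * k⁻¹ = (k * (c * k)) * k⁻¹ := by rw [this]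
      _ = k * c := by group
  have kc2 : c * k = k⁻¹ * c := by
    rw [eq_inv_mul_iff_mul_eq]; exact hk.gdg
  have gc : c * g = g * c := hg.cg
  have gc' : c * g⁻¹ = g⁻¹ * c := cj_inv gc
  have gd1 : d * g⁻¹ = g * d := by
    have := hg.gdg
    calc d * g⁻¹ = (g * (d * g)) * g⁻¹ := by rw [this]
      _ = g * d := by group
  have gd2 : d * g = g⁻¹ * d := by
    rw [eq_inv_mul_iff_mul_eq]; exact hg.gdg
  have kd : d * k = k * d := hk.cg
  have kd' : d * k⁻¹ = k⁻¹ * d := cj_inv kd
  have hxx : x * x = 1 := by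
    rw [hxe, h.eG_mul hw hw, Nat.xor_self]; rfl
  have hxi : x⁻¹ = x := inv_eq_of_mul_eq_one_left hxx
  have fix1 : x * (c * k) = (c * k) * x := by
    have h1 : c * x * c = g⁻¹ * k * g * k⁻¹ := by
      calc c * x * c = (c * g⁻¹) * k⁻¹ * g * k * c := by rw [hx]; group
        _ = g⁻¹ * (c * k⁻¹) * g * k * c := by rw [gc']; group
        _ = g⁻¹ * k * (c * g) * k * c := by rw [kc1]; group
        _ = g⁻¹ * k * g * (c * k) * c := by rw [gc]; group
        _ = g⁻¹ * k * g * k⁻¹ * (c * c) := by rw [kc2]; group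
        _ = g⁻¹ * k * g * k⁻¹ := by rw [hcc, mul_one]
    calc x * (c * k) = (c * c) * x * c * k := by rw [hcc, one_mul]; group
      _ = c * (c * x * c) * k := by group
      _ = c * (g⁻¹ * k * g * k⁻¹) * k := by rw [h1]
      _ = c * k * (((k * g)⁻¹ * (g * k))⁻¹) := by group
      _ = (c * k) * x := by rw [← hx, hxi]
  have fix2 : x * (d * g) = (d * g) * x := by
    have h1 : d * x * d = g * k⁻¹ * g⁻¹ * k := by
      calc d * x * d = (d * g⁻¹) * k⁻¹ * g * k * d := by rw [hx]; group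
        _ = g * (d * k⁻¹) * g * k * d := by rw [gd1]; group
        _ = g * k⁻¹ * (d * g) * k * d := by rw [kd']; group
        _ = g * k⁻¹ * g⁻¹ * (d * k) * d := by rw [gd2]; group
        _ = g * k⁻¹ * g⁻¹ * k * (d * d) := by rw [kd]; group
        _ = g * k⁻¹ * g⁻¹ * k := by rw [hdd, mul_one]
    calc x * (d * g) = (d * d) * x * d * g := by rw [hdd, one_mul]; group
      _ = d * (d * x * d) * g := by group
      _ = d * (g * k⁻¹ * g⁻¹ * k) * g := by rw [h1]
      _ = d * g * (((k * g)⁻¹ * (g * k))⁻¹) := by group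
      _ = (d * g) * x := by rw [← hx, hxi]
  rw [hxe] at fix1 fix2
  have f1 := h.act_fix (h.act_mul h.act_c hK) hw fix1
  have f2 := h.act_fix (h.act_mul h.act_d hG) hw fix2
  have hw' : w = 0 ∨ w = 15 := by
    revert f1 f2
    interval_cases w <;> decide
  rcases hw' with rfl | rfl
  · refine ⟨k, hk, ?_⟩
    have h1 : (k * g)⁻¹ * (g * k) = 1 := by rw [← hx, hxe]; rfl
    exact (inv_mul_eq_one.mp h1).symm
  · have hk0 := hk.g3
    have hzz := h.zz
    refine ⟨z * (k * z), h.swap.grel_of_grel0 ⟨?_, ?_, ?_, ?_, ?_, ?_, ?_⟩, ?_⟩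
    · calc z * (k * z) * (z * (k * z) * (z * (k * z))) = z * k * (z * z) * k * (z * z) * k * z := by group
        _ = z * (k * (k * k)) * z := by rw [hzz]; group
        _ = 1 := by rw [hk0, mul_one, hzz]
    · exact cj_mul rfl (cj_mul hk.zg h.bz)
    · refine cj_mul h.bz (cj_mul hk.ag ?_)
      rw [mul_assoc, h.bz]
    · exact cj_mul h.dz (cj_mul hk.cg h.dz)
    · exact cj_mul h.az (cj_mul hk.bg h.sz)
    · refine cj_mul h.sz (cj_mul hk.sg ?_)
      rw [mul_assoc, h.sz, ← mul_assoc, h.az, mul_assoc]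
    · have h1 := hk.gdg
      calc z * (k * z) * (c * (z * (k * z))) = z * k * (z * c) * z * k * z := by group
        _ = z * k * c * (z * z) * k * z := by rw [← h.cz]; group
        _ = z * (k * (c * k)) * z := by rw [hzz]; group
        _ = c := by rw [h1, ← h.cz, mul_assoc, hzz, mul_one]
    · have hgk : g * k = k * g * x := by rw [hx]; group
      have hkz : z * (k * z) = k * (b * z) := by rw [← mul_assoc, hk.zg, mul_assoc]
      have hbzg : (b * z) * g = g * (s * a) := cj_mulx hg.bg hg.zg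
      have e1 : eG z a b s 15 * (b * z) = s * a := by
        have h3 := h.eG_mul (v := 15) (w := 5) (by norm_num) (by norm_num)
        rw [h.bz, ← h.as]
        exact h3
      calc g * (z * (k * z)) = g * k * (b * z) := by rw [hkz, mul_assoc]
        _ = k * g * (x * (b * z)) := by rw [hgk, mul_assoc]
        _ = k * g * (s * a) := by rw [hxe, e1]
        _ = k * (g * (s * a)) := by rw [mul_assoc]
        _ = k * ((b * z) * g) := by rw [hbzg]
        _ = z * (k * z) * g := by rw [hkz]; exact (mul_assoc _ _ _).symm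

/-- summary: two commuting elements -/
theorem F1.exists_pair (h : F1 z a b c d r s) (ha : Fus z a) (hb : Fus z b) :
    ∃ s', F1 z a b c d r s' ∧ ∃ g k, GRel z a b c d r s' g ∧ GRel z b a d c r s' k ∧ g * k = k * g ∧
      ¬ Fus z (z * (a * b)) := by
  obtain ⟨s', h', g, k, hg, hk⟩ := h.exists_two ha hb
  obtain ⟨k', hk', hgk⟩ := h'.exists_commuting hg hk
  exact ⟨s', h', g, k', hg, hk', hgk, h'.not_fus_u hg hk⟩

end Cfsg.Agent.AltType
end

-- part: AltType/Gen
section
set_option linter.all false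
open scoped Cfsg.Agent.FastGrp

/-!
General lemmas: involutions inverting groups of odd order, the Z*-theorem in a subgroup, strongly embedded subgroups.
-/

set_option autoImplicit false

namespace Cfsg.Agent.AltType

variable {G : Type*} [Group G]

theorem eq_one_of_odd {n : G} (N : Subgroup G) [Finite N] (hN : Odd (Nat.card N)) (hn : n ∈ N)
    (h4 : (n * n) * (n * n) = 1) : n = 1 := by
  have h1 : orderOf n ∣ 4 := orderOf_dvd_of_pow_eq_one (by
    rw [show (4 : ℕ) = 2 + 2 by norm_num, pow_add, pow_two, h4])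
  have h2 : orderOf n ∣ Nat.card N := N.orderOf_dvd_natCard hn
  have h3 : Nat.Coprime 4 (Nat.card N) := by
    have : Nat.Coprime 2 (Nat.card N) := (Nat.coprime_two_left).mpr hN
    exact (Nat.Coprime.pow_left 2 this)
  exact orderOf_eq_one_iff.mp (Nat.eq_one_of_dvd_coprimes h3 h1 h2)

/-- An involution acting fixed-point-freely on a finite group inverts it. -/
theorem inverts [Finite G] (N : Subgroup G) {t : G} (ht : t * t = 1) (hN : ∀ n ∈ N, t * n * t ∈ N)
    (hfix : ∀ n ∈ N, t * n = n * t → n = 1) : ∀ n ∈ N, t * n * t = n⁻¹ := by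
  let φ : N →* N :=
    { toFun := fun n => ⟨t * n * t, hN n n.2⟩
      map_one' := by
        apply Subtype.ext
        show t * 1 * t = 1
        rw [mul_one, ht]
      map_mul' := by
        intro x y
        apply Subtype.ext
        show t * (x * y : G) * t = (t * x * t) * (t * y * t)
        calc t * (x * y : G) * t = t * x * 1 * y * t := by group
          _ = t * x * (t * t) * y * t := by rw [ht]
          _ = (t * x * t) * (t * y * t) := by group }
  have hφ : MonoidHom.FixedPointFree φ := by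
    intro n hn
    have h1 : t * (n : G) * t = n := congrArg Subtype.val hn
    apply Subtype.ext
    apply hfix n n.2
    calc t * (n : G) = t * n * (t * t) := by rw [ht, mul_one]
      _ = (t * n * t) * t := by group
      _ = n * t := by rw [h1]
  have h2 : Function.Involutive φ := by
    intro n
    apply Subtype.ext
    show t * (t * n * t : G) * t = n
    calc t * (t * n * t : G) * t = (t * t) * n * (t * t) := by group
      _ = n := by rw [ht, one_mul, mul_one]
  have h3 := hφ.coe_eq_inv_of_involutive h2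
  intro n hn
  have h4 := congrFun h3 ⟨n, hn⟩
  exact congrArg Subtype.val h4

/-- Two distinct commuting involutions `t, u` and their product cannot all act fixed-point-freely. -/
theorem trivial_of_three [Finite G] (N : Subgroup G) (hodd : Odd (Nat.card N)) {t u : G}
    (ht : ∀ n ∈ N, t * n * t = n⁻¹) (hu : ∀ n ∈ N, u * n * u = n⁻¹)
    (htu : ∀ n ∈ N, (t * u) * n * (t * u) = n⁻¹) (hc : t * u = u * t) : N = ⊥ := by
  rw [Subgroup.eq_bot_iff_forall]
  intro n hn
  have h1 := htu n hn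
  have h2 : (t * u) * n * (t * u) = n := by
    calc (t * u) * n * (t * u) = t * (u * n * u) * t := by
          conv_lhs => rw [hc]
          rw [← hc]
          calc t * u * n * (t * u) = t * u * n * (u * t) := by rw [hc]
            _ = t * (u * n * u) * t := by group
      _ = t * n⁻¹ * t := by rw [hu n hn]
      _ = n⁻¹⁻¹ := ht _ (N.inv_mem hn)
      _ = n := inv_inv n
  rw [h2] at h1
  have h3 : n * n = 1 := by
    conv_lhs => rw [h1]
    rw [← h1]
    nth_rewrite 1 [h1]
    exact inv_mul_cancel n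
  exact eq_one_of_odd N hodd hn (by rw [h3, one_mul])

/-- The Z*-theorem in a subgroup. -/
theorem zstar_sub [Finite G] (K : Subgroup G) {t : G} (htK : t ∈ K) (htt : t * t = 1) (ht1 : t ≠ 1)
    (hiso : ∀ k ∈ K, (k * t * k⁻¹) * t = t * (k * t * k⁻¹) → k * t * k⁻¹ = t) :
    ∃ N : Subgroup G, N ≤ K ∧ (∀ k ∈ K, ∀ n ∈ N, k * n * k⁻¹ ∈ N) ∧ Odd (Nat.card N) ∧
      ∀ k ∈ K, t * k * t⁻¹ * k⁻¹ ∈ N := by
  have : Fact (Nat.Prime 2) := ⟨Nat.prime_two⟩
  let t' : K := ⟨t, htK⟩
  have ho : orderOf t' = 2 := orderOf_eq_prime (by rw [pow_two]; exact Subtype.ext htt)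
    (fun h => ht1 (congrArg Subtype.val h))
  have hi : Cfsg.IsIsolatedInvolution t' := by
    refine ⟨ho, ?_⟩
    intro g hg
    apply Subtype.ext
    exact hiso g g.2 (congrArg Subtype.val hg.eq).symm
  have hp : IsPGroup 2 (Subgroup.zpowers t') := by
    apply IsPGroup.of_card (n := 1)
    rw [Nat.card_zpowers, ho, pow_one]
  obtain ⟨P, hP⟩ := hp.exists_le_sylow
  have htP : t' ∈ P := hP (Subgroup.mem_zpowers t')
  obtain ⟨N, hN, hodd, hcomm⟩ := Cfsg.Agent.S0215.result P t' ho htP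
    (fun g hg => Cfsg.Agent.S1180.eq_of_conj_mem_isPGroup t' hi (P : Subgroup K) P.2 htP g hg)
  refine ⟨N.map K.subtype, Subgroup.map_subtype_le N, ?_, ?_, ?_⟩
  · rintro k hk _ ⟨n, hn, rfl⟩
    exact ⟨⟨k, hk⟩ * n * ⟨k, hk⟩⁻¹, hN.conj_mem n hn _, rfl⟩
  · rw [Subgroup.card_map_of_injective K.subtype_injective]
    exact hodd
  · intro k hk
    exact ⟨_, hcomm ⟨k, hk⟩, rfl⟩

open Cfsg.Agent.TwoFusion.StronglyEmbeddedBasic in
/-- Closing argument: a proper subgroup of a simple group containing the centralisers of its involutions has only one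
class of involutions. -/
theorem strong [Finite G] [IsSimpleGroup G] (H : Subgroup G) (hH : H ≠ ⊤)
    (hcent : ∀ i ∈ H, i * i = 1 → i ≠ 1 → ∀ x, x * i = i * x → x ∈ H) {i₁ i₂ : G} (h1 : i₁ ∈ H) (h2 : i₂ ∈ H)
    (h11 : i₁ * i₁ = 1) (h22 : i₂ * i₂ = 1) (n1 : i₁ ≠ 1) (n2 : i₂ ≠ 1) : Fus i₁ i₂ := by
  -- a conjugate of `i₁` outside `H`
  obtain ⟨g, hg⟩ : ∃ g : G, g⁻¹ * i₁ * g ∉ H := by
    by_contra hcon
    push Not at hcon
    have hle : Subgroup.normalClosure {i₁} ≤ H := by
      rw [Subgroup.normalClosure, Subgroup.closure_le]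
      intro x hx
      rw [Group.mem_conjugatesOfSet_iff] at hx
      obtain ⟨y, hy, hyx⟩ := hx
      rw [Set.mem_singleton_iff] at hy
      subst hy
      obtain ⟨c, rfl⟩ := isConj_iff.mp hyx
      have := hcon c⁻¹
      rwa [inv_inv] at this
    rcases (Subgroup.normalClosure_normal (s := {i₁})).eq_bot_or_eq_top with e | e
    · apply n1
      have : i₁ ∈ Subgroup.normalClosure ({i₁} : Set G) := Subgroup.subset_normalClosure rfl
      rwa [e, Subgroup.mem_bot] at this
    · exact hH (top_le_iff.mp (e ▸ hle))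
  set j := g⁻¹ * i₁ * g with hj
  have hjj : j * j = 1 := by
    rw [hj]
    calc g⁻¹ * i₁ * g * (g⁻¹ * i₁ * g) = g⁻¹ * (i₁ * i₁) * g := by group
      _ = 1 := by rw [h11]; group
  have hj1 : j ≠ 1 := fun e => hg (e ▸ H.one_mem)
  have hfj : Fus i₁ j := ⟨g, by rw [hj]; group⟩
  have oj : orderOf j = 2 := orderOf_eq_two_of_mul_self hjj hj1
  have o2 : orderOf i₂ = 2 := orderOf_eq_two_of_mul_self h22 n2
  have hodd : Odd (orderOf (i₂ * j)) := by
    by_contra hne
    obtain ⟨w, -, ow, hwi, hwj⟩ := exists_commuting_involution i₂ j o2 oj (orderOf_pos _) hne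
    have hw1 : w ≠ 1 := by
      rintro rfl
      rw [orderOf_one] at ow
      omega
    have hwH : w ∈ H := hcent i₂ h2 h22 n2 w hwi.eq
    exact hg (hcent w hwH (mul_self_of_orderOf ow) hw1 j hwj.eq.symm)
  obtain ⟨w, -, -, hw, -⟩ := exists_swap i₂ j o2 oj hodd
  have h2j : Fus i₂ j := ⟨w⁻¹, by rw [← hw]; group⟩
  exact hfj.trans h2j.symm

end Cfsg.Agent.AltType
end

-- part: AltType/GTwo_mg
section

end

-- part: AltType/Recognize
section
prune_inst 0x400000000000000000000000000000000000000000000000000000800000000000000000000000000000000000000000000000020000400000000000000000000000000000000000000000000000000000000000000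
set_option linter.all false
open scoped Cfsg.Agent.FastGrp

-- part: AltType/EnAData
section
set_option autoImplicit false
set_option maxRecDepth 100000

namespace Cfsg.Agent.AltType.EnAData

open Cfsg.Agent.SporadicRecognition.CosetCert

noncomputable def tree : Tr := beta% (fun (N : Nat → Tr → Tr → Tr) (L : Nat → Tr) => (N 96 (N 48 (N 16 (L
  0xffffe6d0d4d89a1a63333e64240144d088a0111282024c404b880960e12420fffffccc989973031a5e61cb845070870411c1c23c3c510888c0f13a2222c3dbffff9842d304585ecacbb15081041121e2343c42870840e10c1c2544041873fffff0e8181c40c3f0487c052ce52578a04006879090ee181fc343d068750daffffe1940c398686e080d80854c9ca6130680c0d4101d83433860700c0de197ffffc9c129222421c46418882d85058030c2141901c310585f070ba161702dbffff8fb211e8403c07c768f050030b4161802c2a050530a0ae0c1542829053fffff08e1011008268287d0d1c43a36c7027848780d0941013824258484809affffe0f0082304841040da183506c678d03f080d218124241f0404308084117ffffc628c8bf181722e2dc581b03033020740c18c2c1d8385e0b0700e0dc1dbffff8b015156282a04c530902d0206a0e0e41c1883030060ac140c81817833fffff04a08088043d8684c091322224440160282905050080ac14150282605affffe06c04120286b0c080102203c410701e0403e0809c140e8202104040097ffffc39068660c02604040042c858510a0340605c080a8181803032060500e3ffff8450907a100240409018340705c0c030080b0180d0201e0402c0807014fffff0460a07010088180a020100201c040300805010080200c04010080101f)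
  (N 32 (L
  0xffffe3cc287e109272425e30a214d41290f6201ee40400847a9012d241f229646c5bfffffffffffffe3bc288b8bfffff1e42ffffffffff91223fffffffffe08f03fffffffffe3b02bffffffffffffffffffffffffffffffffffffffffffcfffff4f6a29dd4135a7a644e1c83838424748e173291d6365b4a4738d8e51d6ffffe975352da62504b4949436824718e8e81d1bc3837470b2140e01a1b838fffffd2224a42484788e8e5186b0d0d3081b23456c9c750e957271cc3a35c6dbffffa3345462888a90d13210ce081aa363606c690d0d11a2a04c37c70680d3fffff18e303101c9990945254368284900668a93f251923051c94658a93b25affffe2f81c630c9302025248828fd019f0c11824a4832064600c0c3142564964802bfffffffff1762c2e01fffff9181f1e23e4248bffff8bd13fffffffffe08e85fffffffffe2d81c5d0b91622ffffe41c888811fffffffffffffffffffcfffff164282bc189b0a935153f87a7e8f0660c8b5151682840c84650c8fe21affffe2a818588a93114264287c8ecf71d0ad1415c282cc54560a0c2181f04164684bfffffffffffffe29c1bfffffffff22647fffffffff8bc17fffffffffe08f837ffffffffe294185489fffff228463b87bfffffffff21645fffffffffcfffff3b472748e0e11b9b836136202601450880a4111461e27c444f0789c116)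
  (L
  0x3d2226583ccd18fffffffffe788e3ffff9d338ffffe770e7ffffffffffffff7ffffdb519b6b3731e5c6303dc2b93817132a56644b8e39b9932b39a6e714de3ffffb61326cc6c6183cc717b7a706f0de624b8c8179bb3631654620b8de9b49e62cffffe60c3bffffffffffffffffffcef9cffffffffffffffcce18fffffa3d61c60438c296ffffffffffffffcf01c9b234ffffffffffffff9d738fffff7ffffdb195b642b2fa545e839b9373706d3285e600a8bf159922f35c666a4ce3ffffb602a6bcd85d438be15b586b6acd45e0a8bf959792a3145c5dca8d1994fffff6a2d2d39a19f33b31662d25059834b8141741d2e44e5b874b61396a296ffffeca995943231b63622c457434b41496f292c250580a0b28e163262be50fffffd8530b06605f8bebcd78aa931520c2b44c5706cb8949581b2d6525589dbffffaed5d5d6b8b896d6d2d14b0c2a84e5649ca79314e262a234588a0a6933fffff274484dc2ca30c94421596b2af960a5109401927c4852064a11093c19affffe4842c9c9292a1825040ac15d52ab1242424c304f494919212e202583164701ffffffffffffffe4342ffffffffffffffe4445bffffffffffffffffffe08c8bfffffffffe4142c8791fffff22a2c42058850bfffff21825fffffffffcfffff1fa403e828a19293419534aaa4950a492902212024041054a0928ff15a)))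
  (N 64 (L
  0xfffff0cc76191fc7d948a526844650e20a163d586b0850f10ca02183a57eb0fffffe0cc94169181d2102a3d061f2091841c7caed5d081eab55743c82acd5dbffffc088e8031afde31f9c5a02184167e834fd031f2053a556ac81cf1532b3fffff7e114f9a25f0443dd873fc787ec550aa02a25541e7e804f5001da9d556ffffef6619ebc2bd3847a3067e454fe9ea204152aa884d014c2a2083e526a8fffffde7413cc8178500ef5fcfa1d1f1143ee747e0ed11209f53b3fe7aa2d4dbffffbbb7e770faec9f1d7bd9ed143e6767d8ecf79d2043e3e07485d0141a939e80fffffe76447ffffffffffffffffffffffffffff3ba61ffffffffffffffa3ca6274444ed9cffffffffffffffcf0981d430ffffe758c7ffff9d82cfffff7ffffdb617b6d333886c70445d53d3a6793a066728d8e4179cc3339c5e718be3ffffb652e6d0646dc44e19bb9f7873aee6e8d8e49b9bc2e380646e4d8df1749e730ffffe6cc43fffffffff3c663ffffcdb18ffffffffffffffcef1cfffffa3d41e6c043ffffffffffffffffffffffffffffffffffffffffffffffffffff7ffffdb71bb692f3506469441cb3b3947539e6e6b4c8d5999cb3735e566a8ae3ffffb67366c45c67840d399b8e74718e6684c8d6199a23237e6c680c8d21549ec10336606603ffffffffffffffe790d4da9afffff3aa71ffffcce96fffffa)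
  (N 80 (L
  0x848809d8753e28ffffffffffffffdf740fffffffffffffffffffffffffffff7ffffe34c8488944da9c9a8766ed34dba564ac6cdd9938a3a734b4ea8e9bd1e3ffffc608f8b12698c753627cd5a49a146ccd99a2b3a6746632c49953934a34c25414be9897073fffffffff83f25ffffffffffffff4c299ffffd3f28fffffa86e76968712f26ffffffffffffffffffffffffffffe98137ffffffffffffff7ffffe504b474804a49493c7267514c8a1696ce95d292aa5a724f4b2869510e3ffffc90958f6fe9247128a5cc5a09853ec4d892b25a4c4a676cc92d2927214c213c48c9090c6fffffffffffffff082193126fffff4f2a1ffffd2422b0d61a8507a9046d22a4fffffffffefae27ffffa7850ffffe9f547fffffffff610c17ffffe32c246a8847c8c8ec6e5fcf4b59d5d0b6bdd793827a40434e89e9b93e3ffffc5c838c70e8e06d1ea3cb19c95f36bd5797fafa664e5c0b48e91934274c233e46a888c86bffffffffffffffffffd4028fffff46e89ffffd23a4fffffa85c748c0691a22ffffffffffffffffffffffffffffe8d917ffffffffffffff7ffffe364646f7c458848a46a56cd4ab99606be8bd0916a1a3f474b09694d2e3ffffc738b8ecf68946915a1ca99894b2eb71691721a28425f2bc89d0926a54fffff86c990d4724acb48d9543a8086865109e2244144676b49650f9face596)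
  (L
  0x87aaac149d85b0fffffffffffffffffffffffffffffffffd83b07fffffffff7ffffe8f5653bae5fcbcbec9efcb7df82e60886c0119a1b3b025b692ced059e3ffffd12aba5b5abc89d7eafdfd2fbf8b6bd9197c23b35665f484bd1799cb34c2b565deb8bb09bffffffffffffffffffdaa34fffff5e2b9ffffd8730fffffa880a4ba899772effffffffffffffffffffffffffffebc177ffffffffffffff7ffffeacd84eda85c8b4b849aeddd5d8b95d28eb9d6972adb015f646c6c798e3ffffd47af9c74eb649971addd3b8b976eb7509732dade5a5be8cb6d698b314fffff88ac9110a2dbdb5a7b559ab0b28956aaa2d8595aea6b4d0568abacf416fffff10ca6212bd93b4b0566af495662cac65558880b095164ac2c85258080fffffe272c44d29ae56558ac5592b2af24570acaf0fd5d2aab63f5a0b2ad0fdbffffc3f5c87c4d542c2a057aa424562aeadd5d552b2a9525587cab551539f3fffff8944f125529957525ad538a8a648562ac2a33d572aea85555029a9e3d6fffff0a9821493d19aca1756a44854daaad45952c78b05614b9e2ae5652878fffffe281444f599fb553caa545292872051ea4a414d6b2ca8d5353eaaa30edbffffc4c26896ad3a2a26fd3a8120512a6a394d42a92a85650ca4b1d61421d3c2f3fffffe9e877fffffffff772fbfffffffffffffffffffffffd3fa6fffffa))))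
  (N 144 (N 112 (L
  0xbd2bffffffffffde1baffffedf1bdbc9737e6ffffffffffdc3b97ffffffffed7e90fffffffffffffffffffdbb9737b706fae1fffffffffffffffffffffffdef3237fffffffffffffef14e3746d6e256e0dc5bfb87ffff6ecd7ffffdccbb35ed47fffffffffe5d4efffff6de56dcdb9c4b938271fffffffffffffffffff76be54d74abffffffffffffffffffffffffffffffffffffffffffffffffffff77a16bffffffffffffffffffdad353572a6b8d4e29cbffffb756efffffffffdafaa17ffffffffffffffffffb552a6b2d6d6daffffffffffffffffffffffffbc41576a6d0d40a7fffffffffffffffffffffffffffffffffffffffffffffffa858b0d34a5a934ffffffffffffffffffffffffffffffffffffffffffffffff7ffffebdd95a0b4680cccf4a7043be073669896d1939a22fb4863694bed097e3ffffd6bb1b1966cc0a59fb3e0b37c14c6cd1399c27b365e67894cc9999d2f4c2d59658c8ca4a3ffffffffffffffffffffffffffff65cc9ffffffffffffffa88ca6c9ca195b2ffffffffffffffffffffffffffffecb597ffffffffffffff7ffffee15b504aa63ac4c68a309b36123764c9ec89899031b4767648b6c7d6e3ffffdaeb59ed52c40a18e31e0473c0664c512990b1b15626309cc49898bad4c2254618c0c249fffffffffffffffffffd97b2fffff69ed1ffffd87aefffffa)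
  (N 128 (L
  0xfffff1d52e514b3c47f782778cf0b15e0bca7c78cff26a59e43e53dae7c7111ffffe3d254929577876f0e0313e0624bf77cfef1602474abc07b9e7534beb661e0d7ffff77475ffffffffffffff80b0afc62bfffffffffffffffffffffffd4473e76e75ffffffffffffffffffffffffffffffffffffffffffdf544fffffbfffff1b90e38c63b47b7627587afb0e5ebc98076cf6ff231e3c05a2b4901291ffffe3ba14788b75c74ecdf30cde617bb760f6ed5f1fa45bbf7f9c14f63ace702b1ffffffffff30e7fffffbac797526fffffffffffffffffffffffffffffb5f066ffffffffffffffccca174a6eeadebffffffffffffffffffffffffffff7bdecfffffffffffffffffffee85ddcf1b3a377fffffffffffffffffffffffed8252fffffffffffffffffffdce1b3a078744f1fffffffffffffffffffffffdef3a77fffffffffffffef2d23987572a66ea1e5d23c7ffff736e9fffffffffb5f34ffffffffffffffffffff72666e5ddbffffffffffffffffffffffffffff7bdcc5ffffffffffffffffffee41cdc6993927375af5ffffdcd3b7ffffffffed8192bffffffffffffffffffdc59938f74722e9fffffffffffffffffffffffdefa2dffffffffff29a5ffffffffff7085fffffffffffffff710e1fffffffffb5ea5effffffffffffffcbd997005ee19cbfffffffff74ef3ffffffffffffff7)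
  (L
  0xfffff21a523427c108f81a7f9aaa331c7d5fb0ad36304a220a465c6b69312d1ffffe2b49c614e8127f03e43314866ca8acb635deca0643d4eafac7636cad66189d7ffff80e7dfffffffffffffffffffffffffffffffffffffffffffffffd4301a8007dfffffffffffffffffffffffe01c2ffffffffffffffffffffffffbfffff1c1f236a1bf98b7ec7d9d2a7405957fb27ff16ff5f209c8520ac7f7091ffffe3cbdc72427e47cfe23342d3e83afa875effa31fabdd6db1a835f456ae61d0dfffff7de7bfffffffffc048dfffffffffffffffffffffffffffffffffd4393c7ca7bffffffffffffffffffefb121f440fffff83525ffffdf4befffffbfffff1ad1e33c23e2877be7b97a532ce4c8a94a535b04642424a506aa7c9011ffffe312345e837b87af862329e4651c77bd0f4deba05c7c5a93a4d5b3eea66131ebdb857b079fffffffffffffffffff0724bfffffffffffffffffffffffd4271b7ac78f6a1bfffffffff80cfdffffe0146ffffffffffffffe0bc8fffffbfffff19a223223bd5837a47993f1b26e2dc8b6a215720a524f4b55db07f5191ffffe2fc3c5d467a078f521324e2647c3a1d57472b22a49db4b5a195752ebe6240e7ffff79a77fffffffffffffffffffffffffffffffffffffffffffffffd4344179676f3e0bfffffffff7daa1ffffdf3c4ffffffffffffffffffffffffb)))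
  (N 176 (N 160 (L
  0xc1a65fffffffffffffffffffffffe62257fffffffffffffffffffffffffffed8518bffffffffffffffffffe60a57ffffffffffffffffffffffffffffffffdf0115ffffffffff73adffffffffff97c8fffffffffffffffffffffffffffffb60146ffffffffffffffcbb6d9688ffffffffffcb799fffff2e25ffffffffff7bd8dbfffffffffde36efffff2ce6e58237ffffbbd75fffffffffcd8a4ffffed7acaffffffffffba131ffffe57234b29cfffff732dfffffdd9b99a547ffffdf08977fffffffffffffffffffffff95887ffffffffffffffffffffffffffffb5fe5ffffffffffe5e38fffff95487fffffffffcb69d99343ffffffffffffff7c0055ffffffffffffffb9f37ffffe54217ffff9813dffffffffffffff98d40d8416bffffffffffffff29dca52217ffffba971fffffffffcb99dfffffffffdfffffca3809429725e564a20e87b4cfd6b48ab24ecac9b8093f095f6ca4cc847ffff926ff2452a4620c9696cd15d9f2b2d55ac9c9691eff45eaed45ad70b19fffff2253e43c847f938f881986b72fc448b88b116720e1242c44efa8902f91ffffe2ca74578f8a2811fa533cc1e78ab8a72766ad22ac1c5b87b076739a9e61c207ffff8307fffffffffffffff83c9b0761bffffc1b89ffffffffffffffd43b1d82a7fffffffffffffffffffffffffffffffffffffffffffffffffffffb)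
  (L
  0xfffff572a2ad2dd52afa9ead9eac7475556090ab15f55aa2bcd955e84aa9591ffffea553d485aa7ead546c34145e90a7a891755ec2a353d4d8fa85175320e7ffffd3c5fa75594d2b698aae88acccf2b692d29c43d75b2b39694fa029b5547ffffa5cbd4b2ae922ad33aecb711982529456d2a88acf63642ce93c3d307f9fffff4e6ba8fafd1baba30a99f65744d752396a3b07662d2e05b5218caa7611ffffe95d6d135ea14a946ab33361e6583a1f0744612c359d1695a1b074522e7ffffd0563b896d3fea67e29e8fb0cbb63426a280d4dbcb6a075141e229ad747ffff9eec56c2d678a9cfeaad19659ce327ad4d00aab596b3e69e7a3fcfa879fffff3b96eadd84eaa79cea59ae3f34c8508aa9d94f556c281554f094b2d691ffffe722d549af9bca53a6a348d7e848b9c54f3aea2a2d7cf8a99c2f73964e70799ffffffffffffffffffffffff9b89fffffffffffffffffffffffffffffb60e4efffffffffffffffffff9b49ffffffffffffffffffffffffffffffffff7be4ebfffffffffde476fffff35e8e6a277ffffffffffffffffffcd99cffffed7c4cffffffffffba341ffffe67a74d6a4fffffffffe68d1fffff9a737ffffdf0a9b7fffffffffffffffffffffff99a97ffffffffffffffffffffffffffffb60c67fffffffffe65bcfffff98e97ffffffffffffff99533ffffffffffffff7))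
  (N 192 (L
  0xc817bfffffffffe3cbeffffffffff133ffffffc537dfffff1ae17ffffffffed90df3fffffffffffffffffff11bffffffffffffffffffffffffffffffffffdf22bffffffffffffffff1ee0620bdc3af98bb0714607ffffc4579fffffffffb64280ffffffffff1de0fffffc36f987efb1b6162cc1fffffffffffffffffff7c7f77ffffffffffffffffffffffff0c3dfffffc7185fffff10df7ffffffffed911efffffffffffffff8e70b0b3de1abcfffff896ffffffe30c1fffffffffdefdaf7fffffffffffffef0387ffffbb4b7ffffeefce7ffffbbb71fffffffffb5ff2ffffffffffffffffffffbaeb7fffffffffffffffffffffffffffffffff7bee85ffffffffffffffbacdfffffee92d5d597fffffffffeee5d7ffffffffed7d8abffffffffffffffffffee52d7fffffffff7366fffffffffffffffffffdfffffdc5aab86c76e6d6db2ce6fc7cdd0f72612dfdadbdaab835971e42ddd947ffffb63536bd8ad32cdb8b6cff2da2ad2d5cadbeb6b5b536d60ed4cadb38f9fffff6859ecfd9595b3b24b1a2ed7434b5a5aeb3727666b2ced75a37cb2f511ffffec6b358bb1b02b1652d33b59e75b3b0b6762652c3d5d91adb092763dee7ffffd9eb4af8cf5d2c6b8abe818cd1b5360232bc47d76aeaf5615fa5add5b47ffffb15675b19ab0abd73b2cb9559eec2b347d6a90ad15b5ba2eb247d6f959)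
  (L
  0x65aadfffffffffffffffffffcb111fffffffffffffffffffffffffffffffff7cdb6dfffffffffffffffffff9571f2943e57c7fffffffffffffffffffffffed9c213fffffffffffffffffff2843e54c8cad91fffffffffffffffffffffffdf3943ffffffffffffffffffffffffc9d09ffffffffffffffffffffffffffffb671b6fffffffffffffffffffc9909fffffffffffffffffffffffffffffffff7cc957fffffffffffffffffff92f0f2441ffffffffffffffffffffffffffffed9de4ffffffffffffffffffff2341e4ac4ffffffffffffffffffffffffffffdf20be7fffffffffffffffffffffffc65018def7fffffffffffffffffffffffb63ebeffffffffffffffe3abdc55018d30b17df62dbdfffff8c6effffffffff7))))))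
  Tr.N Tr.L

noncomputable def wtree : WT := beta% (fun (N : Nat → WT → WT → WT) (L : Nat → List Nat → WT) (c : Nat → List
  Nat → List Nat) (n : List Nat) => (N 49 (N 24 (N 12 (N 6 (N 3 (N 1 (L 1 (c 9 (c 0 (c 8 n)))) (N 2 (L 5 (c 9
  (c 2 (c 8 n)))) (L 3 (c 9 (c 3 (c 8 n)))))) (N 4 (L 0 (c 9 (c 1 (c 8 (c 1 n))))) (N 5 (L 2 (c 9 (c 5 (c 8 (c
  5 n))))) (L 8 (c 9 (c 9 n)))))) (N 9 (N 7 (L 0 (c 8 (c 1 (c 9 n)))) (N 8 (L 3 (c 8 (c 3 (c 9 n)))) (L 4 (c 9
  (c 4 (c 9 n)))))) (N 10 (L 2 (c 8 (c 5 (c 9 n)))) (N 11 (L 1 (c 8 (c 1 (c 0 (c 9 n))))) (L 5 (c 8 (c 5 (c 2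
  (c 9 n))))))))) (N 18 (N 15 (N 13 (L 2 (c 11 (c 0 (c 10 n)))) (N 14 (L 5 (c 11 (c 1 (c 10 n)))) (L 4 (c 11 (c
  4 (c 10 n)))))) (N 16 (L 0 (c 11 (c 2 (c 10 (c 2 n))))) (N 17 (L 1 (c 11 (c 5 (c 10 (c 5 n))))) (L 10 (c 11
  (c 11 n)))))) (N 21 (N 19 (L 0 (c 10 (c 2 (c 11 n)))) (N 20 (L 3 (c 11 (c 3 (c 11 n)))) (L 4 (c 10 (c 4 (c 11
  n)))))) (N 22 (L 1 (c 10 (c 5 (c 11 n)))) (N 23 (L 2 (c 10 (c 2 (c 0 (c 11 n))))) (L 5 (c 10 (c 5 (c 1 (c 11
  n)))))))))) (N 36 (N 30 (N 27 (N 25 (L 0 (c 7 (c 0 (c 6 n)))) (N 26 (L 3 (c 7 (c 1 (c 6 n)))) (L 4 (c 7 (c 2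
  (c 6 n)))))) (N 28 (L 1 (c 7 (c 3 (c 6 (c 3 n))))) (N 29 (L 6 (c 7 (c 7 n))) (L 0 (c 6 (c 0 (c 7 n))))))) (N
  33 (N 31 (L 1 (c 6 (c 3 (c 7 n)))) (N 32 (L 5 (c 7 (c 5 (c 7 n)))) (L 3 (c 6 (c 3 (c 1 (c 7 n))))))) (N 34 (L
  8 (c 11 (c 8 (c 10 n)))) (N 35 (L 8 (c 10 (c 8 (c 11 n)))) (L 2 (c 7 (c 4 (c 6 (c 4 n))))))))) (N 42 (N 39 (N
  37 (L 2 (c 6 (c 4 (c 7 n)))) (N 38 (L 4 (c 6 (c 4 (c 2 (c 7 n))))) (L 9 (c 11 (c 9 (c 10 n)))))) (N 40 (L 9
  (c 10 (c 9 (c 11 n)))) (N 41 (L 4 (c 8 (c 4 (c 8 n)))) (L 2 (c 5 (c 9 (c 5 (c 8 n)))))))) (N 45 (N 43 (L 6 (c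
  9 (c 7 (c 9 (c 7 (c 9 (c 7 (c 9 n)))))))) (N 44 (L 6 (c 2 (c 6 (c 4 n)))) (L 7 (c 2 (c 4 (c 7 (c 4 n)))))))
  (N 47 (N 46 (L 12 (c 6 (c 8 (c 6 (c 8 (c 6 (c 8 (c 6 (c 8 n))))))))) (L 8 (c 4 (c 9 (c 4 n))))) (N 48 (L 9 (c
  1 (c 0 (c 9 (c 1 n))))) (L 9 (c 3 (c 9 (c 3 n)))))))))) (N 74 (N 61 (N 55 (N 52 (N 50 (L 8 (c 3 (c 8 (c 3
  n)))) (N 51 (L 3 (c 10 (c 3 (c 10 n)))) (L 1 (c 5 (c 11 (c 5 (c 10 n))))))) (N 53 (L 6 (c 11 (c 7 (c 11 (c 7
  (c 11 (c 7 (c 11 n)))))))) (N 54 (L 6 (c 1 (c 6 (c 3 n)))) (L 7 (c 1 (c 3 (c 7 (c 3 n)))))))) (N 58 (N 56 (L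
  12 (c 6 (c 10 (c 6 (c 10 (c 6 (c 10 (c 6 (c 10 n))))))))) (N 57 (L 1 (c 3 (c 7 (c 3 (c 6 n))))) (L 5 (c 6 (c
  5 (c 6 n)))))) (N 59 (L 2 (c 5 (c 2 (c 5 n)))) (N 60 (L 1 (c 0 (c 1 (c 0 n)))) (L 2 (c 4 (c 7 (c 4 (c 6
  n))))))))) (N 67 (N 64 (N 62 (L 12 (c 11 (c 9 (c 10 (c 8 n))))) (N 63 (L 11 (c 2 (c 11 (c 0 n)))) (L 11 (c 4
  (c 11 (c 4 n)))))) (N 65 (L 11 (c 2 (c 0 (c 11 (c 2 n))))) (N 66 (L 11 (c 10 (c 10 n))) (L 10 (c 4 (c 10 (c 4
  n))))))) (N 70 (N 68 (L 10 (c 2 (c 10 (c 2 (c 0 n))))) (N 69 (L 7 (c 10 (c 6 (c 10 (c 6 (c 10 (c 6 (c 10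
  n)))))))) (L 7 (c 3 (c 7 (c 1 n)))))) (N 72 (N 71 (L 7 (c 5 (c 6 (c 5 n)))) (L 6 (c 5 (c 7 (c 5 n))))) (N 73
  (L 6 (c 3 (c 6 (c 3 (c 1 n))))) (L 11 (c 9 (c 11 (c 8 n))))))))) (N 86 (N 80 (N 77 (N 75 (L 10 (c 9 (c 10 (c
  8 n)))) (N 76 (L 11 (c 3 (c 10 (c 3 n)))) (L 10 (c 3 (c 11 (c 3 n)))))) (N 78 (L 10 (c 0 (c 10 (c 2 n)))) (N
  79 (L 11 (c 8 (c 11 (c 9 n)))) (L 10 (c 8 (c 10 (c 9 n))))))) (N 83 (N 81 (L 9 (c 6 (c 8 (c 6 (c 8 (c 6 (c 8
  (c 6 n)))))))) (N 82 (L 9 (c 5 (c 9 (c 2 n)))) (L 9 (c 4 (c 8 (c 4 n)))))) (N 84 (L 0 (c 1 (c 9 (c 1 (c 8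
  n))))) (N 85 (L 9 (c 1 (c 9 (c 0 n)))) (L 8 (c 5 (c 8 (c 2 (c 5 n))))))))) (N 92 (N 89 (N 87 (L 8 (c 2 (c 8
  (c 5 n)))) (N 88 (L 12 (c 8 (c 6 (c 8 (c 6 (c 8 (c 6 (c 8 (c 6 n))))))))) (L 8 (c 7 (c 9 (c 7 (c 9 (c 7 (c 9
  (c 7 n)))))))))) (N 90 (L 9 (c 2 (c 5 (c 9 (c 5 n))))) (N 91 (L 12 (c 7 (c 0 (c 6 (c 0 n))))) (L 7 (c 4 (c 7
  (c 2 n))))))) (N 95 (N 93 (L 7 (c 3 (c 1 (c 7 (c 3 n))))) (N 94 (L 6 (c 0 (c 6 (c 0 n)))) (L 12 (c 6 (c 1 (c
  3 (c 7 (c 3 n)))))))) (N 97 (N 96 (L 6 (c 4 (c 6 (c 4 (c 2 n))))) (L 12 (c 7 (c 9 (c 7 (c 9 (c 7 (c 9 (c 7 (c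
  9 n)))))))))) (N 98 (L 7 (c 0 (c 7 (c 0 n)))) (L 7 (c 8 (c 6 (c 8 (c 6 (c 8 (c 6 (c 8 n)))))))))))))))) WT.N
  WT.L (@List.cons Nat) (@List.nil Nat)

noncomputable def stree : _root_.Cfsg.Agent.SporadicRecognition.CosetCert.ST := beta% (fun (N : Nat → _root_.Cfsg.Agent.SporadicRecognition.CosetCert.ST → _root_.Cfsg.Agent.SporadicRecognition.CosetCert.ST → _root_.Cfsg.Agent.SporadicRecognition.CosetCert.ST) (L : Nat → List Nat → List Nat → _root_.Cfsg.Agent.SporadicRecognition.CosetCert.ST) (c :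
  Nat → List Nat → List Nat) (n : List Nat) => (N 3 (N 1 (L 0 n n) (N 2 (L 1 n n) (L 2 n n))) (N 5 (N 4 (L 3 n
  n) (L 4 n n)) (N 6 (L 5 n n) (L 6 n n))))) ST.N ST.L (@List.cons Nat) (@List.nil Nat)

noncomputable def C : Cert where
  data := tree
  lm := 15
  rb := 251
  fb := 19
  mask := 524287
  B := 256
  k := 12
  N := 201
  inv := fun x => bif Nat.beq x 0 then 0 else bif Nat.beq x 1 then 1 else bif Nat.beq x 2 then 2 else bif Nat.beq x 3 then 3 else bif Nat.beq x 4 then 4 else bif Nat.beq x 5 then 5 else bif Nat.beq x 6 then 7 else bif Nat.beq x 7 then 6 else bif Nat.beq x 8 then 9 else bif Nat.beq x 9 then 8 else bif Nat.beq x 10 then 11 else bif Nat.beq x 11 then 10 else x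
  words := wtree
  subs := stree

end Cfsg.Agent.AltType.EnAData
end

-- part: AltType/EnAChk0
section
set_option autoImplicit false
set_option maxRecDepth 100000

namespace Cfsg.Agent.AltType.EnAChk0

open Cfsg.Agent.SporadicRecognition.CosetCert Cfsg.Agent.AltType.EnAData

private theorem alC : Cfsg.Agent.SporadicRecognition.CertFast.al (Nat.succ C.lm) C.data = true := by decide +kernel

theorem c0 : _root_.Cfsg.Agent.SporadicRecognition.CosetCert.Part C 0 64 48 := Cfsg.Agent.SporadicRecognition.CertFast.part_fast C alC 48 (by decide +kernel : Cfsg.Agent.SporadicRecognition.CertFast.runF C 12 4095 0x4f44f40020020011c30021a30023a30021830020020020020020010022530022431e31d30020020020020011c31f31a30022333831830020020020020020013932532032430021d30020020020020011c31f31a31930020021830020020020020020010022532032431e31d30020020020020011c31f31a319323338318300000100000000000000000000200000000000111300000000035300200000200000200000242300200100200200200200200200200240300200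10530020020130830020020030020000010000003630000020000000001530000010000000000000000000000000000000000024230020010020020b30020730930020024130020010530020020130830230430030020020010000000000021730003230000020000011130000000020000d30001330000000000024330020010020020020020730020a30633e30020010530020020130830230020030330000010000000000001730000000001530000011130000000003430d30000000003330003f30020020010020020b30020730930a30636b40020010530020020130830230430030330020020020020020010020020020020021d30020020020020011c31f31a31930020021830020020020020020010020022030021e31d30020020020020011c31f31a31930021b31830020010020020020020020020020020020020011130020020020020d30021330c30020020000000000010000000000020000000000000000000010530002b30020020000020000000020012730020020021731430020021530020011132632e30020020d30e31330c31030020000000000012c30000020000000930000000000000010000000000000000000000000000020020020020020010022530022430021d30020020020020011c31f31a319323300218300200200200200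20010022532032431e31d30020020020020011c31f31a31932331b31830020013032230020020021430021630021230011130022130020020d30e31330c30020f30000000020010000020b32830000020000000000000010530020000130830000000000000020010023130020021731430021631531230011132f30020020020d30e31330c31030f30000000000010000000b30000000930000000000000010530002a30130000002930000000020020020020020010022530022430021d30020020020020011c31f31a31932330021830020020020020020010022532032431e31d30020020020020011c31f31a31932331b31830020010020020020021730020021631531230011130020020020020d30021330c31030f30020020020020020010020022030021e31d30020020020020011c31f31a31930021b31830020010022230020021731430021631531230011130022130020020d30e31330c31030f30020020020020020010022532032431e31d30020020020020011c31f31a31932331b31830020012732230020021731430021631531230011132632130020020d30e31330c31030f30020020020010020020b30020730930a3063002002001053002002013083023043003033002002002002002065055045035025015005 24 16777215 0x3037a70003730000000000003730572c2b570000000000001034573730b70000000000003730172c2ba70000000000000000000000000000000000000000000000001621870002d30000000000002116571211570000000000000000000000000000000000000a1e57211697000000000000211627121187000000000000000000000000000000000000000000000000000000000000000000000000000000000000000000000000000000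 0 64 = 49)

theorem c1 : _root_.Cfsg.Agent.SporadicRecognition.CosetCert.Part C 64 128 29 := Cfsg.Agent.SporadicRecognition.CertFast.part_fast C alC 29 (by decide +kernel : Cfsg.Agent.SporadicRecognition.CertFast.runF C 12 4095 0x24f30020010020020020020730020a30633f34a30010530020020130830230020035330000010000000004731730000000000000000010000000000000000000000000000020004030020020010020020b30020730930a30630024230010530020020130830230430035330000005030000020010000000000000000000000000000020011c30000000000000000000000000000000020010020000000000000000000000000000011c31f30000000000000000000000000020020013932530000020000000000000000000011c30000000000000000000000000000000020010022530002430000000000000000000011c31f30000000000000000000005030000000010000000000020000000000000000020011c30000001930000000000000000020000020010020000002430000000000000000000011c31f30000000000000000000000002e30020013932530000020001d30000005130000011c31f31a300000000000000100000000000000000000000000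00000000000000000000020010022530002430000000000000000000011c31f30000000000000000020010000000000000000000000000000000011130000000000000000000000000000004e34f30020017747740020020020020020024934a30010537847840020020020020030020020010000000000000000000020000000000011130000000000000000001330000000004e34f30020017947940020020730930020024934a30010537347340020830232930030020020010000000000001730003230000020000011130000000000000000000000c30000004e34f30020016f46f40020020730020a30634934a30010537047040020020230020030330020010000000000001730000020001530000011130000000000000000001330000000004e34f30020010020020020020730930a30634934a30010530020020020830232930030336446440020020020010022530020020020026746740020020011c30020020023c30020026846840020020020010020020020021e30025c45c40020020011c31f31a30020023b30025f45f40020020020013930022032430020026046040020020011c31f30021932330020026346340020020020010022532032431e30025b45b40020020011c31f31a319323338300200000100000044300000000000000000200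00011130000000000020000000000000000000024f30020010020020b32830020020020024134a30010530020020130830020020030020020010000000020000000000020001530000011130000000000000000001330000000004e34d30020010020020b30020730930020024930020010530020020130830232930030020020010000000004731730003230000021230011130000004530000d30001330000000f30024a30020010020020b32830730020a30634b30020010530020020130830230020030330020010000000000001730000020001530000011130000000000000000001330000000003e30020020010020020b30020730930a30630024230010530020020130830232930030334c44c40020020020010022530022430021d3 24 16777215 0x1a84774339a70000000000006173474d75574d7547667757456d074d75874d7527617357596a47456d57456d475e6f57000573456d870003d3456d27596a57555c575360370000000000005360575864370000000000003b48073c4707000000000000536017555c370000000000000000000000000000000000000000000000000000000000003d44573b48370000000000003b4857404c370000000000000003733b48b70000000000003b48173d4437000000000000000000 64 64 = 30)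

theorem c2 : _root_.Cfsg.Agent.SporadicRecognition.CosetCert.Part C 128 192 28 := Cfsg.Agent.SporadicRecognition.CertFast.part_fast C alC 28 (by decide +kernel : Cfsg.Agent.SporadicRecognition.CertFast.runF C 12 4095 0x5930000000010000020002430000000000000000000010000000000000000000000000000000020020013932530000020000000000000020000011c31f31a30000000000000000000000000000010002530002430000000000000005830011c30001a30003c3000000000000000563000001000002000002000000000000000000001000000000000000000000000000000553000001002000000243000000000000000000001000000002000000000000002002002001c74c740020020020020020020020020010530024730020830020020020020020020020010025f30020020020020020020020020010530025f30130020020020020024e30020020010020020020020020020020634930020010534530020020020020020025330020020020015c34730020020020930020020020020010536132a30020830022930020020020020020016235d30b3002073093002002002002001053c844730130020230430020024e30020020010020020020020730930020634930020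01053c34c340020020232930025330024f30020010020020020020730020020630024a30010535c35f30130830230020025330024f30020014632b30b30020730930020630024a30010530025d30130830230430025330000000000000000010000000000000000000000000000000010000000000000000000000000005430000020010000000000000020000000005430000011c30000001930000020000000000000000000010000000000000000000000003030000010000000000020000000000000000000000000010000000000000000000000000000000010000000000000000000000000005030000000010000000000000000000000000000020010000000020003c30000000000000020000020010002530000001e30000000000020000011c30001a30003c31b30000000000000000000010000000000000000000000005230000010000001a31930000000000000000002e30000010002530000000001d30000000000020010001f30000000020000000020020020010025d30b30020020020a30020020020010530022a30130830020020030020020020020010020020022830020020a3002002002001053c24c240130830020020030020000010000000004830020000020000000000010000000000000000000000000000000004e34a30020010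020020b32830020020a30634930020010535c30020130830020020035330000010000000000000000000000000000000010000000000000000020000000000000004130020020010022b30b30020020930a30020024230010530020020130830022930030020000010000004430000000000000000000000010000000000000020020001330003330000020020020015b30020b32830730930a30023e34c30010530020020130830230430030020020010000000000001730000000000000000011130000000020000d30000000003330004934a30020010020020b32830730930a30630020020010530020020130830232930035330000010000000000000000000000000000000011130000004630000d3000000000000000 24 16777215 0xc0bd47bbba477fbf47c0bd77c0bd27bbba675e6f972a9a276a59776a5967000000000000000000000000000000000000000000000000000000000000000000000000000000000000000000000000a34e77a34e67754d77754d67764a7765788732a2976279979b46779b46676d45776d45676e42775d70872a9a975a7197000000000000000000000000404c771a8417000000000000443db7443da7000000000000853cb7853ca70000000000003b4867483ba70000000000004080a73f4f67 128 64 = 29)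

theorem c3 : _root_.Cfsg.Agent.SporadicRecognition.CosetCert.Part C 192 201 0 := Cfsg.Agent.SporadicRecognition.CertFast.part_fast C alC 0 (by decide +kernel : Cfsg.Agent.SporadicRecognition.CertFast.runF C 12 4095 0x10000000000000000000000000000000000020010020000000000000000000000000000011c31f30000000000000000000000000000000010000000000000000000000000000000010000000000000000000000000000000000020010000000000000000000000000000000011c30000000000000000000000000000000000010020000000000000000000000005630011c3002002000002000000 24 16777215 0x5a30005e3b5c757c68377c68367000373000603bdc067000573 192 9 = 1)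

theorem all : _root_.Cfsg.Agent.SporadicRecognition.CosetCert.Part C 0 201 105 := (((c0).append C c1).append C c2).append C c3

end Cfsg.Agent.AltType.EnAChk0
end

-- part: AltType/EnAAll
section
set_option autoImplicit false
set_option maxRecDepth 100000

namespace Cfsg.Agent.AltType.EnAAll

open Cfsg.Agent.SporadicRecognition.CosetCert Cfsg.Agent.AltType.EnAData

theorem part : _root_.Cfsg.Agent.SporadicRecognition.CosetCert.Part C 0 C.N 105 := Cfsg.Agent.AltType.EnAChk0.all

end Cfsg.Agent.AltType.EnAAll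
end

-- part: AltType/HomA8
section
/-!
The homomorphism `A₈ → G`.
-/

set_option autoImplicit false
set_option maxRecDepth 100000

namespace Cfsg.Agent.AltType

open Cfsg.Agent.SporadicRecognition.CosetCert Cfsg.Agent.SporadicRecognition.CosetCertHyp
  Cfsg.Agent.SporadicRecognition.CosetChain

/-- relations of the whole amalgam -/
structure Rel2 {G : Type*} [Group G] (z a b c d r s g k : G) : Prop extends Rel z a b c d r s where
  hg : GRel z a b c d r s g
  hk : GRel z b a d c r s k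
  gk : g * k = k * g

variable {G : Type*} [Group G] {z a b c d r s g k : G}

/-- letters for the certificate `EnA` -/
def l12 (z a b c d r s g k : G) : ℕ → G
  | 0 => z
  | 1 => a
  | 2 => b
  | 3 => c
  | 4 => d
  | 5 => s
  | 6 => r
  | 7 => r⁻¹
  | 8 => g
  | 9 => g⁻¹
  | 10 => k
  | 11 => k⁻¹
  | _ => 1

def iv12 : ℕ → ℕ
  | 6 => 7
  | 7 => 6
  | 8 => 9
  | 9 => 8
  | 10 => 11
  | 11 => 10
  | n => n

theorem l12_lt (i : ℕ) (hi : i < 8) : l12 z a b c d r s g k i = lt z a b c d r s i := by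
  interval_cases i <;> rfl

theorem l12_inv (h : Rel z a b c d r s) (n : ℕ) (hn : n < 12) :
    iv12 n < 12 ∧ l12 z a b c d r s g k n * l12 z a b c d r s g k (iv12 n) = 1 := by
  interval_cases n
  · exact ⟨by decide, h.zz⟩
  · exact ⟨by decide, h.aa⟩
  · exact ⟨by decide, h.bb⟩
  · exact ⟨by decide, h.cc⟩
  · exact ⟨by decide, h.dd⟩
  · exact ⟨by decide, h.ss⟩
  · exact ⟨by decide, mul_inv_cancel r⟩
  · exact ⟨by decide, inv_mul_cancel r⟩
  · exact ⟨by decide, mul_inv_cancel g⟩
  · exact ⟨by decide, inv_mul_cancel g⟩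
  · exact ⟨by decide, mul_inv_cancel k⟩
  · exact ⟨by decide, inv_mul_cancel k⟩

def eqs12 : List (List ℕ × List ℕ) := [([8,8,8],[]), ([0,8],[8,1]), ([1,8],[8,0,1]), ([3,8],[8,3]), ([2,8],[8,5]),
  ([5,8],[8,2,5]), ([8,4,8],[4]), ([6,8,6,8,6,8,6,8],[]), ([10,10,10],[]), ([0,10],[10,2]), ([2,10],[10,0,2]),
  ([4,10],[10,4]), ([1,10],[10,5]), ([5,10],[10,1,5]), ([10,3,10],[3]), ([6,10,6,10,6,10,6,10],[]), ([8,10],[10,8])]

theorem ev_eqs12 (h : Rel2 z a b c d r s g k) :
    ∀ e ∈ eqs12, ev (l12 z a b c d r s g k) e.1 = ev (l12 z a b c d r s g k) e.2 := by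
  intro e he
  simp only [eqs12, List.mem_cons, List.not_mem_nil, or_false] at he
  rcases he with rfl | rfl | rfl | rfl | rfl | rfl | rfl | rfl | rfl | rfl | rfl | rfl | rfl | rfl | rfl | rfl | rfl
  all_goals simp only [ev_cons, ev_nil, l12, mul_one]
  · exact h.hg.g3
  · exact h.hg.zg
  · exact h.hg.ag
  · exact h.hg.cg
  · exact h.hg.bg
  · exact h.hg.sg
  · exact h.hg.gdg
  · exact h.hg.rg
  · exact h.hk.g3
  · exact h.hk.zg
  · exact h.hk.ag
  · exact h.hk.cg
  · exact h.hk.bg
  · exact h.hk.sg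
  · exact h.hk.gdg
  · exact h.hk.rg
  · exact h.gk

def rels12 : List (List ℕ) := (eqs ++ eqs12).map fun e => e.1 ++ invw iv12 e.2

theorem eqsA_lt : ∀ e ∈ eqs ++ eqs12, (∀ y ∈ e.1, y < 12) ∧ ∀ y ∈ e.2, y < 12 := by decide

theorem ev_rels12 (h : Rel2 z a b c d r s g k) : ∀ w ∈ rels12, ev (l12 z a b c d r s g k) w = 1 := by
  intro w hw
  obtain ⟨e, he, rfl⟩ := List.mem_map.mp hw
  have h1 : ev (l12 z a b c d r s g k) e.1 = ev (l12 z a b c d r s g k) e.2 := by
    rcases List.mem_append.mp he with he | he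
    · have h2 := eqs_lt e he
      rw [ev_congr e.1 (fun y hy => l12_lt y (h2.1 y hy)), ev_congr e.2 (fun y hy => l12_lt y (h2.2 y hy))]
      exact ev_eqs h.toRel e he
    · exact ev_eqs12 h e he
  rw [ev_append, ev_invw (l12 z a b c d r s g k) iv12 12 (l12_inv h.toRel) e.2 (eqsA_lt e he).2, h1, mul_inv_cancel]

theorem card12 (h : Rel2 z a b c d r s g k) : Finite (Subgroup.closure (l12 z a b c d r s g k '' {n | n < 12})) ∧
    Nat.card (Subgroup.closure (l12 z a b c d r s g k '' {n | n < 12})) ≤ 20160 := by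
  have hinv : ∀ n, n < EnAData.C.k → EnAData.C.inv n < EnAData.C.k ∧
      l12 z a b c d r s g k n * l12 z a b c d r s g k (EnAData.C.inv n) = 1 := by
    intro n hn
    change n < 12 at hn
    have h1 := (l12_inv h.toRel (g := g) (k := k) n hn).2
    interval_cases n <;> exact ⟨by decide +kernel, h1⟩
  have himg : l12 z a b c d r s g k '' {n | n < 8} = lt z a b c d r s '' {n | n < 8} :=
    Set.image_congr fun x hx => l12_lt x hx
  have hc := card_le h.toRel
  rw [← himg] at hc
  have := card_step EnAData.C (l12 z a b c d r s g k) rels12 [[0],[1],[2],[3],[4],[5],[6]]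
    (Subgroup.closure (l12 z a b c d r s g k '' {n | n < 8})) hinv
    (fun w hw _ => ev_rels12 h w hw)
    (fun s' hs _ => sub_letters _ 8 [[0],[1],[2],[3],[4],[5],[6]] (by decide) s' hs)
    (Cfsg.Agent.SporadicRecognition.HypFast.check_fast (by decide +kernel)) EnAAll.part hc.1
  exact ⟨this.1, this.2.trans ((Nat.mul_le_mul_left _ hc.2).trans (by norm_num))⟩

def pg : Equiv.Perm (Fin 8) := ⟨![1,2,0,3,6,5,7,4], ![2,0,1,3,7,5,4,6], by decide, by decide⟩
def pk : Equiv.Perm (Fin 8) := ⟨![2,0,1,3,6,5,7,4], ![1,2,0,3,7,5,4,6], by decide, by decide⟩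

theorem rel2_p : Rel2 pz pa pb pc pd pr ps pg pk where
  toRel := rel_p
  hg := ⟨⟨by decide, by decide, by decide, by decide, by decide, by decide, by decide⟩, by decide⟩
  hk := ⟨⟨by decide, by decide, by decide, by decide, by decide, by decide, by decide⟩, by decide⟩
  gk := by decide

/-- letters in the model -/
def lq : ℕ → Equiv.Perm (Fin 8) := l12 pz pa pb pc pd pr ps pg pk

open Cfsg.Agent.Lib.AltCarmichael in
theorem closure_lq : Subgroup.closure (lq '' {n | n < 12}) = alternatingGroup (Fin 8) := by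
  apply le_antisymm
  · rw [Subgroup.closure_le]
    rintro _ ⟨n, hn, rfl⟩
    change n < 12 at hn
    show lq n ∈ alternatingGroup (Fin 8)
    rw [Equiv.Perm.mem_alternatingGroup]
    interval_cases n <;> decide
  · have h1 := gen_cyc 6 (by norm_num)
    rw [show alternatingGroup (Fin 8) = alternatingGroup (Fin (6 + 2)) from rfl, ← h1, gen_def, Subgroup.closure_le]
    rintro _ ⟨i, hi, rfl⟩
    have hw : ∀ w : List ℕ, (∀ y ∈ w, y < 12) → ev lq w ∈ Subgroup.closure (lq '' {n | n < 12}) := by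
      intro w hw
      induction w with
      | nil => exact Subgroup.one_mem _
      | cons x w ih =>
        rw [ev_cons]
        exact Subgroup.mul_mem _ (Subgroup.subset_closure ⟨x, hw x (by simp), rfl⟩)
          (ih fun y hy => hw y (by simp [hy]))
    show cyc 6 i ∈ Subgroup.closure (lq '' {n | n < 12})
    interval_cases i
    · have : cyc 6 0 = ev lq [0, 7, 9, 5, 10, 6] := by decide
      rw [this]; exact hw _ (by decide)
    · have : cyc 6 1 = ev lq [0, 7, 11, 5, 8, 6] := by decide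
      rw [this]; exact hw _ (by decide)
    · have : cyc 6 2 = ev lq [0, 6, 9, 11, 5, 7] := by decide
      rw [this]; exact hw _ (by decide)
    · have : cyc 6 3 = ev lq [0, 5, 7, 8, 10, 7] := by decide
      rw [this]; exact hw _ (by decide)
    · have : cyc 6 4 = ev lq [9, 11] := by decide
      rw [this]; exact hw _ (by decide)
    · have : cyc 6 5 = ev lq [0, 8, 10, 0] := by decide
      rw [this]; exact hw _ (by decide)

theorem card_A8 : Nat.card (alternatingGroup (Fin 8)) = 20160 := by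
  have h := two_mul_nat_card_alternatingGroup (α := Fin 8)
  rw [Nat.card_perm] at h
  have h2 : (Nat.card (Fin 8)).factorial = 40320 := by rw [Nat.card_fin]; rfl
  omega

theorem rel2_prod {X : Type*} [Group X] {z' a' b' c' d' r' s' g' k' : X} (h' : Rel2 z' a' b' c' d' r' s' g' k')
    (h : Rel2 z a b c d r s g k) :
    Rel2 (z', z) (a', a) (b', b) (c', c) (d', d) (r', r) (s', s) (g', g) (k', k) where
  toRel := h'.toRel.prod h.toRel
  hg := ⟨⟨Prod.ext h'.hg.g3 h.hg.g3, Prod.ext h'.hg.zg h.hg.zg, Prod.ext h'.hg.ag h.hg.ag,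
    Prod.ext h'.hg.cg h.hg.cg, Prod.ext h'.hg.bg h.hg.bg, Prod.ext h'.hg.sg h.hg.sg,
    Prod.ext h'.hg.gdg h.hg.gdg⟩, Prod.ext h'.hg.rg h.hg.rg⟩
  hk := ⟨⟨Prod.ext h'.hk.g3 h.hk.g3, Prod.ext h'.hk.zg h.hk.zg, Prod.ext h'.hk.ag h.hk.ag,
    Prod.ext h'.hk.cg h.hk.cg, Prod.ext h'.hk.bg h.hk.bg, Prod.ext h'.hk.sg h.hk.sg,
    Prod.ext h'.hk.gdg h.hk.gdg⟩, Prod.ext h'.hk.rg h.hk.rg⟩
  gk := Prod.ext h'.gk h.gk

theorem l12_prod {X : Type*} [Group X] (z' a' b' c' d' r' s' g' k' : X) (z a b c d r s g k : G) :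
    (fun i => (l12 z' a' b' c' d' r' s' g' k' i, l12 z a b c d r s g k i)) =
      l12 (z', z) (a', a) (b', b) (c', c) (d', d) (r', r) (s', s) (g', g) (k', k) := by
  funext i
  unfold l12
  rcases i with _ | _ | _ | _ | _ | _ | _ | _ | _ | _ | _ | _ | i <;> rfl

theorem lq_mem {n : ℕ} (hn : n < 12) : lq n ∈ alternatingGroup (Fin 8) := by
  rw [← closure_lq]; exact Subgroup.subset_closure ⟨n, hn, rfl⟩

/-- the homomorphism from `A₈` -/
theorem Rel2.exists_hom (h : Rel2 z a b c d r s g k) :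
    ∃ φ : alternatingGroup (Fin 8) →* G, ∀ n (hn : n < 12), φ ⟨lq n, lq_mem hn⟩ = l12 z a b c d r s g k n := by
  have h1 := card12 (rel2_prod rel2_p h)
  rw [← l12_prod] at h1
  have key : ∀ S : Subgroup (Equiv.Perm (Fin 8)), S = alternatingGroup (Fin 8) →
      S = Subgroup.closure (lq '' {n | n < 12}) →
      ∃ φ : S →* G, ∀ n (hn : n < 12), ∀ hm : lq n ∈ S, φ ⟨lq n, hm⟩ = l12 z a b c d r s g k n := by
    intro S hS hS'
    subst hS'
    obtain ⟨φ, hφ⟩ := exists_hom_of_card lq (l12 z a b c d r s g k) {n | n < 12} 20160 h1.1 h1.2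
      (by rw [closure_lq, card_A8])
    exact ⟨φ, fun n hn _ => hφ n hn⟩
  obtain ⟨φ, hφ⟩ := key _ rfl closure_lq.symm
  exact ⟨φ, fun n hn => hφ n hn _⟩

end Cfsg.Agent.AltType
end

-- part: AltType/OnlyOne
section
/-!
If `a` is conjugate to `z`, then so is `b` or `z a b`: otherwise the normaliser of `A₁` is strongly embedded.
-/

set_option autoImplicit false
set_option maxRecDepth 100000

namespace Cfsg.Agent.AltType

variable {G : Type*} [Group G] {z a b c d r s g : G}

/-- the set `A₁` -/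
def setF (z a c : G) : Set G := {x | ∃ v < 8, x = fG z a c v}

theorem setF_finite (z a c : G) : (setF z a c).Finite := by
  have : setF z a c = (fun v => fG z a c v) '' (Set.Iio 8) := by
    ext x
    constructor
    · rintro ⟨v, hv, rfl⟩; exact ⟨v, hv, rfl⟩
    · rintro ⟨v, hv, rfl⟩; exact ⟨v, hv, rfl⟩
  rw [this]
  exact (Set.finite_Iio 8).image _

/-- the normaliser of `A₁` -/
def NF (z a c : G) : Subgroup G := Subgroup.normalizer (setF z a c)

theorem Rel.mem_NF (h : Rel z a b c d r s) {n : G} {A : MatF} (hA : ActF z a c n A) : n ∈ NF z a c := by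
  have hfin : Finite (setF z a c) := (setF_finite z a c).to_subtype
  have h1 : n⁻¹ ∈ NF z a c := by
    apply Subgroup.mem_normalizer_fintype
    rintro _ ⟨v, hv, rfl⟩
    obtain ⟨h2, h3⟩ := h.actF_app hA hv
    refine ⟨appF A v, h3, ?_⟩
    rw [mul_assoc, inv_inv, h2, inv_mul_cancel_left]
  exact inv_inv n ▸ (NF z a c).inv_mem h1

theorem mem_NF_conj {n : G} (hn : n ∈ NF z a c) {x : G} (hx : x ∈ setF z a c) : n * x * n⁻¹ ∈ setF z a c :=
  (Subgroup.mem_set_normalizer_iff.mp hn x).mp hx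

theorem F1.cent_le_NF (h : F1 z a b c d r s) : Subgroup.centralizer {z} ≤ NF z a c := by
  rw [h.cent, Subgroup.closure_le]
  have hz : ActF z a c z ⟨1, 2, 4⟩ := ⟨by norm_num, by norm_num, by norm_num, rfl, h.az, h.cz⟩
  have ha : ActF z a c a ⟨1, 2, 4⟩ := ⟨by norm_num, by norm_num, by norm_num, h.az.symm, rfl, h.ac.symm⟩
  have hc : ActF z a c c ⟨1, 2, 4⟩ := ⟨by norm_num, by norm_num, by norm_num, h.cz.symm, h.ac, rfl⟩
  rintro x (rfl | rfl | rfl | rfl | rfl | rfl | rfl)
  · exact h.mem_NF hz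
  · exact h.mem_NF ha
  · exact h.mem_NF h.actF_b
  · exact h.mem_NF hc
  · exact h.mem_NF h.actF_d
  · exact h.mem_NF h.actF_r
  · exact h.mem_NF h.actF_s

theorem F1.mem_NF_of_comm (h : F1 z a b c d r s) {x : G} (hx : x * z = z * x) : x ∈ NF z a c :=
  h.cent_le_NF (h.mem_cent.2 hx)

/-- transitivity on the involutions of `A₁` -/
theorem F1.trans_A (h : F1 z a b c d r s) (hg : GRel0 z a b c d s g) {v : ℕ} (hv : v < 8) (hv0 : v ≠ 0) :
    ∃ n ∈ NF z a c, z * n = n * fG z a c v := by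
  have hG : ActF z a c g ⟨2, 3, 4⟩ := ⟨by norm_num, by norm_num, by norm_num, hg.zg, hg.ag, hg.cg⟩
  have hGG := h.actF_mul hG hG
  have hGr := h.actF_mul hG h.actF_r
  have hGrr := h.actF_mul hGr h.actF_r
  have hGrb := h.actF_mul hGr h.actF_b
  have hGrrb := h.actF_mul hGrr h.actF_b
  have h1 := h.actF_one
  interval_cases v
  · exact absurd rfl hv0
  · exact ⟨1, h.mem_NF h1, h1.e0⟩
  · exact ⟨_, h.mem_NF hG, hG.e0⟩
  · exact ⟨_, h.mem_NF hGG, hGG.e0⟩
  · exact ⟨_, h.mem_NF hGr, hGr.e0⟩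
  · exact ⟨_, h.mem_NF hGrb, hGrb.e0⟩
  · exact ⟨_, h.mem_NF hGrr, hGrr.e0⟩
  · exact ⟨_, h.mem_NF hGrrb, hGrrb.e0⟩

theorem conj_comm {x n w y : G} (hn : x * n = n * w) (hy : y * w = w * y) :
    (n * y * n⁻¹) * x = x * (n * y * n⁻¹) := by
  have hi := cj_inv hn
  have h1 : y * n⁻¹ = n⁻¹ * (n * y * n⁻¹) := by group
  exact cj_comm h1 hi hy

theorem mem_of_conj {H : Subgroup G} {n y : G} (hn : n ∈ H) (h : n * y * n⁻¹ ∈ H) : y ∈ H := by
  have : y = n⁻¹ * (n * y * n⁻¹) * n := by group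
  rw [this]
  exact H.mul_mem (H.mul_mem (H.inv_mem hn) h) hn

/-- centralisers of involutions of `A₁` -/
theorem F1.cent_A (h : F1 z a b c d r s) (hg : GRel0 z a b c d s g) {v : ℕ} (hv : v < 8) (hv0 : v ≠ 0) {y : G}
    (hy : y * fG z a c v = fG z a c v * y) : y ∈ NF z a c := by
  obtain ⟨n, hn, hnz⟩ := h.trans_A hg hv hv0
  exact mem_of_conj hn (h.mem_NF_of_comm (conj_comm hnz hy))

theorem F1.mem_of_fuse (h : F1 z a b c d r s) (hg : GRel0 z a b c d s g) {k x : G} (hk : z * k = k * x)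
    (hx : x ∈ setF z a c) : k ∈ NF z a c := by
  obtain ⟨v, hv, rfl⟩ := hx
  have hv0 : v ≠ 0 := by
    rintro rfl
    apply h.z_ne_one
    have h1 : z * k = k := by rw [hk]; show k * 1 = k; rw [mul_one]
    exact mul_eq_right.mp h1
  obtain ⟨n, hn, hnz⟩ := h.trans_A hg hv hv0
  have h1 : (k * n⁻¹) * z = z * (k * n⁻¹) := by
    rw [← mul_assoc z, hk, mul_assoc, mul_assoc, cj_inv hnz]
  have h2 := (NF z a c).mul_mem (h.mem_NF_of_comm h1) hn
  rwa [inv_mul_cancel_right] at h2

/-- an element of the normaliser of `A₁` centralising `b` centralises `z` -/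
theorem F1.fix_z (h : F1 z a b c d r s) {k : G} (hk : k ∈ NF z a c) (hkb : k * b = b * k) : k * z = z * k := by
  -- conjugate `c b = z b c` by `k`
  obtain ⟨v, hv, hcv⟩ := mem_NF_conj hk (x := c) ⟨4, by norm_num, rfl⟩
  obtain ⟨w, hw, hzw⟩ := mem_NF_conj hk (x := z) ⟨1, by norm_num, rfl⟩
  have hb' : b = k * b * k⁻¹ := by rw [hkb]; group
  have h1 : fG z a c v * b = fG z a c w * (b * fG z a c v) := by
    rw [← hcv, ← hzw]
    calc k * c * k⁻¹ * b = k * c * k⁻¹ * (k * b * k⁻¹) := by rw [← hb']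
      _ = k * (c * b) * k⁻¹ := by group
      _ = k * (z * (b * c)) * k⁻¹ := by rw [h.cb]
      _ = k * z * k⁻¹ * ((k * b * k⁻¹) * (k * c * k⁻¹)) := by group
      _ = k * z * k⁻¹ * (b * (k * c * k⁻¹)) := by rw [← hb']
  have h2 := (h.actF_app h.actF_b hv)
  have h3 : b * z = z * b := h.bz
  have h4 : fG z a c w * b = b * fG z a c w := by
    rw [← hzw]
    calc k * z * k⁻¹ * b = k * z * k⁻¹ * (k * b * k⁻¹) := by rw [← hb']
      _ = k * (z * b) * k⁻¹ := by group
      _ = k * (b * z) * k⁻¹ := by rw [h3]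
      _ = (k * b * k⁻¹) * (k * z * k⁻¹) := by group
      _ = b * (k * z * k⁻¹) := by rw [← hb']
  rw [h2.1, ← mul_assoc, h4, mul_assoc, h.fG_mul hw hv] at h1
  have h5 := h.fG_inj h2.2 (xltF hw hv) (mul_left_cancel h1)
  have h6 : w = 0 ∨ w = 1 := by
    revert h5
    have key : ∀ w < 8, ∀ v < 8, appF ⟨1, 2, 5⟩ v = w ^^^ v → w = 0 ∨ w = 1 := by decide
    exact key w hw v hv
  rcases h6 with rfl | rfl
  · exfalso
    apply h.z_ne_one
    have h7 : k * z * k⁻¹ = 1 := hzw
    exact (conj_eq_one_iff).mp h7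
  · have h7 : k * z * k⁻¹ = z := hzw
    rw [mul_inv_eq_iff_eq_mul] at h7
    exact h7

section onlyone

/-- conjugates of `z` commuting with `z` -/
theorem F1.fused_mem (h : F1 z a b c d r s) (hb : ¬ Fus z b) (hu : ¬ Fus z (z * (a * b)))
    (hs : ¬ Fus z s) (hzs : ¬ Fus z (z * s)) {x : G} (hx : x * z = z * x) (hf : Fus z x) : x ∈ setF z a c := by
  by_cases hxz : x = z
  · rw [hxz]; exact ⟨1, by norm_num, rfl⟩
  · obtain ⟨y, hy, hyw⟩ := h.fus_cases hx hxz hf
    rcases hyw with e | e | e | e | e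
    · have h1 : x = y * a * y⁻¹ := by rw [← e]; group
      rw [h1]
      exact mem_NF_conj (h.mem_NF_of_comm hy) ⟨2, by norm_num, rfl⟩
    · exact absurd (hf.trans ⟨y, e⟩) hb
    · exact absurd (hf.trans ⟨y, e⟩) hu
    · exact absurd (hf.trans ⟨y, e⟩) hs
    · exact absurd (hf.trans ⟨y, e⟩) hzs

/-- the centraliser of `b` is contained in the centraliser of `z` -/
theorem F1.cent_b [Finite G] (h : F1 z a b c d r s) (hg : GRel0 z a b c d s g)
    (hD : ∀ x, x * z = z * x → Fus z x → x ∈ setF z a c) {x : G} (hx : x * b = b * x) : x * z = z * x := by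
  set K : Subgroup G := Subgroup.centralizer {b} with hK
  have memK : ∀ y, y ∈ K ↔ y * b = b * y := fun y => by rw [hK, Subgroup.mem_centralizer_singleton_iff]
  have hzK : z ∈ K := (memK z).2 h.bz.symm
  have haK : a ∈ K := (memK a).2 h.ab
  have key : ∀ k ∈ K, k ∈ NF z a c → k * z = z * k := fun k hk hkN => h.fix_z hkN ((memK k).1 hk)
  obtain ⟨N, hNK, hNn, hodd, hcomm⟩ := zstar_sub K hzK h.zz h.z_ne_one (by
    intro k hk hkz
    have h1 : z * k⁻¹ = k⁻¹ * (k * z * k⁻¹) := by group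
    have h2 := h.mem_of_fuse hg h1 (hD _ hkz ⟨_, h1⟩)
    have h3 : k ∈ NF z a c := inv_inv k ▸ (NF z a c).inv_mem h2
    rw [key k hk h3]; group)
  have hfixN : ∀ v < 8, v ≠ 0 → ∀ n ∈ N, fG z a c v * n = n * fG z a c v → n = 1 := by
    intro v hv hv0 n hn hc
    have h1 : n ∈ NF z a c := h.cent_A hg hv hv0 hc.symm
    have h2 := key n (hNK hn) h1
    exact eq_one_of_odd N hodd hn (h.cent_exp h2 ((memK n).1 (hNK hn)))
  have hinv : ∀ v < 8, v ≠ 0 → fG z a c v ∈ K → ∀ n ∈ N, fG z a c v * n * fG z a c v = n⁻¹ := by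
    intro v hv hv0 hvK
    have hvv : fG z a c v * fG z a c v = 1 := by rw [h.fG_mul hv hv, Nat.xor_self]; rfl
    refine inverts N hvv ?_ (hfixN v hv hv0)
    intro n hn
    have := hNn _ hvK n hn
    rwa [inv_eq_of_mul_eq_one_left hvv] at this
  have hN : N = ⊥ := trivial_of_three N hodd (t := z) (u := a) (hinv 1 (by norm_num) (by norm_num) hzK)
    (hinv 2 (by norm_num) (by norm_num) haK) (hinv 3 (by norm_num) (by norm_num) (K.mul_mem hzK haK)) h.az.symm
  have h1 := hcomm x ((memK x).2 hx)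
  rw [hN, Subgroup.mem_bot] at h1
  have h2 : z * x * z⁻¹ = x := mul_inv_eq_one.mp h1
  rw [mul_inv_eq_iff_eq_mul] at h2
  exact h2.symm

theorem F1.onlyOne [Finite G] [IsSimpleGroup G] (hcomm : ¬ IsMulCommutative G) (h : F1 z a b c d r s)
    (hg : GRel z a b c d r s g) (hb : ¬ Fus z b) (hu : ¬ Fus z (z * (a * b))) : False := by
  have hG := h.act_g hg
  have fs : Fus b s := ⟨g, hg.bg⟩
  have fzs : Fus (z * (a * b)) (z * s) := h.fus_app hG (v := 7) (by norm_num)
  have hs : ¬ Fus z s := fun e => hb (e.trans fs.symm)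
  have hzs : ¬ Fus z (z * s) := fun e => hu (e.trans fzs.symm)
  have hD : ∀ x, x * z = z * x → Fus z x → x ∈ setF z a c := fun x hx hf => h.fused_mem hb hu hs hzs hx hf
  have gN : g ∈ NF z a c := h.mem_NF (A := ⟨2, 3, 4⟩) ⟨by norm_num, by norm_num, by norm_num, hg.zg, hg.ag, hg.cg⟩
  have cz : ∀ x, x * z = z * x → x ∈ NF z a c := fun x hx => h.mem_NF_of_comm hx
  have cb : ∀ x, x * b = b * x → x ∈ NF z a c := fun x hx => cz x (h.cent_b hg.toGRel0 hD hx)
  -- the third factor
  have h3 := h.third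
  have hz3 : ∀ x, x * (z * (a * b)) = (z * (a * b)) * x → x ∈ NF z a c := by
    intro x hx
    obtain ⟨s3, hs3, g3, hg3⟩ := h3.exists_g ⟨g, hg.zg⟩
    have h3' : F1 z a (z * (a * b)) c (z * (c * d)) r s3 := by
      rcases hs3 with rfl | rfl
      · exact h3
      · exact h3.twist
    exact cz x (h3'.cent_b hg3.toGRel0 hD hx)
  -- all involutions of the normaliser
  have hcent : ∀ i ∈ NF z a c, i * i = 1 → i ≠ 1 → ∀ x, x * i = i * x → x ∈ NF z a c := by
    intro i hi hii hi1
    -- an involution of `A₁` commuting with `i`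
    have hex : ∃ v < 8, v ≠ 0 ∧ i * fG z a c v = fG z a c v * i := by
      by_cases hiz : i * z = z * i
      · exact ⟨1, by norm_num, by norm_num, hiz⟩
      · obtain ⟨w, hw, hzw⟩ := mem_NF_conj hi (x := z) ⟨1, by norm_num, rfl⟩
        have hinv : i⁻¹ = i := inv_eq_of_mul_eq_one_left hii
        rw [hinv] at hzw
        have h1 : i * z = fG z a c w * i := by
          rw [← hzw]
          calc i * z = i * z * (i * i) := by rw [hii, mul_one]
            _ = i * z * i * i := by group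
        have h2 : i * fG z a c w = z * i := by
          rw [← hzw]
          calc i * (i * z * i) = (i * i) * z * i := by group
            _ = z * i := by rw [hii, one_mul]
        refine ⟨1 ^^^ w, xltF (by norm_num) hw, ?_, ?_⟩
        · intro h0
          have : w = 1 := by
            have key : ∀ w < 8, 1 ^^^ w = 0 → w = 1 := by decide
            exact key w hw h0
          subst this
          exact hiz h1
        · rw [← h.fG_mul (by norm_num : (1 : ℕ) < 8) hw]
          have e1 : fG z a c 1 * fG z a c w = fG z a c w * fG z a c 1 := by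
            rw [h.fG_mul (by norm_num) hw, h.fG_mul hw (by norm_num), Nat.xor_comm]
          show i * (z * fG z a c w) = z * fG z a c w * i
          calc i * (z * fG z a c w) = (i * z) * fG z a c w := by group
            _ = fG z a c w * (i * fG z a c w) := by rw [h1]; group
            _ = (fG z a c w * z) * i := by rw [h2]; group
            _ = z * fG z a c w * i := by
                have : fG z a c w * z = z * fG z a c w := e1.symm
                rw [this]
    obtain ⟨v, hv, hv0, hiv⟩ := hex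
    obtain ⟨n, hn, hnz⟩ := h.trans_A hg.toGRel0 hv hv0
    -- move to the centraliser of `z`
    have h1 := conj_comm hnz hiv
    have h11 : (n * i * n⁻¹) * (n * i * n⁻¹) = 1 := by
      calc (n * i * n⁻¹) * (n * i * n⁻¹) = n * (i * i) * n⁻¹ := by group
        _ = 1 := by rw [hii]; group
    -- transport
    have trans : ∀ w m, m ∈ NF z a c → i * m = m * w → (∀ x, x * w = w * x → x ∈ NF z a c) →
        ∀ x, x * i = i * x → x ∈ NF z a c := by
      intro w m hm him hw x hx
      have h5 := hw (m⁻¹ * x * m⁻¹⁻¹) (conj_comm (cj_inv him) hx)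
      exact mem_of_conj ((NF z a c).inv_mem hm) h5
    have hi_n : i * n⁻¹ = n⁻¹ * (n * i * n⁻¹) := by group
    have hni := (NF z a c).inv_mem hn
    rcases h.invol h1 h11 with e | e | ⟨y, hy, hyw⟩
    · exact absurd (conj_eq_one_iff.mp e) hi1
    · rw [e] at hi_n
      exact trans z n⁻¹ hni hi_n cz
    · have hyN := h.mem_NF_of_comm hy
      have hnyN := (NF z a c).mul_mem hni hyN
      rcases hyw with e | e | e | e | e
      · exact trans a _ hnyN (cj_mul hi_n e) (fun x hx => h.cent_A hg.toGRel0 (v := 2) (by norm_num) (by norm_num) hx)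
      · exact trans b _ hnyN (cj_mul hi_n e) cb
      · exact trans _ _ hnyN (cj_mul hi_n e) hz3
      · exact trans b _ ((NF z a c).mul_mem hnyN ((NF z a c).inv_mem gN)) (cj_mul (cj_mul hi_n e) (cj_inv hg.bg)) cb
      · have h7 : (z * (a * b)) * g = g * (z * s) := (h.act_app hG (v := 7) (by norm_num)).1
        exact trans _ _ ((NF z a c).mul_mem hnyN ((NF z a c).inv_mem gN)) (cj_mul (cj_mul hi_n e) (cj_inv h7)) hz3
  -- the normaliser is proper
  have hne : NF z a c ≠ ⊤ := by
    intro htop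
    have hle : ∀ x, Fus z x → x ∈ setF z a c := by
      rintro x ⟨k, hk⟩
      have h1 : k⁻¹ ∈ NF z a c := by rw [htop]; trivial
      have h2 := mem_NF_conj h1 (x := z) ⟨1, by norm_num, rfl⟩
      have h3 : x = k⁻¹ * z * k⁻¹⁻¹ := by rw [inv_inv, mul_assoc, hk, inv_mul_cancel_left]
      rw [h3]; exact h2
    -- all conjugates of `z` commute with `z`
    have hcz : ∀ x, Fus z x → x * z = z * x := by
      intro x hx
      obtain ⟨v, hv, rfl⟩ := hle x hx
      show fG z a c v * fG z a c 1 = fG z a c 1 * fG z a c v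
      rw [h.fG_mul hv (by norm_num), h.fG_mul (by norm_num) hv, Nat.xor_comm]
    have hsub : Subgroup.normalClosure {z} ≤ Subgroup.centralizer {z} := by
      rw [Subgroup.normalClosure, Subgroup.closure_le]
      intro x hx
      rw [Group.mem_conjugatesOfSet_iff] at hx
      obtain ⟨y, hy, hyx⟩ := hx
      rw [Set.mem_singleton_iff] at hy
      subst hy
      obtain ⟨k, rfl⟩ := isConj_iff.mp hyx
      exact h.mem_cent.2 (hcz _ ⟨k⁻¹, by group⟩)
    rcases (Subgroup.normalClosure_normal (s := {z})).eq_bot_or_eq_top with e | e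
    · apply h.z_ne_one
      have : z ∈ Subgroup.normalClosure ({z} : Set G) := Subgroup.subset_normalClosure rfl
      rwa [e, Subgroup.mem_bot] at this
    · rw [e, top_le_iff] at hsub
      have hcen : z ∈ Subgroup.center G := by
        rw [Subgroup.mem_center_iff]
        intro x
        have : x ∈ Subgroup.centralizer ({z} : Set G) := by rw [hsub]; trivial
        exact h.mem_cent.1 this
      rcases (inferInstance : (Subgroup.center G).Normal).eq_bot_or_eq_top with e' | e'
      · rw [e', Subgroup.mem_bot] at hcen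
        exact h.z_ne_one hcen
      · apply hcomm
        refine ⟨⟨fun x y => ?_⟩⟩
        have : y ∈ Subgroup.center G := by rw [e']; trivial
        exact Subgroup.mem_center_iff.mp this x
  have hbN : b ∈ NF z a c := h.mem_NF h.actF_b
  have hzN : z ∈ NF z a c := cz z rfl
  have hb1 : b ≠ 1 := fun e => by
    have := h.eG_inj (v := 4) (w := 0) (by norm_num) (by norm_num) e
    norm_num at this
  exact hb (strong (NF z a c) hne hcent hzN hbN h.zz h.bb h.z_ne_one hb1)

end onlyone

end Cfsg.Agent.AltType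
end

-- part: AltType/CentT
section
/-!
The centraliser of the four-group `T = {1, z a b, z s, a b s}`: `C_G(T) / T` has a self-centralising Sylow four-group.
-/

set_option autoImplicit false
set_option maxRecDepth 100000
set_option linter.unusedSectionVars false

namespace Cfsg.Agent.AltType

variable {G : Type*} [Group G] {z a b c d r s g k : G}

section types

/-- the classes of the elements of `E` -/
theorem Rel2.zt (h : Rel2 z a b c d r s g k) {v : ℕ} (hv : v ∈ [1, 2, 3, 4, 5, 8, 10, 12, 15]) :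
    Fus z (eG z a b s v) := by
  have f2 : Fus z a := ⟨g, h.hg.zg⟩
  have f4 : Fus z b := ⟨k, h.hk.zg⟩
  have f3 : Fus a (z * a) := ⟨g, h.hg.ag⟩
  have f5 : Fus b (z * b) := ⟨k, h.hk.ag⟩
  have f8 : Fus b s := ⟨g, h.hg.bg⟩
  have f12 : Fus s (b * s) := ⟨g, h.hg.sg⟩
  have f10 : Fus s (a * s) := ⟨k, h.hk.sg⟩
  have f15 : Fus (a * s) (z * (a * (b * s))) := h.fus_d (v := 10) (by norm_num)
  simp only [List.mem_cons, List.not_mem_nil, or_false] at hv
  rcases hv with rfl | rfl | rfl | rfl | rfl | rfl | rfl | rfl | rfl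
  · exact Fus.refl z
  · exact f2
  · exact f2.trans f3
  · exact f4
  · exact f4.trans f5
  · exact f4.trans f8
  · exact (f4.trans f8).trans f10
  · exact (f4.trans f8).trans f12
  · exact ((f4.trans f8).trans f10).trans f15

theorem Rel2.nzt (h : Rel2 z a b c d r s g k) (hF : F1 z a b c d r s) (hu : ¬ Fus z (z * (a * b))) {v : ℕ}
    (hv : v ∈ [0, 6, 7, 9, 11, 13, 14]) : ¬ Fus z (eG z a b s v) := by
  have hG := h.toRel.act_g h.hg
  have f6 : Fus (z * (a * b)) (a * b) := h.fus_c (v := 7) (by norm_num)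
  have f9 : Fus (z * (a * b)) (z * s) := h.fus_app hG (v := 7) (by norm_num)
  have f14 : Fus (z * s) (a * (b * s)) := h.fus_app hG (v := 9) (by norm_num)
  have f11 : Fus (z * s) (z * (a * s)) := h.fus_c (v := 9) (by norm_num)
  have f13 : Fus (z * s) (z * (b * s)) := h.fus_d (v := 9) (by norm_num)
  simp only [List.mem_cons, List.not_mem_nil, or_false] at hv
  rcases hv with rfl | rfl | rfl | rfl | rfl | rfl | rfl
  · exact fun e => fus_ne_one e hF.z_ne_one rfl
  · exact fun e => hu (e.trans f6.symm)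
  · exact hu
  · exact fun e => hu (e.trans f9.symm)
  · exact fun e => hu ((e.trans f11.symm).trans f9.symm)
  · exact fun e => hu ((e.trans f13.symm).trans f9.symm)
  · exact fun e => hu ((e.trans f14.symm).trans f9.symm)

end types

/-- the centraliser of `T` -/
def KT (z a b s : G) : Subgroup G := Subgroup.centralizer {z * (a * b), z * s}

theorem mem_KT {x : G} : x ∈ KT z a b s ↔ x * (z * (a * b)) = (z * (a * b)) * x ∧ x * (z * s) = (z * s) * x := by
  unfold KT
  rw [Subgroup.mem_centralizer_iff]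
  constructor
  · intro h
    exact ⟨(h _ (Set.mem_insert _ _)).symm, (h _ (Set.mem_insert_of_mem _ rfl)).symm⟩
  · rintro ⟨h1, h2⟩ y (rfl | rfl)
    · exact h1.symm
    · exact h2.symm

/-- indices of the elements of `T` -/
def tT : List ℕ := [0, 7, 9, 14]

theorem tT_lt {v : ℕ} (hv : v ∈ tT) : v < 16 := by
  simp only [tT, List.mem_cons, List.not_mem_nil, or_false] at hv
  omega

section cent

variable (h : Rel2 z a b c d r s g k)
include h

theorem Rel2.KT_comm {x : G} (hx : x ∈ KT z a b s) {v : ℕ} (hv : v ∈ tT) :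
    x * eG z a b s v = eG z a b s v * x := by
  obtain ⟨h1, h2⟩ := mem_KT.1 hx
  simp only [tT, List.mem_cons, List.not_mem_nil, or_false] at hv
  rcases hv with rfl | rfl | rfl | rfl
  · show x * 1 = 1 * x; rw [mul_one, one_mul]
  · exact h1
  · exact h2
  · have h3 : eG z a b s 14 = eG z a b s 7 * eG z a b s 9 :=
      (h.eG_mul (show 7 < 16 by norm_num) (show 9 < 16 by norm_num)).symm
    rw [h3]
    show x * ((z * (a * b)) * (z * s)) = (z * (a * b)) * (z * s) * x
    rw [← mul_assoc, h1, mul_assoc, h2]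
    simp only [mul_assoc]

theorem Rel2.E_mem_KT {v : ℕ} (hv : v < 16) : eG z a b s v ∈ KT z a b s := by
  rw [mem_KT]
  constructor
  · show eG z a b s v * eG z a b s 7 = eG z a b s 7 * eG z a b s v
    rw [h.eG_mul hv (by norm_num), h.eG_mul (by norm_num) hv, Nat.xor_comm]
  · show eG z a b s v * eG z a b s 9 = eG z a b s 9 * eG z a b s v
    rw [h.eG_mul hv (by norm_num), h.eG_mul (by norm_num) hv, Nat.xor_comm]

theorem Rel2.conj_KT {n : G} {A : Mat} (hA : Act z a b s n A) (h7 : app A 7 ∈ tT) (h9 : app A 9 ∈ tT)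
    {x : G} (hx : x ∈ KT z a b s) : n * x * n⁻¹ ∈ KT z a b s := by
  rw [mem_KT]
  constructor
  · exact conj_comm (h.act_app hA (v := 7) (by norm_num)).1 (h.KT_comm hx h7)
  · exact conj_comm (h.act_app hA (v := 9) (by norm_num)).1 (h.KT_comm hx h9)

theorem Rel2.cK_z (hF : F1 z a b c d r s) {x : G} (hx : x ∈ KT z a b s) (hxz : x * z = z * x) :
    ∃ w < 16, x = eG z a b s w := by
  apply hF.cent_s hxz
  have h1 := (mem_KT.1 hx).2
  rw [← mul_assoc, hxz, mul_assoc, mul_assoc] at h1
  exact mul_left_cancel h1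

theorem Rel2.cK_conj (hF : F1 z a b c d r s) {n : G} {A : Mat} (hA : Act z a b s n A) (h7 : app A 7 ∈ tT)
    (h9 : app A 9 ∈ tT) {x : G} (hx : x ∈ KT z a b s) (hxa : x * eG z a b s A.A0 = eG z a b s A.A0 * x) :
    ∃ w < 16, x = eG z a b s w := by
  obtain ⟨w, hw, hw'⟩ := h.cK_z hF (h.conj_KT hA h7 h9 hx) (conj_comm hA.e0 hxa)
  obtain ⟨h1, h2⟩ := h.act_app hA hw
  refine ⟨_, h2, ?_⟩
  rw [← hw'] at h1
  have h3 : n * x = n * eG z a b s (app A w) := by rw [← h1]; group
  exact mul_left_cancel h3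

theorem Rel2.cK (hF : F1 z a b c d r s) {v : ℕ} (hv : v ∈ [1, 2, 4]) {x : G} (hx : x ∈ KT z a b s)
    (hxa : x * eG z a b s v = eG z a b s v * x) : ∃ w < 16, x = eG z a b s w := by
  simp only [List.mem_cons, List.not_mem_nil, or_false] at hv
  rcases hv with rfl | rfl | rfl
  · exact h.cK_z hF hx hxa
  · exact h.cK_conj hF (h.toRel.act_g h.hg) (by decide) (by decide) hx hxa
  · exact h.cK_conj hF (h.toRel.act_k h.hk) (by decide) (by decide) hx hxa

/-- an element of `C_G(T)` fixing the coset `t T` fixes `t` -/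
theorem Rel2.trick (hF : F1 z a b c d r s) (hu : ¬ Fus z (z * (a * b))) {v τ : ℕ} (hv : v ∈ [1, 2, 4])
    (hτ : τ ∈ tT) {x : G} (hx : x ∈ KT z a b s) (hxv : eG z a b s v * x = x * eG z a b s (v ^^^ τ)) : τ = 0 := by
  by_contra hτ0
  obtain ⟨w, hw, hw1, hw2⟩ : ∃ w ∈ tT, v ^^^ w ∈ [0, 6, 7, 9, 11, 13, 14] ∧
      (v ^^^ τ ∈ [0, 6, 7, 9, 11, 13, 14] ∨ (v ^^^ τ) ^^^ w ∈ [1, 2, 3, 4, 5, 8, 10, 12, 15]) := by
    have key : ∀ v ∈ [1, 2, 4], ∀ τ ∈ tT, τ ≠ 0 → ∃ w ∈ tT, v ^^^ w ∈ [0, 6, 7, 9, 11, 13, 14] ∧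
      (v ^^^ τ ∈ [0, 6, 7, 9, 11, 13, 14] ∨ (v ^^^ τ) ^^^ w ∈ [1, 2, 3, 4, 5, 8, 10, 12, 15]) := by decide +kernel
    exact key v hv τ hτ hτ0
  have hv16 : v < 16 := by
    simp only [List.mem_cons, List.not_mem_nil, or_false] at hv
    omega
  have hvz : v ∈ [1, 2, 3, 4, 5, 8, 10, 12, 15] := by
    simp only [List.mem_cons, List.not_mem_nil, or_false] at hv ⊢
    omega
  rcases hw2 with e | e
  · exact h.nzt hF hu e ((h.zt hvz).trans ⟨x, hxv⟩)
  · have h1 := cj_mulx hxv (h.KT_comm hx hw).symm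
    rw [h.eG_mul hv16 (tT_lt hw), h.eG_mul (xlt hv16 (tT_lt hτ)) (tT_lt hw)] at h1
    exact h.nzt hF hu hw1 ((h.zt e).trans (Fus.symm ⟨x, h1⟩))

end cent

/-! ### The quotient `C_G(T) / T` -/

section quotient

variable (h : Rel2 z a b c d r s g k)
include h

/-- the group `T` inside its centraliser -/
def Rel2.T' : Subgroup (KT z a b s) where
  carrier := {x | ∃ v ∈ tT, (x : G) = eG z a b s v}
  one_mem' := ⟨0, by decide, rfl⟩
  mul_mem' := by
    rintro x y ⟨v, hv, hx⟩ ⟨w, hw, hy⟩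
    refine ⟨v ^^^ w, ?_, ?_⟩
    · have key : ∀ v ∈ tT, ∀ w ∈ tT, v ^^^ w ∈ tT := by decide
      exact key v hv w hw
    · rw [Subgroup.coe_mul, hx, hy, h.eG_mul (tT_lt hv) (tT_lt hw)]
  inv_mem' := by
    rintro x ⟨v, hv, hx⟩
    refine ⟨v, hv, ?_⟩
    rw [Subgroup.coe_inv, hx]
    apply inv_eq_of_mul_eq_one_left
    rw [h.eG_mul (tT_lt hv) (tT_lt hv), Nat.xor_self]; rfl

/-- the group `E` inside the centraliser of `T` -/
def Rel2.E' : Subgroup (KT z a b s) where
  carrier := {x | ∃ v < 16, (x : G) = eG z a b s v}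
  one_mem' := ⟨0, by norm_num, rfl⟩
  mul_mem' := by
    rintro x y ⟨v, hv, hx⟩ ⟨w, hw, hy⟩
    exact ⟨v ^^^ w, xlt hv hw, by rw [Subgroup.coe_mul, hx, hy, h.eG_mul hv hw]⟩
  inv_mem' := by
    rintro x ⟨v, hv, hx⟩
    refine ⟨v, hv, ?_⟩
    rw [Subgroup.coe_inv, hx]
    apply inv_eq_of_mul_eq_one_left
    rw [h.eG_mul hv hv, Nat.xor_self]; rfl

theorem Rel2.T'_normal : h.T'.Normal := by
  constructor
  rintro n ⟨v, hv, hn⟩ x
  refine ⟨v, hv, ?_⟩
  rw [Subgroup.coe_mul, Subgroup.coe_mul, Subgroup.coe_inv, hn, h.KT_comm x.2 hv]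
  group

/-- the element of `C_G(T)` with coordinates `v` -/
def Rel2.el (v : ℕ) (hv : v < 16) : KT z a b s := ⟨eG z a b s v, h.E_mem_KT hv⟩

end quotient

theorem Rel2.hyp (h : Rel2 z a b c d r s g k) (hF : F1 z a b c d r s) (hu : ¬ Fus z (z * (a * b))) :
    haveI := h.T'_normal
    Cfsg.Agent.J2Type.FourSelfCent.Hyp (h.E'.map (QuotientGroup.mk' h.T')) := by
  haveI := h.T'_normal
  have rep : ∀ w < 16, ∃ v ∈ [0, 1, 2, 4], ∃ τ ∈ tT, w = v ^^^ τ := by decide +kernel
  have mk_eq : ∀ (v : ℕ) (hv : v < 16) (w : ℕ) (hw : w < 16), v ^^^ w ∈ tT →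
      (QuotientGroup.mk' h.T') (h.el v hv) = (QuotientGroup.mk' h.T') (h.el w hw) := by
    intro v hv w hw hvw
    rw [QuotientGroup.mk'_apply, QuotientGroup.mk'_apply, QuotientGroup.eq]
    refine ⟨v ^^^ w, hvw, ?_⟩
    rw [Subgroup.coe_mul, Subgroup.coe_inv]
    show (eG z a b s v)⁻¹ * eG z a b s w = _
    rw [inv_eq_of_mul_eq_one_left (by rw [h.eG_mul hv hv, Nat.xor_self]; rfl : eG z a b s v * eG z a b s v = 1),
      h.eG_mul hv hw]
  have mk_inj : ∀ (v : ℕ) (hv : v < 16) (w : ℕ) (hw : w < 16),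
      (QuotientGroup.mk' h.T') (h.el v hv) = (QuotientGroup.mk' h.T') (h.el w hw) → v ^^^ w ∈ tT := by
    intro v hv w hw hvw
    rw [QuotientGroup.mk'_apply, QuotientGroup.mk'_apply, QuotientGroup.eq] at hvw
    obtain ⟨τ, hτ, h1⟩ := hvw
    rw [Subgroup.coe_mul, Subgroup.coe_inv] at h1
    change (eG z a b s v)⁻¹ * eG z a b s w = _ at h1
    rw [inv_eq_of_mul_eq_one_left (by rw [h.eG_mul hv hv, Nat.xor_self]; rfl : eG z a b s v * eG z a b s v = 1),
      h.eG_mul hv hw] at h1
    rw [hF.eG_inj (xlt hv hw) (tT_lt hτ) h1]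
    exact hτ
  -- elements of the image
  have memU : ∀ y, y ∈ h.E'.map (QuotientGroup.mk' h.T') ↔
      ∃ v, ∃ hv : v < 16, v ∈ [0, 1, 2, 4] ∧ y = (QuotientGroup.mk' h.T') (h.el v hv) := by
    intro y
    constructor
    · rintro ⟨x, ⟨w, hw, hx⟩, rfl⟩
      obtain ⟨v, hv, τ, hτ, rfl⟩ := rep w hw
      have hv16 : v < 16 := by
        simp only [List.mem_cons, List.not_mem_nil, or_false] at hv
        omega
      refine ⟨v, hv16, hv, ?_⟩
      have hx' : x = h.el (v ^^^ τ) hw := Subtype.ext hx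
      rw [hx']
      apply mk_eq
      rw [Nat.xor_comm v τ, Nat.xor_assoc, Nat.xor_self, Nat.xor_zero]
      exact hτ
    · rintro ⟨v, hv, -, rfl⟩
      exact ⟨h.el v hv, ⟨v, hv, rfl⟩, rfl⟩
  refine ⟨?_, ?_, ?_⟩
  · -- order four
    have hlt : ∀ i : Fin 4, [0, 1, 2, 4].getD (i : ℕ) 0 < 16 := by decide
    let f : Fin 4 → h.E'.map (QuotientGroup.mk' h.T') := fun i =>
      ⟨(QuotientGroup.mk' h.T') (h.el ([0, 1, 2, 4].getD (i : ℕ) 0) (hlt i)), h.el _ (hlt i), ⟨_, hlt i, rfl⟩, rfl⟩
    have hf : Function.Bijective f := by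
      constructor
      · intro i j hij
        have h1 := mk_inj _ (hlt i) _ (hlt j) (congrArg Subtype.val hij)
        revert h1
        fin_cases i <;> fin_cases j <;> decide
      · rintro ⟨y, hy⟩
        obtain ⟨v, hv, hv4, rfl⟩ := (memU y).1 hy
        simp only [List.mem_cons, List.not_mem_nil, or_false] at hv4
        rcases hv4 with rfl | rfl | rfl | rfl
        · exact ⟨0, rfl⟩
        · exact ⟨1, rfl⟩
        · exact ⟨2, rfl⟩
        · exact ⟨3, rfl⟩
    rw [← Nat.card_congr (Equiv.ofBijective f hf), Nat.card_fin]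
  · intro y hy
    obtain ⟨v, hv, -, rfl⟩ := (memU y).1 hy
    rw [← map_mul]
    have : h.el v hv * h.el v hv = 1 := by
      apply Subtype.ext
      show eG z a b s v * eG z a b s v = 1
      rw [h.eG_mul hv hv, Nat.xor_self]; rfl
    rw [this, map_one]
  · intro y hy hy1 x hxy
    obtain ⟨v, hv, hv4, rfl⟩ := (memU y).1 hy
    have hv3 : v ∈ [1, 2, 4] := by
      simp only [List.mem_cons, List.not_mem_nil, or_false] at hv4 ⊢
      rcases hv4 with rfl | rfl | rfl | rfl
      · exfalso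
        apply hy1
        have : h.el 0 hv = 1 := Subtype.ext rfl
        rw [this, map_one]
      · exact Or.inl rfl
      · exact Or.inr (Or.inl rfl)
      · exact Or.inr (Or.inr rfl)
    obtain ⟨x, rfl⟩ := QuotientGroup.mk'_surjective h.T' x
    rw [← map_mul, ← map_mul, QuotientGroup.mk'_apply, QuotientGroup.mk'_apply, QuotientGroup.eq] at hxy
    obtain ⟨τ, hτ, h1⟩ := hxy
    rw [Subgroup.coe_mul, Subgroup.coe_inv, Subgroup.coe_mul, Subgroup.coe_mul] at h1
    change ((x : G) * eG z a b s v)⁻¹ * (eG z a b s v * x) = eG z a b s τ at h1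
    have h2 : eG z a b s v * (x : G) = x * eG z a b s (v ^^^ τ) := by
      rw [← h.eG_mul hv (tT_lt hτ), ← h1]; group
    have h3 := h.trick hF hu hv3 hτ x.2 h2
    subst h3
    rw [Nat.xor_zero] at h2
    obtain ⟨w, hw, hxw⟩ := h.cK hF hv3 x.2 h2.symm
    exact ⟨x, ⟨w, hw, hxw⟩, rfl⟩

end Cfsg.Agent.AltType
end

-- part: AltType/ZQuot
section
/-!
The Z*-theorem in `C_G(u) / ⟨u⟩`: an involution `v` whose coset is weakly closed gives a normal four-group `⟨u, v⟩`
of `C_G(u)`, provided that the core is trivial because of three involutions `z, a, b` with product `u`.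
-/

set_option autoImplicit false

namespace Cfsg.Agent.AltType

/-- Proper subgroups of a finite `p`-subgroup grow in their normalizer (copy of a lemma in `SmallSimple`). -/
theorem exists_normalizing {G : Type*} [Group G] [Finite G] {p : ℕ} [Fact p.Prime] {P D : Subgroup G}
    (hP : IsPGroup p P) (h : D < P) : ∃ x ∈ P, x ∉ D ∧ ∀ y ∈ D, x * y * x⁻¹ ∈ D := by
  have : Group.IsNilpotent P := hP.isNilpotent
  have h1 : D.subgroupOf P < ⊤ := by
    rw [lt_top_iff_ne_top, Ne, Subgroup.subgroupOf_eq_top]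
    exact not_le_of_gt h
  have h2 := Group.normalizerCondition_of_isNilpotent (G := P) _ h1
  obtain ⟨x, hx, hxD⟩ := SetLike.exists_of_lt h2
  refine ⟨x, x.2, hxD, ?_⟩
  rw [Subgroup.mem_normalizer_iff] at hx
  intro y hy
  exact Subgroup.mem_subgroupOf.1 ((hx ⟨y, h.le hy⟩).1 (Subgroup.mem_subgroupOf.2 hy))

theorem pow_odd_of_sq {G : Type*} [Group G] {u : G} (huu : u * u = 1) {m : ℕ} (hm : Odd m) : u ^ m = u := by
  obtain ⟨k, rfl⟩ := hm
  rw [pow_add, pow_mul, pow_two, huu, one_pow, one_mul, pow_one]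

theorem eq_one_of_four_odd {G : Type*} [Group G] {n : G} {m : ℕ} (hm : Odd m) (h4 : (n * n) * (n * n) = 1)
    (hnm : n ^ m = 1) : n = 1 := by
  have h1 : orderOf n ∣ 4 := orderOf_dvd_of_pow_eq_one (by
    rw [show (4 : ℕ) = 2 + 2 by norm_num, pow_add, pow_two, h4])
  have h2 : orderOf n ∣ m := orderOf_dvd_of_pow_eq_one hnm
  have h3 : Nat.Coprime 4 m := by
    have : Nat.Coprime 2 m := (Nat.coprime_two_left).mpr hm
    exact (Nat.Coprime.pow_left 2 this)
  exact orderOf_eq_one_iff.mp (Nat.eq_one_of_dvd_coprimes h3 h1 h2)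

variable {G : Type*} [Group G]

theorem normal_four [Finite G] {u v : G} (huu : u * u = 1) (hvv : v * v = 1) (hvu : v * u = u * v)
    (hu1 : u ≠ 1) (hv1 : v ≠ 1) (hvu' : v ≠ u) (P : Subgroup G) (hPu : ∀ x ∈ P, x * u = u * x)
    (hP : IsPGroup 2 P) (huP : u ∈ P) (hvP : v ∈ P)
    (hnorm : ∀ x, x * u = u * x → (∀ y ∈ P, x * y * x⁻¹ ∈ P) → x ∈ P)
    (hW : ∀ x, x * u = u * x → x * v * x⁻¹ ∈ P → x * v * x⁻¹ = v ∨ x * v * x⁻¹ = v * u)
    {z a b : G} (hz : z * z = 1) (ha : a * a = 1) (hb : b * b = 1) (hzu : z * u = u * z) (hau : a * u = u * a)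
    (hbu : b * u = u * b) (hzab : z * (a * b) = u)
    (hz4 : ∀ n, n * u = u * n → n * z = z * n → (n * n) * (n * n) = 1)
    (ha4 : ∀ n, n * u = u * n → n * a = a * n → (n * n) * (n * n) = 1)
    (hb4 : ∀ n, n * u = u * n → n * b = b * n → (n * n) * (n * n) = 1) :
    ∀ x, x * u = u * x → x * v * x⁻¹ = v ∨ x * v * x⁻¹ = v * u := by
  have : Fact (Nat.Prime 2) := ⟨Nat.prime_two⟩
  set R : Subgroup G := Subgroup.centralizer {u} with hR
  have memR : ∀ x, x ∈ R ↔ x * u = u * x := fun x => by rw [hR, Subgroup.mem_centralizer_singleton_iff]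
  let u' : R := ⟨u, (memR u).2 rfl⟩
  let v' : R := ⟨v, (memR v).2 hvu⟩
  have hu'u' : u' * u' = 1 := Subtype.ext huu
  set Z : Subgroup R := Subgroup.zpowers u' with hZ
  have memZ : ∀ x : R, x ∈ Z ↔ x = 1 ∨ x = u' := by
    intro x
    constructor
    · rintro ⟨i, rfl⟩
      obtain ⟨j, rfl | rfl⟩ := Int.even_or_odd' i
      · left
        show u' ^ (2 * j) = 1
        rw [zpow_mul, show (2 : ℤ) = ((2 : ℕ) : ℤ) from rfl, zpow_natCast, pow_two, hu'u', one_zpow]
      · right
        show u' ^ (2 * j + 1) = u'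
        rw [zpow_add, zpow_mul, show (2 : ℤ) = ((2 : ℕ) : ℤ) from rfl, zpow_natCast, pow_two, hu'u', one_zpow,
          one_mul, zpow_one]
    · rintro (rfl | rfl)
      · exact Z.one_mem
      · exact Subgroup.mem_zpowers _
  have hcomm : ∀ x : R, x * u' = u' * x := fun x => Subtype.ext ((memR x).1 x.2)
  have hZn : Z.Normal := by
    constructor
    intro n hn x
    rcases (memZ n).1 hn with rfl | rfl
    · rw [mul_one, mul_inv_cancel]; exact Z.one_mem
    · rw [hcomm, mul_inv_cancel_right]; exact hn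
  -- the Sylow subgroup
  have hP' : IsPGroup 2 (P.subgroupOf R) := hP.comap_of_injective R.subtype R.subtype_injective
  obtain ⟨S, hS⟩ := hP'.exists_le_sylow
  have hSP : (S : Subgroup R) ≤ P.subgroupOf R := by
    by_contra hnot
    have hlt : P.subgroupOf R < (S : Subgroup R) := lt_of_le_not_ge hS hnot
    obtain ⟨x, hxS, hxP, hxn⟩ := exists_normalizing S.2 hlt
    apply hxP
    rw [Subgroup.mem_subgroupOf]
    apply hnorm _ ((memR _).1 x.2)
    intro y hy
    have hyR : y ∈ R := (memR y).2 (hPu y hy)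
    exact Subgroup.mem_subgroupOf.1 (hxn ⟨y, hyR⟩ (Subgroup.mem_subgroupOf.2 hy))
  let q : R →* R ⧸ Z := QuotientGroup.mk' Z
  have hq : Function.Surjective q := QuotientGroup.mk'_surjective Z
  have q_eq : ∀ x y : R, q x = q y ↔ y = x ∨ y = x * u' := by
    intro x y
    show (QuotientGroup.mk' Z) x = (QuotientGroup.mk' Z) y ↔ _
    rw [QuotientGroup.mk'_apply, QuotientGroup.mk'_apply, QuotientGroup.eq, memZ]
    constructor
    · rintro (e | e)
      · left; exact (inv_mul_eq_one.mp e).symm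
      · right; rw [← e, mul_inv_cancel_left]
    · rintro (rfl | rfl)
      · left; exact inv_mul_cancel _
      · right; rw [inv_mul_cancel_left]
  have qu : q u' = 1 := by
    rw [← map_one q, q_eq]
    right; rw [hu'u']
  let S' : Sylow 2 (R ⧸ Z) := S.mapSurjective hq
  have hvS : q v' ∈ S' := by
    show q v' ∈ (S : Subgroup R).map q
    exact ⟨v', hS (Subgroup.mem_subgroupOf.2 hvP), rfl⟩
  have ov : orderOf (q v') = 2 := by
    apply orderOf_eq_prime
    · rw [pow_two, ← map_mul]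
      have : v' * v' = 1 := Subtype.ext hvv
      rw [this, map_one]
    · intro e
      rw [← map_one q, q_eq] at e
      rcases e with e | e
      · exact hv1 (congrArg Subtype.val e).symm
      · have h1 : (1 : G) = v * u := congrArg Subtype.val e
        apply hvu'
        calc v = v * (u * u) := by rw [huu, mul_one]
          _ = (v * u) * u := by group
          _ = u := by rw [← h1, one_mul]
  obtain ⟨N, hN, hodd, hNc⟩ := Cfsg.Agent.S0215.result S' (q v') ov hvS (by
    intro y hy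
    obtain ⟨x, rfl⟩ := hq y
    change q x * q v' * (q x)⁻¹ ∈ (S : Subgroup R).map q at hy
    obtain ⟨p, hp, hpx⟩ := hy
    rw [← map_inv, ← map_mul, ← map_mul] at hpx ⊢
    have hpP : (p : G) ∈ P := Subgroup.mem_subgroupOf.1 (hSP hp)
    have hxv : (x : G) * v * (x : G)⁻¹ ∈ P := by
      rw [q_eq] at hpx
      rcases hpx with e | e
      · have : (x : G) * v * (x : G)⁻¹ = p := congrArg Subtype.val e
        rw [this]; exact hpP
      · have : (x : G) * v * (x : G)⁻¹ = p * u := congrArg Subtype.val e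
        rw [this]; exact P.mul_mem hpP huP
    rw [eq_comm, q_eq]
    rcases hW x ((memR _).1 x.2) hxv with e | e
    · left; exact Subtype.ext e
    · right; exact Subtype.ext e)
  -- the inverting involutions
  have hinv : ∀ (t : G) (htu : t * u = u * t), t * t = 1 →
      (∀ n, n * u = u * n → n * t = t * n → (n * n) * (n * n) = 1) →
      ∀ n ∈ N, q ⟨t, (memR t).2 htu⟩ * n * q ⟨t, (memR t).2 htu⟩ = n⁻¹ := by
    intro t htu htt ht4
    set t' : R := ⟨t, (memR t).2 htu⟩ with ht'
    have ht't' : t' * t' = 1 := Subtype.ext htt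
    have hqt : q t' * q t' = 1 := by rw [← map_mul, ht't', map_one]
    have hqti : (q t')⁻¹ = q t' := (inv_eq_of_mul_eq_one_left hqt :)
    refine inverts N hqt ?_ ?_
    · intro n hn
      have := hN.conj_mem n hn (q t')
      rwa [hqti] at this
    · intro n hn hc
      obtain ⟨x, rfl⟩ := hq n
      set m := Nat.card N with hm
      have hxm : q x ^ m = 1 := by
        have h1 : (⟨q x, hn⟩ : N) ^ m = 1 := pow_card_eq_one'
        exact congrArg Subtype.val h1
      -- a lift of odd order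
      obtain ⟨y, hy, hym⟩ : ∃ y : R, q y = q x ∧ y ^ m = 1 := by
        rw [← map_pow, ← map_one q, q_eq] at hxm
        rcases hxm with e | e
        · exact ⟨x, rfl, e.symm⟩
        · refine ⟨x * u', ?_, ?_⟩
          · rw [map_mul, qu, mul_one]
          · have hc2 : Commute x u' := hcomm x
            rw [hc2.mul_pow, pow_odd_of_sq hu'u' hodd]
            exact e.symm
      rw [← hy] at hc ⊢
      rw [← map_mul, ← map_mul, q_eq] at hc
      rcases hc with e | e
      · -- commuting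
        have h1 := ht4 y ((memR _).1 y.2) (congrArg Subtype.val e)
        have h2 : y = 1 := eq_one_of_four_odd hodd (Subtype.ext h1) hym
        rw [h2, map_one]
      · exfalso
        -- `y t = t y u`
        have h1 : t' * y * t'⁻¹ = y * u' := by
          have hti : t'⁻¹ = t' := inv_eq_of_mul_eq_one_left ht't'
          rw [hti]
          calc t' * y * t' = t' * (y * t') := by group
            _ = t' * (t' * y * u') := by rw [e]
            _ = (t' * t') * y * u' := by group
            _ = y * u' := by rw [ht't', one_mul]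
        have h2 : (t' * y * t'⁻¹) ^ m = t' * y ^ m * t'⁻¹ := conj_pow
        rw [h1, hym] at h2
        have hc2 : Commute y u' := hcomm y
        rw [hc2.mul_pow, hym, one_mul, pow_odd_of_sq hu'u' hodd, mul_one, mul_inv_cancel] at h2
        exact hu1 (congrArg Subtype.val h2)
  have hNbot : N = ⊥ := by
    rw [Subgroup.eq_bot_iff_forall]
    intro n hn
    set z' : R := ⟨z, (memR z).2 hzu⟩ with hz'
    set a' : R := ⟨a, (memR a).2 hau⟩ with ha'
    set b' : R := ⟨b, (memR b).2 hbu⟩ with hb'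
    have i1 := hinv z hzu hz hz4
    have i2 := hinv a hau ha ha4
    have i3 := hinv b hbu hb hb4
    have hprod : q z' * (q a' * q b') = 1 := by
      rw [← map_mul, ← map_mul]
      have : z' * (a' * b') = u' := Subtype.ext hzab
      rw [this, qu]
    have hprod' : (q b' * q a') * q z' = 1 := by
      have h1 : (q z' * (q a' * q b'))⁻¹ = 1 := by rw [hprod, inv_one]
      have ez : (q z')⁻¹ = q z' := inv_eq_of_mul_eq_one_left (by
        rw [← map_mul, show z' * z' = 1 from Subtype.ext hz, map_one])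
      have ea : (q a')⁻¹ = q a' := inv_eq_of_mul_eq_one_left (by
        rw [← map_mul, show a' * a' = 1 from Subtype.ext ha, map_one])
      have eb : (q b')⁻¹ = q b' := inv_eq_of_mul_eq_one_left (by
        rw [← map_mul, show b' * b' = 1 from Subtype.ext hb, map_one])
      rw [mul_inv_rev, mul_inv_rev, ez, ea, eb] at h1
      exact h1
    have h1 : q z' * (q a' * (q b' * n * q b') * q a') * q z' = n := by
      calc q z' * (q a' * (q b' * n * q b') * q a') * q z' =
          (q z' * (q a' * q b')) * n * ((q b' * q a') * q z') := by group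
        _ = n := by rw [hprod, hprod', one_mul, mul_one]
    rw [i3 n hn, i2 _ (N.inv_mem hn), inv_inv, i1 n hn] at h1
    have h2 : n * n = 1 := by
      nth_rewrite 1 [← h1]
      exact inv_mul_cancel n
    exact eq_one_of_odd N hodd hn (by rw [h2, one_mul])
  intro x hx
  have h1 := hNc (q ⟨x, (memR x).2 hx⟩)
  rw [hNbot, Subgroup.mem_bot] at h1
  have h2 : q v' * q ⟨x, (memR x).2 hx⟩ = q ⟨x, (memR x).2 hx⟩ * q v' := by
    calc q v' * q ⟨x, (memR x).2 hx⟩ = (q v' * q ⟨x, (memR x).2 hx⟩ * (q v')⁻¹ * (q ⟨x, (memR x).2 hx⟩)⁻¹) *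
        (q ⟨x, (memR x).2 hx⟩ * q v') := by group
      _ = _ := by rw [h1, one_mul]
  rw [← map_mul, ← map_mul, q_eq] at h2
  rcases h2 with e | e
  · left
    have h3 : x * v = v * x := congrArg Subtype.val e
    rw [h3]; group
  · right
    have h3 : x * v = v * x * u := congrArg Subtype.val e
    rw [h3]
    calc v * x * u * x⁻¹ = v * (x * u) * x⁻¹ := by group
      _ = v * (u * x) * x⁻¹ := by rw [hx]
      _ = v * u := by group

end Cfsg.Agent.AltType
end

-- part: AltType/Facts2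
section
/-!
Further finite facts about the centraliser: the subgroup `C(z) ∩ C(u)`, `u = z a b`.
-/

set_option autoImplicit false
set_option maxRecDepth 100000

namespace Cfsg.Agent.AltType

open Cfsg.Agent.SporadicRecognition.CosetCert Cfsg.Agent.SporadicRecognition.CosetCertHyp
  Cfsg.Agent.SporadicRecognition.CosetChain

set_option synthInstance.maxSize 1024 in
set_option synthInstance.maxHeartbeats 200000 in
theorem code_W : ∀ n ∈ Lc, mulN n 14571144 = mulN 14571144 n → mulN n n = 16434824 →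
    (∃ m ∈ Lc, ∃ w ∈ [14571144, 11789960], mulN n m = mulN m w) →
    (∃ m ∈ Lc, ∃ w ∈ [14571144, 11789960], mulN (mulN 14571144 n) m = mulN m w) →
    n ∈ [11789960, 9926280, 14599809, 16405704, 14599368, 16406145] := by (first | (set_option backward.isDefEq.respectTransparency.types false in set_option synthInstance.maxSize 99999 in (delta _root_.Cfsg.Agent.AltType.mulN _root_.Cfsg.Agent.AltType.dig; exact _root_.Cfsg.Agent.FastDec.of (by decide +kernel))) | decide +kernel)

theorem code_center : ∀ n ∈ Lc, mulN n 14571144 = mulN 14571144 n →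
    (∀ m ∈ Lc, mulN m 14571144 = mulN 14571144 m → mulN n m = mulN m n) →
    n ∈ [16434824, 14570689, 14571144, 16434369] := by (first | (set_option backward.isDefEq.respectTransparency.types false in set_option synthInstance.maxSize 99999 in (exact _root_.Cfsg.Agent.FastDec.of (by decide +kernel))) | decide +kernel)

/-- words of the elements of `A₃` outside `⟨z, u⟩` -/
def wW : ℕ → List ℕ
  | 0 => [0,3,4]
  | 1 => [0,0,3,4]
  | 2 => [0,1,2,0,3,4]
  | _ => [0,0,1,2,0,3,4]

theorem code_wW : evN (wW 0) = 16405704 ∧ evN (wW 1) = 14599809 ∧ evN (wW 2) = 14599368 ∧ evN (wW 3) = 16406145 := by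
  decide +kernel

theorem wW_lt : ∀ v < 4, ∀ y ∈ wW v, y < 8 := by decide +kernel

variable {G : Type*} [Group G] {z a b c d r s : G}

theorem F1.prop_W (h : F1 z a b c d r s) {x : G} (hx : x * z = z * x) (hxu : x * (z * (a * b)) = (z * (a * b)) * x)
    (hxx : x * x = 1)
    (h1 : ∃ y, y * z = z * y ∧ (x * y = y * (z * (a * b)) ∨ x * y = y * (z * s)))
    (h2 : ∃ y, y * z = z * y ∧ (((z * (a * b)) * x) * y = y * (z * (a * b)) ∨ ((z * (a * b)) * x) * y = y * (z * s))) :
    x = z * s ∨ x = a * (b * s) ∨ ∃ v < 8, 4 ≤ v ∧ x = fG z (z * (a * b)) (z * (c * d)) v := by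
  obtain ⟨t, T⟩ := h.exists_tab
  obtain ⟨n, hn, rfl⟩ := (T.mem x).1 (h.mem_cent.2 hx)
  have c1 := (T.mul_eq hn T.tu.1 T.tu.1 hn).1 (by rw [T.tu.2, hxu])
  rw [T.mul_one' hn hn] at hxx
  have c2 : ∃ m ∈ Lc, ∃ w ∈ [14571144, 11789960], mulN n m = mulN m w := by
    obtain ⟨y, hy, hyw⟩ := h1
    obtain ⟨m, hm, rfl⟩ := (T.mem y).1 (h.mem_cent.2 hy)
    rcases hyw with e | e
    · exact ⟨m, hm, _, by simp, (T.mul_eq hn hm hm T.tu.1).1 (by rw [T.tu.2, e])⟩
    · exact ⟨m, hm, _, by simp, (T.mul_eq hn hm hm T.tzs.1).1 (by rw [T.tzs.2, e])⟩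
  have c3 : ∃ m ∈ Lc, ∃ w ∈ [14571144, 11789960], mulN (mulN 14571144 n) m = mulN m w := by
    obtain ⟨y, hy, hyw⟩ := h2
    obtain ⟨m, hm, rfl⟩ := (T.mem y).1 (h.mem_cent.2 hy)
    obtain ⟨h3, h4⟩ := T.mul _ T.tu.1 n hn
    rcases hyw with e | e
    · exact ⟨m, hm, _, by simp, (T.mul_eq h3 hm hm T.tu.1).1 (by rw [← h4, T.tu.2, e])⟩
    · exact ⟨m, hm, _, by simp, (T.mul_eq h3 hm hm T.tzs.1).1 (by rw [← h4, T.tu.2, T.tzs.2, e])⟩
  have hmem := code_W n hn c1 hxx c2 c3
  have w0 := T.ev (wW 0) (wW_lt 0 (by norm_num))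
  have w1 := T.ev (wW 1) (wW_lt 1 (by norm_num))
  have w2 := T.ev (wW 2) (wW_lt 2 (by norm_num))
  have w3 := T.ev (wW 3) (wW_lt 3 (by norm_num))
  rw [code_wW.1] at w0
  rw [code_wW.2.1] at w1
  rw [code_wW.2.2.1] at w2
  rw [code_wW.2.2.2] at w3
  simp only [wW, ev_cons, ev_nil, lt, mul_one] at w0 w1 w2 w3
  simp only [List.mem_cons, List.not_mem_nil, or_false] at hmem
  rcases hmem with rfl | rfl | rfl | rfl | rfl | rfl
  · left; exact T.tzs.2
  · right; left; exact (T.e (v := 14) (by norm_num)).2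
  · right; right
    refine ⟨5, by norm_num, by norm_num, ?_⟩
    rw [w1.2]; rfl
  · right; right
    refine ⟨4, by norm_num, by norm_num, ?_⟩
    rw [w0.2]; rfl
  · right; right
    refine ⟨6, by norm_num, by norm_num, ?_⟩
    rw [w2.2]; show _ = z * (a * b) * (z * (c * d)); simp only [mul_assoc]
  · right; right
    refine ⟨7, by norm_num, by norm_num, ?_⟩
    rw [w3.2]; show _ = z * (z * (a * b) * (z * (c * d))); simp only [mul_assoc]

theorem F1.centerP (h : F1 z a b c d r s) {x : G} (hx : x * z = z * x) (hxu : x * (z * (a * b)) = (z * (a * b)) * x)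
    (hc : ∀ y, y * z = z * y → y * (z * (a * b)) = (z * (a * b)) * y → x * y = y * x) :
    ∃ v ∈ [0, 1, 6, 7], x = eG z a b s v := by
  obtain ⟨t, T⟩ := h.exists_tab
  obtain ⟨n, hn, rfl⟩ := (T.mem x).1 (h.mem_cent.2 hx)
  have c1 := (T.mul_eq hn T.tu.1 T.tu.1 hn).1 (by rw [T.tu.2, hxu])
  have hmem := code_center n hn c1 (by
    intro m hm hmu
    have hm' : t m * (z * (a * b)) = (z * (a * b)) * t m := by
      rw [← T.tu.2]; exact (T.mul_eq hm T.tu.1 T.tu.1 hm).2 hmu
    exact (T.mul_eq hn hm hm hn).1 (hc (t m) (h.mem_cent.1 ((T.mem _).2 ⟨m, hm, rfl⟩)) hm'))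
  simp only [List.mem_cons, List.not_mem_nil, or_false] at hmem
  rcases hmem with rfl | rfl | rfl | rfl
  · exact ⟨0, by decide, T.one⟩
  · exact ⟨1, by decide, T.tz.2⟩
  · exact ⟨7, by decide, T.tu.2⟩
  · exact ⟨6, by decide, (T.e (v := 6) (by norm_num)).2⟩

end Cfsg.Agent.AltType
end

-- part: AltType/CentU
section
/-!
The centraliser of `u = z a b` normalises `T = {1, u, z s, a b s}`.
-/

set_option autoImplicit false
set_option maxRecDepth 100000
set_option linter.unusedSectionVars false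

namespace Cfsg.Agent.AltType

variable {G : Type*} [Group G] {z a b c d r s g k : G}

theorem comm_mul {x p q : G} (h1 : x * p = p * x) (h2 : x * q = q * x) : x * (p * q) = (p * q) * x := by
  rw [← mul_assoc, h1, mul_assoc, h2, mul_assoc]

theorem comm_cancel {x p q : G} (h1 : x * p = p * x) (h2 : x * (p * q) = (p * q) * x) : x * q = q * x := by
  have h3 : p * (x * q) = p * (q * x) := by rw [← mul_assoc, ← h1, mul_assoc, h2, mul_assoc]
  exact mul_left_cancel h3

theorem Rel2.eG_sq (h : Rel2 z a b c d r s g k) {v : ℕ} (hv : v < 16) : eG z a b s v * eG z a b s v = 1 := by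
  rw [h.eG_mul hv hv, Nat.xor_self]; rfl

theorem Rel2.eG_comm (h : Rel2 z a b c d r s g k) {v w : ℕ} (hv : v < 16) (hw : w < 16) :
    eG z a b s v * eG z a b s w = eG z a b s w * eG z a b s v := by
  rw [h.eG_mul hv hw, h.eG_mul hw hv, Nat.xor_comm]

/-- elements commuting with `z` and `a b s` -/
theorem Rel2.cent14 (h : Rel2 z a b c d r s g k) (hF : F1 z a b c d r s) {x : G} (hx : x * z = z * x)
    (hx14 : x * eG z a b s 14 = eG z a b s 14 * x) : (x * x) * (x * x) = 1 := by
  have hcd := h.act_mul h.act_c h.act_d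
  have e9 : eG z a b s 9 * (c * d) = (c * d) * eG z a b s 14 := (h.act_app hcd (v := 9) (by norm_num)).1
  have e1 : z * (c * d) = (c * d) * z := (h.act_app hcd (v := 1) (by norm_num)).1
  have y1 := conj_comm e1 hx
  have y9 := conj_comm e9 hx14
  have ys : (c * d * x * (c * d)⁻¹) * s = s * (c * d * x * (c * d)⁻¹) := comm_cancel y1 y9
  obtain ⟨w, hw, hw'⟩ := hF.cent_s y1 ys
  have h2 : (c * d * x * (c * d)⁻¹) * (c * d * x * (c * d)⁻¹) = 1 := by rw [hw', h.eG_sq hw]
  have h3 : x * x = 1 := by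
    have h4 : (c * d * x * (c * d)⁻¹) * (c * d * x * (c * d)⁻¹) = (c * d) * (x * x) * (c * d)⁻¹ := by group
    rw [h4] at h2
    exact conj_eq_one_iff.mp h2
  rw [h3, mul_one]

/-- conjugates of `v = z s` in `C_G(u)` that commute with `z` -/
theorem Rel2.weak [Finite G] (h : Rel2 z a b c d r s g k) (hF : F1 z a b c d r s) (hu : ¬ Fus z (z * (a * b)))
    {n : G} (hn : n * (z * (a * b)) = (z * (a * b)) * n)
    (hnz : (n * (z * s) * n⁻¹) * z = z * (n * (z * s) * n⁻¹)) :
    n * (z * s) * n⁻¹ = z * s ∨ n * (z * s) * n⁻¹ = a * (b * s) := by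
  set w := n * (z * s) * n⁻¹ with hw
  have hvu : (z * s) * (z * (a * b)) = (z * (a * b)) * (z * s) :=
    h.eG_comm (v := 9) (w := 7) (by norm_num) (by norm_num)
  have hvv : (z * s) * (z * s) = 1 := h.eG_sq (v := 9) (by norm_num)
  have huu : (z * (a * b)) * (z * (a * b)) = 1 := h.eG_sq (v := 7) (by norm_num)
  have hni : n⁻¹ * (z * (a * b)) = (z * (a * b)) * n⁻¹ := (cj_inv hn.symm).symm
  have hwu : w * (z * (a * b)) = (z * (a * b)) * w := by
    rw [hw]
    calc n * (z * s) * n⁻¹ * (z * (a * b)) = n * (z * s) * (n⁻¹ * (z * (a * b))) := by group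
      _ = n * ((z * s) * (z * (a * b))) * n⁻¹ := by rw [hni]; group
      _ = (n * (z * (a * b))) * (z * s) * n⁻¹ := by rw [hvu]; group
      _ = (z * (a * b)) * (n * (z * s) * n⁻¹) := by rw [hn]; group
  have hww : w * w = 1 := by
    rw [hw]
    calc n * (z * s) * n⁻¹ * (n * (z * s) * n⁻¹) = n * ((z * s) * (z * s)) * n⁻¹ := by group
      _ = 1 := by rw [hvv]; group
  have hw_eq : (z * (a * b)) * w = n * eG z a b s 14 * n⁻¹ := by
    rw [hw]
    have e1 : eG z a b s 14 = (z * (a * b)) * (z * s) := (h.eG_mul (v := 7) (w := 9) (by norm_num) (by norm_num)).symm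
    rw [e1]
    calc (z * (a * b)) * (n * (z * s) * n⁻¹) = ((z * (a * b)) * n) * (z * s) * n⁻¹ := by group
      _ = n * ((z * (a * b)) * (z * s)) * n⁻¹ := by rw [← hn]; group
  have fw : Fus (z * s) w := ⟨n⁻¹, by rw [hw]; group⟩
  have fuw : Fus (eG z a b s 14) ((z * (a * b)) * w) := ⟨n⁻¹, by rw [hw_eq]; group⟩
  have nw : ¬ Fus z w := fun e => h.nzt hF hu (v := 9) (by decide) (e.trans fw.symm)
  have nuw : ¬ Fus z ((z * (a * b)) * w) := fun e => h.nzt hF hu (v := 14) (by decide) (e.trans fuw.symm)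
  -- classes in the centraliser of `z`
  have cls : ∀ x, x * z = z * x → x * x = 1 → x ≠ 1 → ¬ Fus z x →
      ∃ y, y * z = z * y ∧ (x * y = y * (z * (a * b)) ∨ x * y = y * (z * s)) := by
    intro x hx hxx hx1 hxf
    rcases hF.invol hx hxx with e | e | ⟨y, hy, e | e | e | e | e⟩
    · exact absurd e hx1
    · exact absurd (e ▸ Fus.refl z) hxf
    · exact absurd ((h.zt (v := 2) (by decide)).trans (Fus.symm ⟨y, e⟩)) hxf
    · exact absurd ((h.zt (v := 4) (by decide)).trans (Fus.symm ⟨y, e⟩)) hxf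
    · exact ⟨y, hy, Or.inl e⟩
    · exact absurd ((h.zt (v := 8) (by decide)).trans (Fus.symm ⟨y, e⟩)) hxf
    · exact ⟨y, hy, Or.inr e⟩
  have ne9 : z * s ≠ 1 := fun e => by
    have := hF.eG_inj (v := 9) (w := 0) (by norm_num) (by norm_num) e
    norm_num at this
  have ne14 : eG z a b s 14 ≠ 1 := fun e => by
    have := hF.eG_inj (v := 14) (w := 0) (by norm_num) (by norm_num) e
    norm_num at this
  have huz : (z * (a * b)) * z = z * (z * (a * b)) := h.eG_comm (v := 7) (w := 1) (by norm_num) (by norm_num)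
  have c1 := cls w hnz hww (fus_ne_one fw ne9) nw
  have c2 := cls ((z * (a * b)) * w) (by rw [mul_assoc, hnz, ← mul_assoc, huz, mul_assoc])
    (by
      calc (z * (a * b)) * w * ((z * (a * b)) * w) = (z * (a * b)) * (w * (z * (a * b))) * w := by group
        _ = ((z * (a * b)) * (z * (a * b))) * (w * w) := by rw [hwu]; group
        _ = 1 := by rw [huu, hww, one_mul]) (fus_ne_one fuw ne14) nuw
  rcases hF.prop_W hnz hwu hww c1 c2 with e | e | ⟨m, hm, hm4, e⟩
  · exact Or.inl e
  · exact Or.inr e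
  · exfalso
    -- `w ∈ A₃` outside `⟨z, u⟩`
    haveI := h.T'_normal
    have Y := h.hyp hF hu
    have hz'K : n⁻¹ * z * n ∈ KT z a b s := by
      rw [mem_KT]
      constructor
      · calc n⁻¹ * z * n * (z * (a * b)) = n⁻¹ * z * (n * (z * (a * b))) := by group
          _ = n⁻¹ * (z * (z * (a * b))) * n := by rw [hn]; group
          _ = (n⁻¹ * (z * (a * b))) * z * n := by rw [← huz]; group
          _ = (z * (a * b)) * (n⁻¹ * z * n) := by rw [hni]; group
      · calc n⁻¹ * z * n * (z * s) = n⁻¹ * (z * w) * n := by rw [hw]; group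
          _ = n⁻¹ * (w * z) * n := by rw [hnz]
          _ = (z * s) * (n⁻¹ * z * n) := by rw [hw]; group
    have hsq : (QuotientGroup.mk' h.T') ⟨n⁻¹ * z * n, hz'K⟩ * (QuotientGroup.mk' h.T') ⟨n⁻¹ * z * n, hz'K⟩ = 1 := by
      rw [← map_mul]
      have : (⟨n⁻¹ * z * n, hz'K⟩ : KT z a b s) * ⟨n⁻¹ * z * n, hz'K⟩ = 1 := by
        apply Subtype.ext
        show n⁻¹ * z * n * (n⁻¹ * z * n) = 1
        calc n⁻¹ * z * n * (n⁻¹ * z * n) = n⁻¹ * (z * z) * n := by group
          _ = 1 := by rw [h.zz]; group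
      rw [this, map_one]
    obtain ⟨q, hq⟩ := Y.exists_conj_mem hsq
    obtain ⟨y, rfl⟩ := QuotientGroup.mk'_surjective h.T' q
    rw [← map_inv, ← map_mul, ← map_mul] at hq
    obtain ⟨e', ⟨j, hj, he'⟩, hmk⟩ := hq
    rw [QuotientGroup.mk'_apply, QuotientGroup.mk'_apply, QuotientGroup.eq] at hmk
    obtain ⟨τ, hτ, h1⟩ := hmk
    rw [Subgroup.coe_mul, Subgroup.coe_inv, Subgroup.coe_mul, Subgroup.coe_mul, Subgroup.coe_inv, he'] at h1
    change (eG z a b s j)⁻¹ * ((y : G)⁻¹ * (n⁻¹ * z * n) * y) = eG z a b s τ at h1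
    have h2 : (y : G)⁻¹ * (n⁻¹ * z * n) * y = eG z a b s (j ^^^ τ) := by
      rw [← h.eG_mul hj (tT_lt hτ), ← h1]; group
    set i := j ^^^ τ with hi
    have hi16 : i < 16 := xlt hj (tT_lt hτ)
    -- the element `n y`
    have m1 : z * (n * y) = (n * y) * eG z a b s i := by rw [← h2]; group
    have m7 : (z * (a * b)) * (n * y) = (n * y) * (z * (a * b)) := by
      rw [← mul_assoc, ← hn, mul_assoc, ← (mem_KT.1 y.2).1, mul_assoc]
    have mw : w * (n * y) = (n * y) * (z * s) := by
      rw [hw]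
      calc n * (z * s) * n⁻¹ * (n * y) = n * ((z * s) * y) := by group
        _ = n * (y * (z * s)) := by rw [(mem_KT.1 y.2).2]
        _ = (n * y) * (z * s) := by group
    have h3 := hF.third.swap
    have h3' := h.third.swap
    -- `E` conjugated into `A₃`
    have hmap : ∀ v : Fin 16, ∃ p : Fin 8, (n * y) * eG z a b s v * (n * y)⁻¹ = fG z (z * (a * b)) (z * (c * d)) p := by
      intro v
      have k1 := conj_comm m1 (h.eG_comm v.2 hi16)
      have k7 := conj_comm m7 (h.eG_comm v.2 (by norm_num : 7 < 16))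
      have kw := conj_comm mw (h.eG_comm v.2 (by norm_num : 9 < 16))
      -- commutes with `z c d`
      have kc : (n * y) * eG z a b s v * (n * y)⁻¹ * (z * (c * d)) =
          (z * (c * d)) * ((n * y) * eG z a b s v * (n * y)⁻¹) := by
        have e1 : w * fG z (z * (a * b)) (z * (c * d)) (m ^^^ 4) = z * (c * d) := by
          rw [e, h3'.fG_mul hm (xltF hm (by norm_num)), ← Nat.xor_assoc, Nat.xor_self, Nat.zero_xor]; rfl
        have hlow : (m ^^^ 4) = 0 ∨ (m ^^^ 4) = 1 ∨ (m ^^^ 4) = 2 ∨ (m ^^^ 4) = 3 := by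
          have key : ∀ m < 8, 4 ≤ m → (m ^^^ 4) = 0 ∨ (m ^^^ 4) = 1 ∨ (m ^^^ 4) = 2 ∨ (m ^^^ 4) = 3 := by decide
          exact key m hm hm4
        have e2 : (n * y) * eG z a b s v * (n * y)⁻¹ * fG z (z * (a * b)) (z * (c * d)) (m ^^^ 4) =
            fG z (z * (a * b)) (z * (c * d)) (m ^^^ 4) * ((n * y) * eG z a b s v * (n * y)⁻¹) := by
          rcases hlow with e0 | e0 | e0 | e0
          · rw [e0]; show _ * 1 = 1 * _; rw [mul_one, one_mul]
          · rw [e0]; exact k1
          · rw [e0]; exact k7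
          · rw [e0]; exact comm_mul k1 k7
        have e3 := comm_mul kw e2
        rw [e1] at e3
        exact e3
      obtain ⟨p, hp, hpe⟩ := h3.cent_ac k1 k7 kc
      exact ⟨⟨p, hp⟩, hpe⟩
    choose F hF' using hmap
    obtain ⟨v1, v2, hne, hv12⟩ := Fintype.exists_ne_map_eq_of_card_lt F (by decide)
    apply hne
    have e1 := hF' v1
    rw [hv12, ← hF' v2] at e1
    have e2 := mul_left_cancel (mul_right_cancel e1)
    exact Fin.ext (hF.eG_inj v1.2 v2.2 e2)

theorem Rel2.normal_T [Finite G] (h : Rel2 z a b c d r s g k) (hF : F1 z a b c d r s)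
    (hu : ¬ Fus z (z * (a * b))) {x : G} (hx : x * (z * (a * b)) = (z * (a * b)) * x) :
    x * (z * s) * x⁻¹ = z * s ∨ x * (z * s) * x⁻¹ = (z * s) * (z * (a * b)) := by
  have hG := h.act_g h.hg
  have hK := h.act_k h.hk
  set P : Subgroup G := Subgroup.centralizer {z} ⊓ Subgroup.centralizer {z * (a * b)} with hP
  have memP : ∀ y, y ∈ P ↔ y * z = z * y ∧ y * (z * (a * b)) = (z * (a * b)) * y := by
    intro y
    rw [hP, Subgroup.mem_inf, Subgroup.mem_centralizer_singleton_iff, Subgroup.mem_centralizer_singleton_iff]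
  have ne : ∀ v < 16, v ≠ 0 → eG z a b s v ≠ 1 := fun v hv hv0 e =>
    hv0 (hF.eG_inj hv (by norm_num : (0 : ℕ) < 16) e)
  refine normal_four (h.eG_sq (v := 7) (by norm_num)) (h.eG_sq (v := 9) (by norm_num))
    (h.eG_comm (v := 9) (w := 7) (by norm_num) (by norm_num)) (ne 7 (by norm_num) (by norm_num))
    (ne 9 (by norm_num) (by norm_num)) ?_ P (fun y hy => ((memP y).1 hy).2) ?_ ?_ ?_ ?_ ?_ h.zz h.aa h.bb
    (h.eG_comm (v := 1) (w := 7) (by norm_num) (by norm_num)) (h.eG_comm (v := 2) (w := 7) (by norm_num) (by norm_num))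
    (h.eG_comm (v := 4) (w := 7) (by norm_num) (by norm_num)) rfl ?_ ?_ ?_ x hx
  · intro e
    have := hF.eG_inj (v := 9) (w := 7) (by norm_num) (by norm_num) e
    norm_num at this
  · -- 2-group
    intro y
    refine ⟨2, ?_⟩
    apply Subtype.ext
    obtain ⟨h1, h2⟩ := (memP _).1 y.2
    have h3 := hF.third.cent_exp h1 h2
    show (y : G) ^ 2 ^ 2 = 1
    rw [show (2 : ℕ) ^ 2 = 2 + 2 by norm_num, pow_add, pow_two, h3]
  · exact (memP _).2 ⟨h.eG_comm (v := 7) (w := 1) (by norm_num) (by norm_num), rfl⟩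
  · exact (memP _).2 ⟨h.eG_comm (v := 9) (w := 1) (by norm_num) (by norm_num),
      h.eG_comm (v := 9) (w := 7) (by norm_num) (by norm_num)⟩
  · -- self-normalising
    intro y hyu hyP
    have hyN : y ∈ Subgroup.normalizer (P : Set G) := Subgroup.mem_normalizer_fintype hyP
    have hzP : z ∈ P := (memP z).2 ⟨rfl, h.eG_comm (v := 1) (w := 7) (by norm_num) (by norm_num)⟩
    have h1 := (memP _).1 (hyP z hzP)
    obtain ⟨v, hv, hyz⟩ := hF.centerP h1.1 h1.2 (by
      intro p hp hpu
      have hpP : p ∈ P := (memP p).2 ⟨hp, hpu⟩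
      have h2 : y⁻¹ * p * y ∈ P := (Subgroup.mem_normalizer_iff''.mp hyN p).mp hpP
      have h3 := ((memP _).1 h2).1
      calc y * z * y⁻¹ * p = y * (z * (y⁻¹ * p * y)) * y⁻¹ := by group
        _ = y * ((y⁻¹ * p * y) * z) * y⁻¹ := by rw [h3]
        _ = p * (y * z * y⁻¹) := by group)
    have hf : Fus z (eG z a b s v) := by rw [← hyz]; exact ⟨y⁻¹, by group⟩
    have hv1 : v = 1 := by
      simp only [List.mem_cons, List.not_mem_nil, or_false] at hv
      rcases hv with rfl | rfl | rfl | rfl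
      · exact absurd hf (h.nzt hF hu (by decide))
      · rfl
      · exact absurd hf (h.nzt hF hu (by decide))
      · exact absurd hf (h.nzt hF hu (by decide))
    rw [hv1] at hyz
    have hyz' : y * z * y⁻¹ = z := hyz
    rw [mul_inv_eq_iff_eq_mul] at hyz'
    exact (memP y).2 ⟨hyz', hyu⟩
  · intro y hyu hyP
    have h1 := ((memP _).1 hyP).1
    rcases h.weak hF hu hyu h1 with e | e
    · exact Or.inl e
    · right
      exact e.trans (h.eG_mul (v := 9) (w := 7) (by norm_num) (by norm_num)).symm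
  · intro y hyu hyz
    exact hF.third.cent_exp hyz hyu
  · intro y hyu hya
    have e1 := conj_comm hG.e0 hya
    have e2 := conj_comm (h.act_app hG (v := 14) (by norm_num)).1 hyu
    have e3 := h.cent14 hF e1 e2
    have e4 : (g * y * g⁻¹ * (g * y * g⁻¹)) * (g * y * g⁻¹ * (g * y * g⁻¹)) = g * ((y * y) * (y * y)) * g⁻¹ := by
      group
    rw [e4] at e3
    exact conj_eq_one_iff.mp e3
  · intro y hyu hyb
    have e1 := conj_comm hK.e0 hyb
    have e2 := conj_comm (h.act_app hK (v := 14) (by norm_num)).1 hyu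
    have e3 := h.cent14 hF e1 e2
    have e4 : (k * y * k⁻¹ * (k * y * k⁻¹)) * (k * y * k⁻¹ * (k * y * k⁻¹)) = k * ((y * y) * (y * y)) * k⁻¹ := by
      group
    rw [e4] at e3
    exact conj_eq_one_iff.mp e3

end Cfsg.Agent.AltType
end

-- part: AltType/Closing
section
/-!
Closing argument, and the case where `C_G(T) / T` has order 12: `G ≅ A₈`.
-/

set_option autoImplicit false
set_option maxRecDepth 100000
set_option linter.unusedSectionVars false

namespace Cfsg.Agent.AltType

variable {G : Type*} [Group G] {z a b c d r s g k : G}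

theorem involution_fixes [Finite G] {i : G} (hii : i * i = 1) {X : Type*} [MulAction G X] [Finite X]
    (hodd : Odd (Nat.card X)) : ∃ x : X, i • x = x := by
  have : Fact (Nat.Prime 2) := ⟨Nat.prime_two⟩
  have hp : IsPGroup 2 (Subgroup.zpowers i) := by
    intro y
    refine ⟨1, ?_⟩
    obtain ⟨y, m, hm⟩ := y
    apply Subtype.ext
    show y ^ 2 ^ 1 = 1
    have hm' : i ^ m = y := hm
    rw [pow_one, ← hm', ← zpow_natCast, ← zpow_mul, mul_comm, zpow_mul, zpow_natCast, pow_two, hii, one_zpow]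
  have h1 := hp.card_modEq_card_fixedPoints X
  have h2 : Nat.card (MulAction.fixedPoints (Subgroup.zpowers i) X) ≠ 0 := by
    intro h0
    rw [h0] at h1
    have h3 : Nat.card X % 2 = 0 := h1
    rw [Nat.odd_iff] at hodd
    omega
  have h4 : Nonempty (MulAction.fixedPoints (Subgroup.zpowers i) X) := by
    by_contra hne
    rw [not_nonempty_iff] at hne
    exact h2 (Nat.card_of_isEmpty)
  obtain ⟨⟨x, hx⟩⟩ := h4
  exact ⟨x, hx ⟨i, Subgroup.mem_zpowers i⟩⟩

/-- every involution of an overgroup of odd index of the centraliser is conjugate in it to `z` or `u` -/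
theorem Rel2.inv_in [Finite G] (h : Rel2 z a b c d r s g k) (hF : F1 z a b c d r s) (H : Subgroup G)
    (hC : Subgroup.centralizer {z} ≤ H) (hg : g ∈ H) (hk : k ∈ H)
    (hodd : Odd ((Subgroup.centralizer {z}).relIndex H)) {i : G} (hi : i ∈ H) (hii : i * i = 1) (hi1 : i ≠ 1) :
    ∃ n ∈ H, i * n = n * z ∨ i * n = n * (z * (a * b)) := by
  have cz : ∀ y, y * z = z * y → y ∈ H := fun y hy => hC (hF.mem_cent.2 hy)
  -- conjugate into the centraliser
  obtain ⟨x, hx⟩ := involution_fixes (G := H) (i := ⟨i, hi⟩) (Subtype.ext hii)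
    (X := H ⧸ ((Subgroup.centralizer {z}).subgroupOf H)) hodd
  induction x using QuotientGroup.induction_on with | H n => ?_
  have hx' : ((((⟨i, hi⟩ : H) * n : H)) : H ⧸ ((Subgroup.centralizer {z}).subgroupOf H)) = (n : _) := hx
  rw [eq_comm, QuotientGroup.eq, Subgroup.mem_subgroupOf] at hx'
  rw [Subgroup.coe_mul, Subgroup.coe_inv, Subgroup.coe_mul] at hx'
  have h1 : ((n : G)⁻¹ * (i * n)) * z = z * ((n : G)⁻¹ * (i * n)) := hF.mem_cent.1 hx'
  have e0 : i * (n : G) = n * ((n : G)⁻¹ * (i * n)) := by group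
  have h2 : ((n : G)⁻¹ * (i * n)) * ((n : G)⁻¹ * (i * n)) = 1 := by
    calc ((n : G)⁻¹ * (i * n)) * ((n : G)⁻¹ * (i * n)) = (n : G)⁻¹ * (i * i) * n := by group
      _ = 1 := by rw [hii]; group
  rcases hF.invol h1 h2 with e | e | ⟨y, hy, e | e | e | e | e⟩
  · exfalso
    apply hi1
    rw [e, mul_one] at e0
    exact mul_eq_right.mp e0
  · rw [e] at e0
    exact ⟨n, n.2, Or.inl e0⟩
  · exact ⟨n * (y * g⁻¹), H.mul_mem n.2 (H.mul_mem (cz y hy) (H.inv_mem hg)),
      Or.inl (cj_mul e0 (cj_mul e (cj_inv h.hg.zg)))⟩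
  · exact ⟨n * (y * k⁻¹), H.mul_mem n.2 (H.mul_mem (cz y hy) (H.inv_mem hk)),
      Or.inl (cj_mul e0 (cj_mul e (cj_inv h.hk.zg)))⟩
  · exact ⟨n * y, H.mul_mem n.2 (cz y hy), Or.inr (cj_mul e0 e)⟩
  · exact ⟨n * (y * (g⁻¹ * k⁻¹)), H.mul_mem n.2 (H.mul_mem (cz y hy) (H.mul_mem (H.inv_mem hg) (H.inv_mem hk))),
      Or.inl (cj_mul e0 (cj_mul e (cj_mul (cj_inv h.hg.bg) (cj_inv h.hk.zg))))⟩
  · have e7 : (z * (a * b)) * g = g * (z * s) := (h.act_app (h.act_g h.hg) (v := 7) (by norm_num)).1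
    exact ⟨n * (y * g⁻¹), H.mul_mem n.2 (H.mul_mem (cz y hy) (H.inv_mem hg)),
      Or.inr (cj_mul e0 (cj_mul e (cj_inv e7)))⟩

theorem Rel2.closing [Finite G] [IsSimpleGroup G] (h : Rel2 z a b c d r s g k) (hF : F1 z a b c d r s)
    (hu : ¬ Fus z (z * (a * b))) (H : Subgroup G)
    (hC : Subgroup.centralizer {z} ≤ H) (hg : g ∈ H) (hk : k ∈ H)
    (hodd : Odd ((Subgroup.centralizer {z}).relIndex H))
    (hCu : ∀ x, x * (z * (a * b)) = (z * (a * b)) * x → x ∈ H) : H = ⊤ := by
  by_contra hne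
  have cz : ∀ y, y * z = z * y → y ∈ H := fun y hy => hC (hF.mem_cent.2 hy)
  apply hu
  refine strong H hne ?_ (cz z rfl) (cz _ (h.eG_comm (v := 7) (w := 1) (by norm_num) (by norm_num))) h.zz
    (h.eG_sq (v := 7) (by norm_num)) hF.z_ne_one ?_
  · intro i hi hii hi1 x hx
    obtain ⟨n, hn, e | e⟩ := h.inv_in hF H hC hg hk hodd hi hii hi1
    · have h1 := conj_comm (cj_inv e) hx
      exact mem_of_conj (H.inv_mem hn) (cz _ h1)
    · have h1 := conj_comm (cj_inv e) hx
      exact mem_of_conj (H.inv_mem hn) (hCu _ h1)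
  · intro e
    have := hF.eG_inj (v := 7) (w := 0) (by norm_num) (by norm_num) e
    norm_num at this

/-- `C_G(u) ≤ H` as soon as `C_G(T) ≤ H` -/
theorem Rel2.centU_le [Finite G] (h : Rel2 z a b c d r s g k) (hF : F1 z a b c d r s)
    (hu : ¬ Fus z (z * (a * b))) (H : Subgroup G) (hc : c ∈ H) (hd : d ∈ H) (hK : KT z a b s ≤ H) {x : G}
    (hx : x * (z * (a * b)) = (z * (a * b)) * x) : x ∈ H := by
  rcases h.normal_T hF hu hx with e | e
  · apply hK
    rw [mem_KT]
    refine ⟨hx, ?_⟩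
    rwa [mul_inv_eq_iff_eq_mul] at e
  · have hcd := h.act_mul h.act_c h.act_d
    have e9 : eG z a b s 9 * (c * d) = (c * d) * eG z a b s 14 := (h.act_app hcd (v := 9) (by norm_num)).1
    have e7 : eG z a b s 7 * (c * d) = (c * d) * eG z a b s 7 := (h.act_app hcd (v := 7) (by norm_num)).1
    have e14 : (z * s) * (z * (a * b)) = eG z a b s 14 := h.eG_mul (v := 9) (w := 7) (by norm_num) (by norm_num)
    have h1 : (c * d) * x ∈ KT z a b s := by
      rw [mem_KT]
      constructor
      · rw [mul_assoc, hx, ← mul_assoc]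
        show c * d * eG z a b s 7 * x = eG z a b s 7 * (c * d * x)
        rw [← e7, mul_assoc]
      · have h2 : x * (z * s) = eG z a b s 14 * x := by
          rw [← e14, ← e]; group
        rw [mul_assoc, h2, ← mul_assoc]
        show c * d * eG z a b s 14 * x = eG z a b s 9 * (c * d * x)
        rw [← e9, mul_assoc]
    have h2 := H.mul_mem (H.inv_mem (H.mul_mem hc hd)) (hK h1)
    rwa [inv_mul_cancel_left] at h2

/-! ### orders -/

theorem Rel2.card_T' (h : Rel2 z a b c d r s g k) (hF : F1 z a b c d r s) : Nat.card h.T' = 4 := by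
  have hlt : ∀ i : Fin 4, [0, 7, 9, 14].getD (i : ℕ) 0 ∈ tT := by decide
  let f : Fin 4 → h.T' := fun i =>
    ⟨h.el ([0, 7, 9, 14].getD (i : ℕ) 0) (tT_lt (hlt i)), _, hlt i, rfl⟩
  have hf : Function.Bijective f := by
    constructor
    · intro i j hij
      have h1 : eG z a b s ([0, 7, 9, 14].getD (i : ℕ) 0) = eG z a b s ([0, 7, 9, 14].getD (j : ℕ) 0) :=
        congrArg (fun x : h.T' => ((x : KT z a b s) : G)) hij
      have h2 := hF.eG_inj (tT_lt (hlt i)) (tT_lt (hlt j)) h1
      revert h2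
      fin_cases i <;> fin_cases j <;> decide
    · rintro ⟨⟨y, hy⟩, v, hv, hyv⟩
      have hyv' : y = eG z a b s v := hyv
      subst hyv'
      simp only [tT, List.mem_cons, List.not_mem_nil, or_false] at hv
      rcases hv with rfl | rfl | rfl | rfl
      · exact ⟨0, rfl⟩
      · exact ⟨1, rfl⟩
      · exact ⟨2, rfl⟩
      · exact ⟨3, rfl⟩
  rw [← Nat.card_congr (Equiv.ofBijective f hf), Nat.card_fin]

theorem Rel2.card_E' (h : Rel2 z a b c d r s g k) (hF : F1 z a b c d r s) : Nat.card h.E' = 16 := by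
  let f : Fin 16 → h.E' := fun i => ⟨h.el i i.2, i, i.2, rfl⟩
  have hf : Function.Bijective f := by
    constructor
    · intro i j hij
      have h1 : eG z a b s i = eG z a b s j := congrArg (fun x : h.E' => ((x : KT z a b s) : G)) hij
      exact Fin.ext (hF.eG_inj i.2 j.2 h1)
    · rintro ⟨⟨y, hy⟩, v, hv, hyv⟩
      have hyv' : y = eG z a b s v := hyv
      subst hyv'
      exact ⟨⟨v, hv⟩, rfl⟩
  rw [← Nat.card_congr (Equiv.ofBijective f hf), Nat.card_fin]

/-- the element `ρ = g⁻¹ k` of order three in `C_G(T)` -/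
theorem Rel2.rho_mem (h : Rel2 z a b c d r s g k) : g⁻¹ * k ∈ KT z a b s := by
  have hG := h.act_g h.hg
  have hK := h.act_k h.hk
  rw [mem_KT]
  constructor
  · have e1 : eG z a b s 14 * g = g * eG z a b s 7 := (h.act_app hG (v := 14) (by norm_num)).1
    have e2 : eG z a b s 14 * k = k * eG z a b s 7 := (h.act_app hK (v := 14) (by norm_num)).1
    exact (cj_mul (cj_inv e1) e2).symm
  · have e1 : eG z a b s 7 * g = g * eG z a b s 9 := (h.act_app hG (v := 7) (by norm_num)).1
    have e2 : eG z a b s 7 * k = k * eG z a b s 9 := (h.act_app hK (v := 7) (by norm_num)).1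
    exact (cj_mul (cj_inv e1) e2).symm

theorem Rel2.rho_cube (h : Rel2 z a b c d r s g k) : (g⁻¹ * k) ^ 3 = 1 := by
  have hc : Commute g⁻¹ k := Commute.inv_left h.gk
  have h1 : g ^ 3 = 1 := by rw [pow_succ, pow_two, mul_assoc]; exact h.hg.g3
  have h2 : k ^ 3 = 1 := by rw [pow_succ, pow_two, mul_assoc]; exact h.hk.g3
  rw [hc.mul_pow, inv_pow, h1, h2, inv_one, one_mul]

theorem Rel2.rho_ne (h : Rel2 z a b c d r s g k) (hF : F1 z a b c d r s) : g⁻¹ * k ≠ 1 := by
  intro e
  have hgk : k = g := by rw [inv_mul_eq_one] at e; exact e.symm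
  have h1 := h.hk.zg
  rw [hgk, h.hg.zg] at h1
  have h2 := mul_left_cancel h1
  have := hF.eG_inj (v := 2) (w := 4) (by norm_num) (by norm_num) h2
  norm_num at this

theorem Rel2.card_KT [Finite G] (h : Rel2 z a b c d r s g k) (hF : F1 z a b c d r s)
    (hu : ¬ Fus z (z * (a * b))) : Nat.card (KT z a b s) = 48 ∨
      (haveI := h.T'_normal; Nat.card (KT z a b s ⧸ h.T') = 60) := by
  haveI := h.T'_normal
  have Y := h.hyp hF hu
  have h1 := Subgroup.card_eq_card_quotient_mul_card_subgroup h.T'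
  rw [h.card_T' hF] at h1
  rcases Y.card_cases with e | e | e
  · exfalso
    rw [e] at h1
    -- `ρ` has order three, but the order of the group is 16
    have h2 : orderOf (⟨g⁻¹ * k, h.rho_mem⟩ : KT z a b s) = 3 := by
      apply orderOf_eq_prime
      · exact Subtype.ext h.rho_cube
      · intro e; exact h.rho_ne hF (congrArg Subtype.val e)
    have h3 := orderOf_dvd_natCard (⟨g⁻¹ * k, h.rho_mem⟩ : KT z a b s)
    rw [h2, h1] at h3
    norm_num at h3
  · left; rw [h1, e]
  · right; exact e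

/-- if `|C_G(T)| = 48` then it is contained in `H` -/
theorem Rel2.KT_le [Finite G] (h : Rel2 z a b c d r s g k) (hF : F1 z a b c d r s)
    (h48 : Nat.card (KT z a b s) = 48) (H : Subgroup G) (hC : Subgroup.centralizer {z} ≤ H) (hg : g ∈ H)
    (hk : k ∈ H) : KT z a b s ≤ H := by
  have cz : ∀ y, y * z = z * y → y ∈ H := fun y hy => hC (hF.mem_cent.2 hy)
  have h1 : h.E' ≤ H.subgroupOf (KT z a b s) := by
    rintro ⟨x, hx⟩ ⟨v, hv, hxv⟩
    rw [Subgroup.mem_subgroupOf]
    have hxv' : x = eG z a b s v := hxv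
    subst hxv'
    exact cz _ (h.eG_comm (w := 1) hv (by norm_num))
  have h2 : (⟨g⁻¹ * k, h.rho_mem⟩ : KT z a b s) ∈ H.subgroupOf (KT z a b s) := by
    rw [Subgroup.mem_subgroupOf]
    exact H.mul_mem (H.inv_mem hg) hk
  have h3 : orderOf (⟨g⁻¹ * k, h.rho_mem⟩ : KT z a b s) = 3 := by
    apply orderOf_eq_prime
    · exact Subtype.ext h.rho_cube
    · intro e; exact h.rho_ne hF (congrArg Subtype.val e)
  have d1 := Subgroup.card_dvd_of_le h1
  rw [h.card_E' hF] at d1
  have d2 := (H.subgroupOf (KT z a b s)).orderOf_dvd_natCard h2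
  rw [h3] at d2
  have d3 : 48 ∣ Nat.card (H.subgroupOf (KT z a b s)) := by
    have := Nat.Coprime.mul_dvd_of_dvd_of_dvd (by norm_num : Nat.Coprime 16 3) d1 d2
    simpa only [_root_.Nat.reduceMul] using this
  have h4 : H.subgroupOf (KT z a b s) = ⊤ := by
    apply Subgroup.eq_top_of_card_eq
    have h5 := Nat.le_of_dvd Nat.card_pos d3
    have h6 : Nat.card (H.subgroupOf (KT z a b s)) ≤ Nat.card (KT z a b s) := Subgroup.card_le_card_group _
    (clear * - h48 h5 h6; omega)
  exact Subgroup.subgroupOf_eq_top.mp h4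

/-- the range of a homomorphism containing the generators -/
theorem Rel2.range_facts [Finite G] (h : Rel2 z a b c d r s g k) (hF : F1 z a b c d r s) {X : Type*} [Group X]
    [Finite X] (φ : X →* G) (hφ : ∀ n < 12, l12 z a b c d r s g k n ∈ φ.range) (m : ℕ)
    (hX : Nat.card X = 192 * m) (hm : Odd m) :
    Subgroup.centralizer {z} ≤ φ.range ∧ g ∈ φ.range ∧ k ∈ φ.range ∧ c ∈ φ.range ∧ d ∈ φ.range ∧
      Odd ((Subgroup.centralizer {z}).relIndex φ.range) := by
  have hC : Subgroup.centralizer {z} ≤ φ.range := by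
    rw [hF.cent, Subgroup.closure_le]
    rintro x (rfl | rfl | rfl | rfl | rfl | rfl | rfl)
    · exact hφ 0 (by norm_num)
    · exact hφ 1 (by norm_num)
    · exact hφ 2 (by norm_num)
    · exact hφ 3 (by norm_num)
    · exact hφ 4 (by norm_num)
    · exact hφ 6 (by norm_num)
    · exact hφ 5 (by norm_num)
  refine ⟨hC, hφ 8 (by norm_num), hφ 10 (by norm_num), hφ 3 (by norm_num), hφ 4 (by norm_num), ?_⟩
  have h1 : Nat.card φ.range ∣ 192 * m := by
    rw [← hX]; exact Subgroup.card_range_dvd φ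
  have h2 := Subgroup.card_mul_index ((Subgroup.centralizer {z}).subgroupOf φ.range)
  rw [Nat.card_congr (Subgroup.subgroupOfEquivOfLe hC).toEquiv, hF.card] at h2
  have h3 : (Subgroup.centralizer {z}).relIndex φ.range ∣ m := by
    rw [← h2] at h1
    exact (Nat.mul_dvd_mul_iff_left (by norm_num)).mp h1
  exact Odd.of_dvd_nat hm h3

/-- the case `|C_G(T)| = 48`: `G ≅ A₈` -/
theorem Rel2.iso_A8 [Finite G] [IsSimpleGroup G] (h : Rel2 z a b c d r s g k) (hF : F1 z a b c d r s)
    (hu : ¬ Fus z (z * (a * b))) (h48 : Nat.card (KT z a b s) = 48) : Nonempty (G ≃* alternatingGroup (Fin 8)) := by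
  obtain ⟨φ, hφ⟩ := h.exists_hom
  obtain ⟨f1, f2, f3, f4, f5, f6⟩ := h.range_facts hF φ (fun n hn => ⟨_, hφ n hn⟩) 105 card_A8 (by decide)
  have htop := h.closing hF hu φ.range f1 f2 f3 f6
    (fun x hx => h.centU_le hF hu φ.range f4 f5 (h.KT_le hF h48 φ.range f1 f2 f3) hx)
  have hs : IsSimpleGroup (alternatingGroup (Fin 8)) := alternatingGroup.isSimpleGroup (by simp)
  have hinj : Function.Injective φ := by
    rw [← MonoidHom.ker_eq_bot_iff]
    rcases φ.normal_ker.eq_bot_or_eq_top with e | e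
    · exact e
    · exfalso
      apply hF.z_ne_one
      have h1 : (⟨lq 0, lq_mem (by norm_num)⟩ : alternatingGroup (Fin 8)) ∈ φ.ker := by rw [e]; trivial
      rw [MonoidHom.mem_ker, hφ 0 (by norm_num)] at h1
      exact h1
  exact ⟨(MulEquiv.ofBijective φ ⟨hinj, MonoidHom.range_eq_top.mp htop⟩).symm⟩

end Cfsg.Agent.AltType
end

-- part: AltType/Five
section
/-!
Central extensions of `A₅` by a group of exponent 2, containing `A₄`.
-/

set_option autoImplicit false
set_option maxRecDepth 100000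
set_option maxHeartbeats 1000000

namespace Cfsg.Agent.AltType

open Cfsg.Agent.Lib.VonDyck

def y2 : Equiv.Perm (Fin 5) := Equiv.swap (2 : Fin 5) 0 * Equiv.swap (0 : Fin 5) 1
def y3 : Equiv.Perm (Fin 5) := Equiv.swap (3 : Fin 5) 0 * Equiv.swap (0 : Fin 5) 1
def y4 : Equiv.Perm (Fin 5) := Equiv.swap (4 : Fin 5) 0 * Equiv.swap (0 : Fin 5) 1

theorem conj_y2 : ∀ x : Equiv.Perm (Fin 5), x ^ 3 = 1 → x ≠ 1 → ∃ σ : Equiv.Perm (Fin 5), σ * x * σ⁻¹ = y2 := by
  decide +kernel

theorem conj_y3 : ∀ x : Equiv.Perm (Fin 5), x ^ 3 = 1 → (y2 * x) ^ 2 = 1 → y2 * x ≠ 1 →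
    ∃ σ : Equiv.Perm (Fin 5), σ * y2 * σ⁻¹ = y2 ∧ σ * x * σ⁻¹ = y3 := by
  decide +kernel

theorem uniq_y4 : ∀ x : Equiv.Perm (Fin 5), x ^ 3 = 1 → (y2 * x) ^ 2 = 1 → (y3 * x) ^ 2 = 1 → x = y4 := by
  decide +kernel

def Y2 : alternatingGroup (Fin 5) := ⟨y2, Equiv.Perm.mem_alternatingGroup.2 (by decide)⟩
def Y3 : alternatingGroup (Fin 5) := ⟨y3, Equiv.Perm.mem_alternatingGroup.2 (by decide)⟩
def Y4 : alternatingGroup (Fin 5) := ⟨y4, Equiv.Perm.mem_alternatingGroup.2 (by decide)⟩

theorem five_ext' {K : Type*} [Group K] (π : K →* alternatingGroup (Fin 5)) (hs : Function.Surjective π)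
    (hk : ∀ t, π t = 1 → t * t = 1) (hc : ∀ t, π t = 1 → ∀ x, x * t = t * x) {X Y : K}
    (hX : X ^ 3 = 1) (hY : Y ^ 3 = 1) (hXY : (X * Y) ^ 2 = 1) (pX : π X = Y2) (pY : π Y = Y3) :
    ∃ w : K, w ^ 3 = 1 ∧ (X * w) ^ 2 = 1 ∧ (Y * w) ^ 2 = 1 ∧
      (∀ y, y ^ 3 = 1 → (X * y) ^ 2 = 1 → (Y * y) ^ 2 = 1 → y = w) ∧
      ∀ H : Subgroup K, X ∈ H → Y ∈ H → w ∈ H → (∀ t, π t = 1 → t ∈ H) → H = ⊤ := by
  -- lift of `b5`
  obtain ⟨β0, hβ0⟩ := hs b5
  have hβ3 : (β0 ^ 4) ^ 3 = 1 := by
    have h1 : π (β0 ^ 3) = 1 := by rw [map_pow, hβ0, b5_pow]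
    have h2 := hk _ h1
    calc (β0 ^ 4) ^ 3 = (β0 ^ 3 * β0 ^ 3) ^ 2 := by rw [← pow_mul, ← pow_add, ← pow_mul]
      _ = 1 := by rw [h2, one_pow]
  have hβ : π (β0 ^ 4) = b5 := by
    rw [map_pow, hβ0, pow_succ, b5_pow, one_mul]
  -- lift of `a5`
  obtain ⟨C, hC⟩ : ∃ C, (π C) * (Y2 * Y3) * (π C)⁻¹ = a5 := by
    have h1 : ∃ c : alternatingGroup (Fin 5), c * (Y2 * Y3) * c⁻¹ = a5 := ⟨Y2 * (Y2 * Y3), by decide⟩
    obtain ⟨c, hc⟩ := h1
    obtain ⟨C, rfl⟩ := hs c
    exact ⟨C, hc⟩
  have hα0 : π (C * (X * Y) * C⁻¹) = a5 := by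
    rw [map_mul, map_mul, map_mul, map_inv, pX, pY, hC]
  have hα2 : (C * (X * Y) * C⁻¹) ^ 2 = 1 := by
    rw [conj_pow, hXY, mul_one, mul_inv_cancel]
  generalize C * (X * Y) * C⁻¹ = α0 at hα0 hα2
  generalize β0 ^ 4 = β at hβ hβ3
  have ht : π ((α0 * β) ^ 5) = 1 := by rw [map_pow, map_mul, hα0, hβ, ab5_pow]
  obtain ⟨t, htt⟩ : ∃ t, t = (α0 * β) ^ 5 := ⟨_, rfl⟩
  rw [← htt] at ht
  have t2 : t ^ 2 = 1 := by rw [pow_two]; exact hk t ht
  have tc : ∀ x, Commute x t := fun x => hc t ht x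
  have hα : π (α0 * t) = a5 := by rw [map_mul, hα0, ht, mul_one]
  have hα' : (α0 * t) ^ 2 = 1 := by rw [(tc α0).mul_pow, hα2, t2, one_mul]
  have hαβ : (α0 * t * β) ^ 5 = 1 := by
    have e1 : α0 * t * β = (α0 * β) * t := by rw [mul_assoc, ← (tc β).eq, ← mul_assoc]
    rw [e1, (tc (α0 * β)).mul_pow, ← htt]
    calc t * t ^ 5 = (t ^ 2) ^ 3 := by rw [← pow_succ', ← pow_mul]
      _ = 1 := by rw [t2, one_pow]
  obtain ⟨f, fa, fb⟩ := exists_hom_alternatingFive hα' hβ3 hαβ
  have hf : ∀ y, π (f y) = y := by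
    have h1 : π.comp f = MonoidHom.id _ := by
      apply MonoidHom.eq_of_eqOn_dense closure_a5_b5
      rintro y (rfl | rfl)
      · show π (f a5) = a5
        rw [fa, hα]
      · show π (f b5) = b5
        rw [fb, hβ]
    intro y
    exact DFunLike.congr_fun h1 y
  -- elements of order three
  have key : ∀ x : K, x ^ 3 = 1 → f (π x) = x := by
    intro x hx
    obtain ⟨τ, hτ⟩ : ∃ τ, τ = (f (π x))⁻¹ * x := ⟨_, rfl⟩
    have h1 : π τ = 1 := by rw [hτ, map_mul, map_inv, hf, inv_mul_cancel]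
    have h2 : x = f (π x) * τ := by rw [hτ, mul_inv_cancel_left]
    have h3 : x ^ 3 = f (π x) ^ 3 * τ ^ 3 := by
      have hcm : Commute (f (π x)) τ := hc τ h1 _
      rw [← hcm.mul_pow, ← h2]
    rw [← map_pow, ← map_pow, hx, map_one, map_one, one_mul, pow_succ, pow_two, hk τ h1, one_mul] at h3
    rw [← h3, mul_one] at h2
    exact h2.symm
  have fX : f Y2 = X := by rw [← pX]; exact key X hX
  have fY : f Y3 = Y := by rw [← pY]; exact key Y hY
  refine ⟨f Y4, ?_, ?_, ?_, ?_, ?_⟩
  · rw [← map_pow, show Y4 ^ 3 = 1 by decide, map_one]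
  · rw [← fX, ← map_mul, ← map_pow, show (Y2 * Y4) ^ 2 = 1 by decide, map_one]
  · rw [← fY, ← map_mul, ← map_pow, show (Y3 * Y4) ^ 2 = 1 by decide, map_one]
  · intro y h3 h4 h5
    have h6 : π y = Y4 := by
      apply Subtype.ext
      apply uniq_y4
      · have := congrArg π h3
        rw [map_pow, map_one] at this
        exact congrArg Subtype.val this
      · have := congrArg π h4
        rw [map_pow, map_mul, pX, map_one] at this
        exact congrArg Subtype.val this
      · have := congrArg π h5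
        rw [map_pow, map_mul, pY, map_one] at this
        exact congrArg Subtype.val this
    rw [← h6]
    exact (key y h3).symm
  · intro H hXH hYH hwH hker
    have h1 : H.comap f = ⊤ := by
      rw [eq_top_iff, ← closure_a5_b5, Subgroup.closure_le]
      have m2 : Y2 ∈ H.comap f := by rw [Subgroup.mem_comap, fX]; exact hXH
      have m3 : Y3 ∈ H.comap f := by rw [Subgroup.mem_comap, fY]; exact hYH
      have m4 : Y4 ∈ H.comap f := hwH
      rintro y (rfl | rfl)
      · rw [show a5 = Y2 * (Y3 * (Y3 * Y2)) by decide]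
        exact Subgroup.mul_mem _ m2 (Subgroup.mul_mem _ m3 (Subgroup.mul_mem _ m3 m2))
      · rw [show b5 = Y4 * (Y2 * Y2) by decide]
        exact Subgroup.mul_mem _ m4 (Subgroup.mul_mem _ m2 m2)
    rw [eq_top_iff]
    intro x _
    have h2 : π ((f (π x))⁻¹ * x) = 1 := by rw [map_mul, map_inv, hf, inv_mul_cancel]
    have h3 : f (π x) ∈ H := by
      have : π x ∈ H.comap f := by rw [h1]; trivial
      exact this
    have h4 := H.mul_mem h3 (hker _ h2)
    rwa [mul_inv_cancel_left] at h4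

theorem five_ext {K : Type*} [Group K] (π : K →* alternatingGroup (Fin 5)) (hs : Function.Surjective π)
    (hk : ∀ t, π t = 1 → t * t = 1) (hc : ∀ t, π t = 1 → ∀ x, x * t = t * x) {X Y : K}
    (hX : X ^ 3 = 1) (hY : Y ^ 3 = 1) (hXY : (X * Y) ^ 2 = 1) (nX : π X ≠ 1) (nXY : π (X * Y) ≠ 1) :
    ∃ w : K, w ^ 3 = 1 ∧ (X * w) ^ 2 = 1 ∧ (Y * w) ^ 2 = 1 ∧
      (∀ y, y ^ 3 = 1 → (X * y) ^ 2 = 1 → (Y * y) ^ 2 = 1 → y = w) ∧
      ∀ H : Subgroup K, X ∈ H → Y ∈ H → w ∈ H → (∀ t, π t = 1 → t ∈ H) → H = ⊤ := by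
  obtain ⟨σ, hσ⟩ := conj_y2 (π X : Equiv.Perm (Fin 5)) (by
    have := congrArg π hX
    rw [map_pow, map_one] at this
    exact congrArg Subtype.val this) (fun e => nX (Subtype.ext e))
  have e1 : σ * ((π X : Equiv.Perm (Fin 5)) * (π Y : Equiv.Perm (Fin 5))) * σ⁻¹ =
      y2 * (σ * (π Y : Equiv.Perm (Fin 5)) * σ⁻¹) := by
    rw [← hσ]; group
  have e2 : ((π X : Equiv.Perm (Fin 5)) * (π Y : Equiv.Perm (Fin 5))) ^ 2 = 1 := by
    have := congrArg π hXY
    rw [map_pow, map_mul, map_one] at this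
    exact congrArg Subtype.val this
  obtain ⟨ρ, hρ2, hρ3⟩ := conj_y3 (σ * (π Y : Equiv.Perm (Fin 5)) * σ⁻¹) (by
    have := congrArg π hY
    rw [map_pow, map_one] at this
    have h1 : (π Y : Equiv.Perm (Fin 5)) ^ 3 = 1 := congrArg Subtype.val this
    rw [conj_pow, h1, mul_one, mul_inv_cancel]) (by
    rw [← e1, conj_pow, e2, mul_one, mul_inv_cancel]) (by
    rw [← e1]
    intro e
    apply nXY
    apply Subtype.ext
    have h1 : (π X : Equiv.Perm (Fin 5)) * (π Y : Equiv.Perm (Fin 5)) = 1 := by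
      calc (π X : Equiv.Perm (Fin 5)) * (π Y : Equiv.Perm (Fin 5))
          = σ⁻¹ * (σ * ((π X : Equiv.Perm (Fin 5)) * (π Y : Equiv.Perm (Fin 5))) * σ⁻¹) * σ := by group
        _ = 1 := by rw [e, mul_one, inv_mul_cancel]
    rw [map_mul]
    exact h1)
  let κ : alternatingGroup (Fin 5) ≃* alternatingGroup (Fin 5) := MulAut.conjNormal (ρ * σ)
  have hκ : ∀ y : alternatingGroup (Fin 5), (κ y : Equiv.Perm (Fin 5)) = (ρ * σ) * y * (ρ * σ)⁻¹ :=
    fun y => MulAut.conjNormal_apply _ _
  have hker : ∀ t, κ.toMonoidHom.comp π t = 1 ↔ π t = 1 := by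
    intro t
    show κ (π t) = 1 ↔ π t = 1
    exact EmbeddingLike.map_eq_one_iff
  obtain ⟨w, h1, h2, h3, h4, h5⟩ := five_ext' (κ.toMonoidHom.comp π) (κ.surjective.comp hs)
    (fun t ht => hk t ((hker t).1 ht)) (fun t ht => hc t ((hker t).1 ht)) hX hY hXY
    (by
      apply Subtype.ext
      show (κ (π X) : Equiv.Perm (Fin 5)) = y2
      rw [hκ]
      calc ρ * σ * (π X : Equiv.Perm (Fin 5)) * (ρ * σ)⁻¹ = ρ * (σ * (π X : Equiv.Perm (Fin 5)) * σ⁻¹) * ρ⁻¹ := by
            group
        _ = y2 := by rw [hσ, hρ2])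
    (by
      apply Subtype.ext
      show (κ (π Y) : Equiv.Perm (Fin 5)) = y3
      rw [hκ]
      calc ρ * σ * (π Y : Equiv.Perm (Fin 5)) * (ρ * σ)⁻¹ = ρ * (σ * (π Y : Equiv.Perm (Fin 5)) * σ⁻¹) * ρ⁻¹ := by
            group
        _ = y3 := hρ3)
  exact ⟨w, h1, h2, h3, h4, fun H a1 a2 a3 a4 => h5 H a1 a2 a3 (fun t ht => a4 t ((hker t).1 ht))⟩

end Cfsg.Agent.AltType
end

-- part: AltType/Nine
section
/-!
The case where `C_G(T) / T` has order 60: `G ≅ A₉`.
-/

set_option autoImplicit false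
set_option maxRecDepth 100000
set_option linter.unusedSectionVars false

namespace Cfsg.Agent.AltType

open Cfsg.Agent.Lib

variable {G : Type*} [Group G] {z a b c d r s g k : G}

section perms

open Equiv

theorem even2 {i j k l : Fin 8} (h1 : i ≠ j) (h2 : k ≠ l) : swap i j * swap k l ∈ alternatingGroup (Fin 8) := by
  rw [Equiv.Perm.mem_alternatingGroup, map_mul, Equiv.Perm.sign_swap h1, Equiv.Perm.sign_swap h2]
  rfl

def U8 : alternatingGroup (Fin 8) := ⟨swap (4 : Fin 8) 5 * swap (6 : Fin 8) 7, even2 (by decide) (by decide)⟩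
def V8 : alternatingGroup (Fin 8) := ⟨swap (4 : Fin 8) 6 * swap (5 : Fin 8) 7, even2 (by decide) (by decide)⟩
def Q8 : alternatingGroup (Fin 8) := ⟨swap (2 : Fin 8) 3 * swap (4 : Fin 8) 5, even2 (by decide) (by decide)⟩
def T8 : alternatingGroup (Fin 8) := ⟨swap (2 : Fin 8) 4 * swap (3 : Fin 8) 5, even2 (by decide) (by decide)⟩
/-- `4 → 2`, `6 → 4`, `2 → 6`; `5 → 3`, `7 → 5`, `3 → 7` -/
def M8 : alternatingGroup (Fin 8) :=
  ⟨swap (2 : Fin 8) 6 * swap (6 : Fin 8) 4, even2 (by decide) (by decide)⟩ * ⟨swap (3 : Fin 8) 7 * swap (7 : Fin 8) 5, even2 (by decide) (by decide)⟩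
def sg : alternatingGroup (Fin 8) := ⟨swap (0 : Fin 8) 6 * swap (1 : Fin 8) 7, even2 (by decide) (by decide)⟩

/-- the three-cycles `(j 0 1)`, `j = 6, 7, 2, 3, 4, 5` -/
def ax (i : ℕ) : alternatingGroup (Fin 8) :=
  if hi : i < 6 then sg⁻¹ * ⟨AltCarmichael.cyc 6 i, AltCarmichael.cyc_mem 6 i hi⟩ * sg else 1

theorem ax_lt {i : ℕ} (hi : i < 6) :
    ax i = sg⁻¹ * ⟨AltCarmichael.cyc 6 i, AltCarmichael.cyc_mem 6 i hi⟩ * sg := dif_pos hi

theorem ax_cube {i : ℕ} (hi : i < 6) : ax i ^ 3 = 1 := by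
  rw [ax_lt hi]
  have h1 := (AltCarmichael.rel_cyc 6).cube i hi
  have h2 : (⟨AltCarmichael.cyc 6 i, AltCarmichael.cyc_mem 6 i hi⟩ : alternatingGroup (Fin 8)) ^ 3 = 1 :=
    Subtype.ext h1
  have := conj_pow (i := 3) (a := sg⁻¹) (b := (⟨AltCarmichael.cyc 6 i, AltCarmichael.cyc_mem 6 i hi⟩ :
    alternatingGroup (Fin 8)))
  rw [inv_inv, h2, mul_one, inv_mul_cancel] at this
  exact this

theorem ax_sq {i j : ℕ} (hi : i < 6) (hj : j < 6) (hij : i ≠ j) : (ax i * ax j) ^ 2 = 1 := by
  rw [ax_lt hi, ax_lt hj]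
  have h1 := (AltCarmichael.rel_cyc 6).sq i hi j hj hij
  have h2 : ((⟨AltCarmichael.cyc 6 i, AltCarmichael.cyc_mem 6 i hi⟩ : alternatingGroup (Fin 8)) *
      ⟨AltCarmichael.cyc 6 j, AltCarmichael.cyc_mem 6 j hj⟩) ^ 2 = 1 := Subtype.ext h1
  generalize (⟨AltCarmichael.cyc 6 i, AltCarmichael.cyc_mem 6 i hi⟩ : alternatingGroup (Fin 8)) = p at h2 ⊢
  generalize (⟨AltCarmichael.cyc 6 j, AltCarmichael.cyc_mem 6 j hj⟩ : alternatingGroup (Fin 8)) = q at h2 ⊢
  have e : sg⁻¹ * p * sg * (sg⁻¹ * q * sg) = sg⁻¹ * (p * q) * sg⁻¹⁻¹ := by group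
  rw [e, conj_pow, h2]
  group

end perms

/-- the homomorphism from `A₈` is injective -/
theorem Rel2.phi_inj (hF : F1 z a b c d r s) (φ : alternatingGroup (Fin 8) →* G)
    (hφ : ∀ n (hn : n < 12), φ ⟨lq n, lq_mem hn⟩ = l12 z a b c d r s g k n) : Function.Injective φ := by
  have hs : IsSimpleGroup (alternatingGroup (Fin 8)) := alternatingGroup.isSimpleGroup (by simp)
  rw [← MonoidHom.ker_eq_bot_iff]
  rcases φ.normal_ker.eq_bot_or_eq_top with e | e
  · exact e
  · exfalso
    apply hF.z_ne_one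
    have h1 : (⟨lq 0, lq_mem (by norm_num)⟩ : alternatingGroup (Fin 8)) ∈ φ.ker := by rw [e]; trivial
    rw [MonoidHom.mem_ker, hφ 0 (by norm_num)] at h1
    exact h1

theorem phi_U (φ : alternatingGroup (Fin 8) →* G)
    (hφ : ∀ n (hn : n < 12), φ ⟨lq n, lq_mem hn⟩ = l12 z a b c d r s g k n) : φ U8 = z * (a * b) := by
  have e : U8 = ⟨lq 0, lq_mem (by norm_num)⟩ * (⟨lq 1, lq_mem (by norm_num)⟩ * ⟨lq 2, lq_mem (by norm_num)⟩) := by
    apply Subtype.ext
    show Equiv.swap (4 : Fin 8) 5 * Equiv.swap (6 : Fin 8) 7 = lq 0 * (lq 1 * lq 2)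
    decide
  rw [e, map_mul, map_mul, hφ 0 (by norm_num), hφ 1 (by norm_num), hφ 2 (by norm_num)]
  rfl

theorem phi_V (φ : alternatingGroup (Fin 8) →* G)
    (hφ : ∀ n (hn : n < 12), φ ⟨lq n, lq_mem hn⟩ = l12 z a b c d r s g k n) : φ V8 = z * s := by
  have e : V8 = ⟨lq 0, lq_mem (by norm_num)⟩ * ⟨lq 5, lq_mem (by norm_num)⟩ := by
    apply Subtype.ext
    show Equiv.swap (4 : Fin 8) 6 * Equiv.swap (5 : Fin 8) 7 = lq 0 * lq 5
    decide
  rw [e, map_mul, hφ 0 (by norm_num), hφ 5 (by norm_num)]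
  rfl

theorem map_comm {X : Type*} [Group X] (φ : X →* G) {p q : X} (h : p * q = q * p) : φ p * φ q = φ q * φ p := by
  rw [← map_mul, h, map_mul]

theorem conj_comm_phi {X : Type*} [Group X] (φ : X →* G) {m y y' : X} (hm : m * y * m⁻¹ = y') {w : G}
    (hw : w * φ y = φ y * w) : (φ m * w * (φ m)⁻¹) * φ y' = φ y' * (φ m * w * (φ m)⁻¹) := by
  rw [← hm, map_mul, map_mul, map_inv]
  calc φ m * w * (φ m)⁻¹ * (φ m * φ y * (φ m)⁻¹) = φ m * (w * φ y) * (φ m)⁻¹ := by group
    _ = φ m * (φ y * w) * (φ m)⁻¹ := by rw [hw]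
    _ = φ m * φ y * (φ m)⁻¹ * (φ m * w * (φ m)⁻¹) := by group

theorem comm_conj_phi {X : Type*} [Group X] (φ : X →* G) {m y y' : X} (hm : m * y * m⁻¹ = y') {w : G}
    (hw : ((φ m)⁻¹ * w * φ m) * φ y = φ y * ((φ m)⁻¹ * w * φ m)) : w * φ y' = φ y' * w := by
  have := conj_comm_phi φ hm hw
  have e : φ m * ((φ m)⁻¹ * w * φ m) * (φ m)⁻¹ = w := by group
  rwa [e] at this

theorem sq_conj {X : Type*} [Group X] (φ : X →* G) {m y y' : X} (hm : m * y * m⁻¹ = y') {w : G}
    (hw : w * φ m = φ m * w) (h2 : (φ y * w) ^ 2 = 1) : (φ y' * w) ^ 2 = 1 := by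
  rw [← hm, map_mul, map_mul, map_inv]
  have e1 : (φ m)⁻¹ * w = w * (φ m)⁻¹ := by
    rw [inv_mul_eq_iff_eq_mul, ← mul_assoc, ← hw, mul_assoc, mul_inv_cancel, mul_one]
  have e : φ m * φ y * (φ m)⁻¹ * w = φ m * (φ y * w) * (φ m)⁻¹ := by
    rw [mul_assoc (φ m * φ y), e1]; group
  rw [e, conj_pow, h2, mul_one, mul_inv_cancel]

section nine

variable [Finite G]

theorem Rel2.exists_w (h : Rel2 z a b c d r s g k) (hF : F1 z a b c d r s) (hu : ¬ Fus z (z * (a * b)))
    (h60 : haveI := h.T'_normal; Nat.card (KT z a b s ⧸ h.T') = 60)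
    (φ : alternatingGroup (Fin 8) →* G)
    (hφ : ∀ n (hn : n < 12), φ ⟨lq n, lq_mem hn⟩ = l12 z a b c d r s g k n) :
    ∃ w ∈ KT z a b s, w ^ 3 = 1 ∧ (φ (ax 2) * w) ^ 2 = 1 ∧ (φ (ax 3) * w) ^ 2 = 1 ∧
      (∀ y ∈ KT z a b s, y ^ 3 = 1 → (φ (ax 2) * y) ^ 2 = 1 → (φ (ax 3) * y) ^ 2 = 1 → y = w) ∧
      ∀ H : Subgroup G, (∀ y, φ y ∈ H) → w ∈ H → KT z a b s ≤ H := by
  haveI := h.T'_normal
  have hU := phi_U φ hφ
  have hV := phi_V φ hφ
  have hinj := Rel2.phi_inj hF φ hφ
  have memK : ∀ y, y * U8 = U8 * y → y * V8 = V8 * y → φ y ∈ KT z a b s := by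
    intro y h1 h2
    rw [mem_KT, ← hU, ← hV]
    exact ⟨map_comm φ h1, map_comm φ h2⟩
  -- the elements of `T`
  have memT : ∀ t : KT z a b s, t ∈ h.T' → ∃ τ ∈ [1, U8, V8, U8 * V8], (t : G) = φ τ := by
    rintro t ⟨v, hv, ht⟩
    simp only [tT, List.mem_cons, List.not_mem_nil, or_false] at hv
    rcases hv with rfl | rfl | rfl | rfl
    · exact ⟨1, by simp, by rw [ht, map_one]; rfl⟩
    · exact ⟨U8, by simp, by rw [ht, hU]; rfl⟩
    · exact ⟨V8, by simp, by rw [ht, hV]; rfl⟩
    · refine ⟨U8 * V8, by simp only [_root_.List.mem_cons, _root_.mul_eq_left, _root_.mul_eq_right, _root_.List.not_mem_nil, _root_.or_false, _root_.or_true], ?_⟩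
      rw [ht, map_mul, hU, hV]
      exact (h.eG_mul (v := 7) (w := 9) (by norm_num) (by norm_num)).symm
  obtain ⟨e⟩ := (h.hyp hF hu).equiv_of_card_60 h60
  let π : KT z a b s →* alternatingGroup (Fin 5) := e.toMonoidHom.comp (QuotientGroup.mk' h.T')
  have hs : Function.Surjective π := e.surjective.comp (QuotientGroup.mk'_surjective h.T')
  have hker : ∀ t, π t = 1 ↔ t ∈ h.T' := by
    intro t
    show e (QuotientGroup.mk' h.T' t) = 1 ↔ _
    rw [EmbeddingLike.map_eq_one_iff, QuotientGroup.mk'_apply, QuotientGroup.eq_one_iff]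
  have hK2 := memK (ax 2) (by decide) (by decide)
  have hK3 := memK (ax 3) (by decide) (by decide)
  obtain ⟨w, h1, h2, h3, h4, h5⟩ := five_ext π hs
    (by
      intro t ht
      obtain ⟨v, hv, ht'⟩ := (hker t).1 ht
      apply Subtype.ext
      rw [Subgroup.coe_mul, ht', h.eG_sq (tT_lt hv)]; rfl)
    (by
      intro t ht x
      obtain ⟨v, hv, ht'⟩ := (hker t).1 ht
      apply Subtype.ext
      rw [Subgroup.coe_mul, Subgroup.coe_mul, ht', h.KT_comm x.2 hv])
    (X := ⟨φ (ax 2), hK2⟩) (Y := ⟨φ (ax 3), hK3⟩)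
    (Subtype.ext (by
      rw [Subgroup.coe_pow]
      show φ (ax 2) ^ 3 = 1
      rw [← map_pow, ax_cube (by norm_num), map_one]))
    (Subtype.ext (by
      rw [Subgroup.coe_pow]
      show φ (ax 3) ^ 3 = 1
      rw [← map_pow, ax_cube (by norm_num), map_one]))
    (Subtype.ext (by
      rw [Subgroup.coe_pow]
      show (φ (ax 2) * φ (ax 3)) ^ 2 = 1
      rw [← map_mul, ← map_pow, ax_sq (by norm_num) (by norm_num) (by norm_num), map_one]))
    (by
      rw [Ne, hker]
      intro ht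
      obtain ⟨τ, hτ, e1⟩ := memT _ ht
      have e2 := hinj e1
      revert e2
      simp only [List.mem_cons, List.not_mem_nil, or_false] at hτ
      rcases hτ with rfl | rfl | rfl | rfl <;> decide)
    (by
      rw [Ne, hker]
      intro ht
      obtain ⟨τ, hτ, e1⟩ := memT _ ht
      change φ (ax 2) * φ (ax 3) = φ τ at e1
      rw [← map_mul] at e1
      have e2 := hinj e1
      revert e2
      simp only [List.mem_cons, List.not_mem_nil, or_false] at hτ
      rcases hτ with rfl | rfl | rfl | rfl <;> decide)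
  refine ⟨w, w.2, ?_, ?_, ?_, ?_, ?_⟩
  · exact congrArg Subtype.val h1
  · exact congrArg Subtype.val h2
  · exact congrArg Subtype.val h3
  · intro y hy e1 e2 e3
    exact congrArg Subtype.val (h4 ⟨y, hy⟩ (Subtype.ext e1) (Subtype.ext e2) (Subtype.ext e3))
  · intro H hH hw
    have := h5 (H.subgroupOf (KT z a b s)) (by rw [Subgroup.mem_subgroupOf]; exact hH _)
      (by rw [Subgroup.mem_subgroupOf]; exact hH _) (by rw [Subgroup.mem_subgroupOf]; exact hw)
      (by
        intro t ht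
        obtain ⟨τ, -, e1⟩ := memT t ((hker t).1 ht)
        rw [Subgroup.mem_subgroupOf, e1]
        exact hH _)
    exact Subgroup.subgroupOf_eq_top.mp this

theorem Rel2.exists_nine (h : Rel2 z a b c d r s g k) (hF : F1 z a b c d r s) (hu : ¬ Fus z (z * (a * b)))
    (h60 : haveI := h.T'_normal; Nat.card (KT z a b s ⧸ h.T') = 60)
    (φ : alternatingGroup (Fin 8) →* G)
    (hφ : ∀ n (hn : n < 12), φ ⟨lq n, lq_mem hn⟩ = l12 z a b c d r s g k n) :
    ∃ ψ : alternatingGroup (Fin 9) →* G, (∀ y, φ y ∈ ψ.range) ∧ KT z a b s ≤ ψ.range := by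
  obtain ⟨w, hwK, hw3, hw2, hw2', huniq, hH⟩ := h.exists_w hF hu h60 φ hφ
  have hU := phi_U φ hφ
  have hV := phi_V φ hφ
  have hinj := Rel2.phi_inj hF φ hφ
  have wU : w * φ U8 = φ U8 * w := by rw [hU]; exact (mem_KT.1 hwK).1
  have wV : w * φ V8 = φ V8 * w := by rw [hV]; exact (mem_KT.1 hwK).2
  have wUV : w * φ (U8 * V8) = φ (U8 * V8) * w := by rw [map_mul]; exact comm_mul wU wV
  -- `w` commutes with `(23)(45)`
  have wQ : w * φ Q8 = φ Q8 * w := by
    have e1 : φ Q8 * w * (φ Q8)⁻¹ = w := by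
      apply huniq
      · rw [mem_KT, ← hU, ← hV]
        exact ⟨conj_comm_phi φ (by decide) wU, conj_comm_phi φ (by decide) wUV⟩
      · rw [conj_pow, hw3, mul_one, mul_inv_cancel]
      · have e : φ (ax 2) * (φ Q8 * w * (φ Q8)⁻¹) = φ Q8 * (φ (ax 3) * w) * (φ Q8)⁻¹ := by
          rw [show ax 2 = Q8 * ax 3 * Q8⁻¹ by decide]
          simp only [map_mul, map_inv]; group
        rw [e, conj_pow, hw2', mul_one, mul_inv_cancel]
      · have e : φ (ax 3) * (φ Q8 * w * (φ Q8)⁻¹) = φ Q8 * (φ (ax 2) * w) * (φ Q8)⁻¹ := by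
          rw [show ax 3 = Q8 * ax 2 * Q8⁻¹ by decide]
          simp only [map_mul, map_inv]; group
        rw [e, conj_pow, hw2, mul_one, mul_inv_cancel]
    rw [mul_inv_eq_iff_eq_mul] at e1
    exact e1.symm
  -- `w` commutes with `(24)(35)`
  have wT : w * φ T8 = φ T8 * w := by
    apply comm_conj_phi φ (m := M8) (y := V8) (by decide)
    have hx : ((φ M8)⁻¹ * w * φ M8) * (z * (a * b)) = (z * (a * b)) * ((φ M8)⁻¹ * w * φ M8) := by
      rw [← hU]
      have := conj_comm_phi φ (m := M8⁻¹) (y := Q8) (y' := U8) (by decide) wQ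
      rw [map_inv, inv_inv] at this
      exact this
    have hx3 : ((φ M8)⁻¹ * w * φ M8) ^ 3 = 1 := by
      have := conj_pow (i := 3) (a := (φ M8)⁻¹) (b := w)
      rw [inv_inv, hw3, mul_one, inv_mul_cancel] at this
      exact this
    generalize (φ M8)⁻¹ * w * φ M8 = x at hx hx3 ⊢
    rw [hV]
    rcases h.normal_T hF hu hx with e | e
    · rwa [mul_inv_eq_iff_eq_mul] at e
    · exfalso
      rw [mul_inv_eq_iff_eq_mul] at e
      have uu : (z * (a * b)) * (z * (a * b)) = 1 := h.eG_sq (v := 7) (by norm_num)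
      have hne : z * (a * b) ≠ 1 := by
        intro e
        have := hF.eG_inj (v := 7) (w := 0) (by norm_num) (by norm_num) e
        norm_num at this
      generalize z * s = v at e
      generalize z * (a * b) = u at e hx uu hne
      apply hne
      have e2 : x * (x * v) = v * (x * x) := by
        rw [e, ← mul_assoc, ← mul_assoc, e]
        calc v * u * x * u * x = v * u * (x * u) * x := by group
          _ = v * (u * u) * x * x := by rw [hx]; group
          _ = v * (x * x) := by rw [uu]; group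
      have e3 : x * (x * (x * v)) = v * u * (x * (x * x)) := by
        rw [e2, ← mul_assoc, e]; group
      have x3 : x * (x * x) = 1 := by
        rw [← hx3, pow_succ, pow_two, mul_assoc]
      have e4 : x * (x * (x * v)) = v := by
        rw [← mul_assoc x x v, ← mul_assoc, x3, one_mul]
      rw [e4, x3, mul_one] at e3
      exact (mul_eq_left.mp e3.symm)
  have wQT : w * φ (Q8 * T8) = φ (Q8 * T8) * w := by rw [map_mul]; exact comm_mul wQ wT
  have wVT : w * φ (V8 * T8) = φ (V8 * T8) * w := by rw [map_mul]; exact comm_mul wV wT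
  have wVQT : w * φ (V8 * (Q8 * T8)) = φ (V8 * (Q8 * T8)) * w := by rw [map_mul]; exact comm_mul wV wQT
  have hall : ∀ i < 6, (φ (ax i) * w) ^ 2 = 1 := by
    intro i hi
    interval_cases i
    · exact sq_conj φ (m := V8 * T8) (y := ax 2) (by decide +kernel) wVT hw2
    · exact sq_conj φ (m := V8 * (Q8 * T8)) (y := ax 2) (by decide +kernel) wVQT hw2
    · exact hw2
    · exact hw2'
    · exact sq_conj φ (m := T8) (y := ax 2) (by decide) wT hw2
    · exact sq_conj φ (m := Q8 * T8) (y := ax 2) (by decide +kernel) wQT hw2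
  let xs : ℕ → G := fun i => if i < 6 then φ (ax i) else w
  have xs1 : ∀ i < 6, xs i = φ (ax i) := fun i hi => if_pos hi
  have xs2 : xs 6 = w := rfl
  have hR : AltCarmichael.Rel 7 xs := by
    constructor
    · intro i hi
      rcases Nat.lt_or_ge i 6 with h1 | h1
      · rw [xs1 i h1, ← map_pow, ax_cube h1, map_one]
      · obtain rfl : i = 6 := by omega
        exact hw3
    · intro i hi j hj hij
      rcases Nat.lt_or_ge i 6 with h1 | h1
      · rcases Nat.lt_or_ge j 6 with h2 | h2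
        · rw [xs1 i h1, xs1 j h2, ← map_mul, ← map_pow, ax_sq h1 h2 hij, map_one]
        · obtain rfl : j = 6 := by omega
          rw [xs1 i h1, xs2]
          exact hall i h1
      · obtain rfl : i = 6 := by omega
        have h2 : j < 6 := by omega
        rw [xs1 j h2, xs2]
        exact AltCarmichael.swap_rel (hall j h2)
  obtain ⟨ψ, hψ⟩ := AltCarmichael.exists_hom (m := 7) (by norm_num) hR
  have r1 : ∀ i < 7, xs i ∈ ψ.range := fun i hi => ⟨_, hψ i hi⟩
  have r2 : w ∈ ψ.range := r1 6 (by norm_num)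
  have r3 : ∀ y ∈ AltCarmichael.gen 6 (AltCarmichael.cyc 6), ∃ hy : y ∈ alternatingGroup (Fin 8),
      φ (sg⁻¹ * ⟨y, hy⟩ * sg) ∈ ψ.range := by
    intro y hy
    rw [AltCarmichael.gen_def] at hy
    induction hy using Subgroup.closure_induction with
    | mem x hx =>
      obtain ⟨i, hi, rfl⟩ := hx
      refine ⟨AltCarmichael.cyc_mem 6 i hi, ?_⟩
      have h1 := r1 i (by omega)
      rw [xs1 i hi, ax_lt hi] at h1
      exact h1
    | one =>
      refine ⟨Subgroup.one_mem _, ?_⟩
      have e : sg⁻¹ * (⟨1, Subgroup.one_mem _⟩ : alternatingGroup (Fin 8)) * sg = 1 := by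
        have e0 : (⟨1, Subgroup.one_mem _⟩ : alternatingGroup (Fin 8)) = 1 := rfl
        rw [e0, mul_one, inv_mul_cancel]
      rw [e, map_one]
      exact Subgroup.one_mem _
    | mul x y _ _ hx hy =>
      obtain ⟨hx1, hx2⟩ := hx
      obtain ⟨hy1, hy2⟩ := hy
      refine ⟨Subgroup.mul_mem _ hx1 hy1, ?_⟩
      have e : sg⁻¹ * (⟨x * y, Subgroup.mul_mem _ hx1 hy1⟩ : alternatingGroup (Fin 8)) * sg =
          (sg⁻¹ * ⟨x, hx1⟩ * sg) * (sg⁻¹ * ⟨y, hy1⟩ * sg) := by
        have e0 : (⟨x * y, Subgroup.mul_mem _ hx1 hy1⟩ : alternatingGroup (Fin 8)) = ⟨x, hx1⟩ * ⟨y, hy1⟩ := rfl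
        rw [e0]; group
      rw [e, map_mul]
      exact Subgroup.mul_mem _ hx2 hy2
    | inv x _ hx =>
      obtain ⟨hx1, hx2⟩ := hx
      refine ⟨Subgroup.inv_mem _ hx1, ?_⟩
      have e : sg⁻¹ * (⟨x⁻¹, Subgroup.inv_mem _ hx1⟩ : alternatingGroup (Fin 8)) * sg =
          (sg⁻¹ * ⟨x, hx1⟩ * sg)⁻¹ := by
        have e0 : (⟨x⁻¹, Subgroup.inv_mem _ hx1⟩ : alternatingGroup (Fin 8)) = (⟨x, hx1⟩)⁻¹ := rfl
        rw [e0]; group
      rw [e, map_inv]
      exact Subgroup.inv_mem _ hx2
  have r4 : ∀ y, φ y ∈ ψ.range := by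
    intro y
    have h1 : ((sg * y * sg⁻¹ : alternatingGroup (Fin 8)) : Equiv.Perm (Fin 8)) ∈
        AltCarmichael.gen 6 (AltCarmichael.cyc 6) := by
      have := (sg * y * sg⁻¹ : alternatingGroup (Fin 8)).2
      rw [AltCarmichael.gen_cyc 6 (by norm_num)]
      exact this
    obtain ⟨h2, h3⟩ := r3 _ h1
    have e : sg⁻¹ * (⟨((sg * y * sg⁻¹ : alternatingGroup (Fin 8)) : Equiv.Perm (Fin 8)), h2⟩ :
        alternatingGroup (Fin 8)) * sg = y := by
      have e0 : (⟨((sg * y * sg⁻¹ : alternatingGroup (Fin 8)) : Equiv.Perm (Fin 8)), h2⟩ :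
        alternatingGroup (Fin 8)) = sg * y * sg⁻¹ := rfl
      rw [e0]; group
    rwa [e] at h3
  exact ⟨ψ, r4, hH _ r4 r2⟩

theorem card_A9 : Nat.card (alternatingGroup (Fin 9)) = 192 * 945 := by
  have h := two_mul_nat_card_alternatingGroup (α := Fin 9)
  rw [Nat.card_perm] at h
  have h2 : (Nat.card (Fin 9)).factorial = 362880 := by rw [Nat.card_fin]; rfl
  omega

/-- the case `|C_G(T)| = 240`: `G ≅ A₉` -/
theorem Rel2.iso_A9 [IsSimpleGroup G] (h : Rel2 z a b c d r s g k) (hF : F1 z a b c d r s)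
    (hu : ¬ Fus z (z * (a * b))) (h60 : haveI := h.T'_normal; Nat.card (KT z a b s ⧸ h.T') = 60) :
    Nonempty (G ≃* alternatingGroup (Fin 9)) := by
  obtain ⟨φ, hφ⟩ := h.exists_hom
  obtain ⟨ψ, h1, h2⟩ := h.exists_nine hF hu h60 φ hφ
  obtain ⟨f1, f2, f3, f4, f5, f6⟩ := h.range_facts hF ψ (fun n hn => by rw [← hφ n hn]; exact h1 _) 945 card_A9
    (by decide)
  have htop := h.closing hF hu ψ.range f1 f2 f3 f6
    (fun x hx => h.centU_le hF hu ψ.range f4 f5 h2 hx)
  have hs : IsSimpleGroup (alternatingGroup (Fin 9)) := alternatingGroup.isSimpleGroup (by simp)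
  have hinj : Function.Injective ψ := by
    rw [← MonoidHom.ker_eq_bot_iff]
    rcases ψ.normal_ker.eq_bot_or_eq_top with e | e
    · exact e
    · exfalso
      apply hF.z_ne_one
      have hz : z ∈ ψ.range := f1 (hF.mem_cent.2 rfl)
      obtain ⟨y, rfl⟩ := hz
      have : y ∈ ψ.ker := by rw [e]; trivial
      exact this
  exact ⟨(MulEquiv.ofBijective ψ ⟨hinj, MonoidHom.range_eq_top.mp htop⟩).symm⟩

end nine

end Cfsg.Agent.AltType
end

-- part: AltType/Main
section
/-!
A finite simple group in which the centraliser of an involution is as in `A₈` or `A₉` is `A₈` or `A₉`.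
-/

set_option autoImplicit false

namespace Cfsg.Agent.AltType

variable {G : Type*} [Group G] [Finite G] [IsSimpleGroup G] {z a b c d r s : G}

theorem F1.iso_of_two (h : F1 z a b c d r s) (ha : Fus z a) (hb : Fus z b) :
    Nonempty (G ≃* alternatingGroup (Fin 8)) ∨ Nonempty (G ≃* alternatingGroup (Fin 9)) := by
  obtain ⟨s', h', g, k, hg, hk, hgk, hu⟩ := h.exists_pair ha hb
  have R : Rel2 z a b c d r s' g k := ⟨h'.toRel, hg, hk, hgk⟩
  rcases R.card_KT h' hu with e | e
  · left; exact R.iso_A8 h' hu e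
  · right; exact R.iso_A9 h' hu e

theorem F1.iso_of_one (hc : ¬ IsMulCommutative G) (h : F1 z a b c d r s) (ha : Fus z a) :
    Nonempty (G ≃* alternatingGroup (Fin 8)) ∨ Nonempty (G ≃* alternatingGroup (Fin 9)) := by
  by_cases hb : Fus z b
  · exact h.iso_of_two ha hb
  by_cases hu : Fus z (z * (a * b))
  · exact h.third.iso_of_two ha hu
  exfalso
  obtain ⟨s', hs', g, hg⟩ := h.exists_g ha
  have h' : F1 z a b c d r s' := by
    rcases hs' with rfl | rfl
    · exact h
    · exact h.twist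
  exact h'.onlyOne hc hg hb hu

/-- recognition of `A₈` and `A₉` by the centraliser of a 2-central involution -/
theorem F1.iso (hc : ¬ IsMulCommutative G) (h : F1 z a b c d r s) :
    Nonempty (G ≃* alternatingGroup (Fin 8)) ∨ Nonempty (G ≃* alternatingGroup (Fin 9)) := by
  rcases h.caseI hc with e | e | e
  · exact h.iso_of_one hc e
  · exact h.swap.iso_of_one hc e
  · exact h.third.swap.iso_of_one hc e

end Cfsg.Agent.AltType
end

-- part: AltType/Conv
section
/-!
# S1759, case F1: from the interface `CaseF1` to `AltType.F1`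

The twisted case `s² = z` does not occur (adapted from `LargeExtra.W2.MTwelve`, by helper221).
-/

set_option autoImplicit false

namespace Cfsg.Agent.AltTypeConv

open Cfsg.Agent.Co2Type.Quad Cfsg.Agent.LargeExtra.Model Cfsg.Agent.LargeExtra.Pres
open Cfsg.Agent.LargeExtra Cfsg.Agent.LargeExtra.W2
open Cfsg.Agent.LargeExtra.W2.PlusHom

/-- conjugation by `v` in the model -/
def sv : M →* M := endo mj (mi * mj) (mk * ml) mk (by decide +kernel)
/-- conjugation by `y` in the model -/
def sy : M →* M := endo mk ml mi mj (by decide +kernel)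

section

variable {G : Type*} [Group G] {Q : Subgroup G} {z i j k l v y : G}

theorem v_hom (h : CaseF1 Q z i j k l v y) (x : M) :
    v * hom h.toPlus x * v⁻¹ = hom h.toPlus (sv x) := by
  apply conj_hom h.toPlus h.w_act
  · exact hom_j _
  · rw [map_mul, hom_i, hom_j]
  · rw [map_mul, hom_k, hom_l]
  · exact hom_k _

theorem y_hom (h : CaseF1 Q z i j k l v y) (x : M) :
    y * hom h.toPlus x * y⁻¹ = hom h.toPlus (sy x) := by
  apply conj_hom h.toPlus h.s_act
  · exact hom_k _
  · exact hom_l _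
  · exact hom_i _
  · exact hom_j _

theorem v_hom' (h : CaseF1 Q z i j k l v y) (x : M) :
    v * hom h.toPlus x = hom h.toPlus (sv x) * v := by
  rw [← v_hom h]; group

theorem y_hom' (h : CaseF1 Q z i j k l v y) (x : M) :
    y * hom h.toPlus x = hom h.toPlus (sy x) * y := by
  rw [← y_hom h]; group

theorem v_z (h : CaseF1 Q z i j k l v y) : v * z = z * v := by
  have := h.w_act.z
  rwa [mul_inv_eq_iff_eq_mul] at this

theorem y_z (h : CaseF1 Q z i j k l v y) : y * z = z * y := by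
  have := h.s_act.z
  rwa [mul_inv_eq_iff_eq_mul] at this

theorem yv (h : CaseF1 Q z i j k l v y) : y * v = v ^ 2 * y := by
  have h1 : v⁻¹ = v ^ 2 := by
    rw [inv_eq_iff_mul_eq_one, ← pow_succ']; exact h.w3
  rw [← h1, ← h.ws]; group

theorem y_pow_v (h : CaseF1 Q z i j k l v y) (b a : ℕ) : ∃ a', y ^ b * v ^ a = v ^ a' * y ^ b := by
  have h1 : ∀ a, ∃ a', y * v ^ a = v ^ a' * y := by
    intro a
    refine ⟨2 * a, ?_⟩
    have : SemiconjBy y v (v ^ 2) := yv h
    rw [pow_mul]
    exact (this.pow_right a).eq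
  induction b generalizing a with
  | zero => exact ⟨a, by simp⟩
  | succ b ih =>
    obtain ⟨a1, ha1⟩ := ih a
    obtain ⟨a2, ha2⟩ := h1 a1
    refine ⟨a2, ?_⟩
    rw [pow_succ', mul_assoc, ha1, ← mul_assoc, ha2, mul_assoc]

/-- normal form `q v^a y^b` with exponent `b` -/
def P (Q : Subgroup G) (v y : G) (c : G) (b : ℕ) : Prop := ∃ q ∈ Q, ∃ a : ℕ, c = q * v ^ a * y ^ b

theorem vy_z (h : CaseF1 Q z i j k l v y) (a b : ℕ) : (v ^ a * y ^ b) * z = z * (v ^ a * y ^ b) := by
  have h1 : Commute v z := v_z h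
  have h2 : Commute y z := y_z h
  exact ((h1.pow_left a).mul_left (h2.pow_left b)).eq

theorem P_mul (h : CaseF1 Q z i j k l v y) {c d : G} {b b' : ℕ} (hc : P Q v y c b) (hd : P Q v y d b') :
    P Q v y (c * d) (b + b') := by
  obtain ⟨q, hq, a, rfl⟩ := hc
  obtain ⟨q', hq', a', rfl⟩ := hd
  obtain ⟨a'', ha''⟩ := y_pow_v h b a'
  refine ⟨q * ((v ^ a * y ^ b) * q' * (v ^ a * y ^ b)⁻¹),
    Q.mul_mem hq (h.large.conj_mem _ (vy_z h a b) _ hq'), a + a'', ?_⟩
  calc q * v ^ a * y ^ b * (q' * v ^ a' * y ^ b')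
      = q * ((v ^ a * y ^ b) * q' * (v ^ a * y ^ b)⁻¹) * v ^ a * (y ^ b * v ^ a') * y ^ b' := by group
    _ = q * ((v ^ a * y ^ b) * q' * (v ^ a * y ^ b)⁻¹) * v ^ a * (v ^ a'' * y ^ b) * y ^ b' := by rw [ha'']
    _ = _ := by rw [pow_add, pow_add]; group

theorem P_of_mem {c : G} (hc : c ∈ Q) : P Q v y c 0 := ⟨c, hc, 0, by simp⟩

theorem exists_P (h : CaseF1 Q z i j k l v y) {c : G} (hc : c * z = z * c) : ∃ b, P Q v y c b := by
  have hc' : c ∈ Subgroup.closure ({i, j, k, l, v, y} : Set G) := by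
    rw [← h.cent]; exact Subgroup.mem_centralizer_singleton_iff.2 hc
  have hy4 : y⁻¹ = y ^ 3 := by
    rw [inv_eq_iff_mul_eq_one, ← pow_succ']
    have : y ^ (3 + 1) = (y * y) * (y * y) := by simp only [pow_succ, pow_zero, one_mul, mul_assoc]
    rw [this]
    rcases h.s2 with h1 | h1
    · rw [h1, one_mul]
    · rw [h1]; exact h.large.z_sq
  have hv3 : v⁻¹ = v ^ 2 := by
    rw [inv_eq_iff_mul_eq_one, ← pow_succ']; exact h.w3
  have hgen : ∀ x ∈ ({i, j, k, l, v, y} : Set G), (∃ b, P Q v y x b) ∧ ∃ b, P Q v y x⁻¹ b := by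
    intro x hx
    have hx' : x = i ∨ x = j ∨ x = k ∨ x = l ∨ x = v ∨ x = y := by simpa using hx
    rcases hx' with rfl | rfl | rfl | rfl | rfl | rfl
    · exact ⟨⟨0, P_of_mem (mem_i h.toPlus)⟩, ⟨0, P_of_mem (Q.inv_mem (mem_i h.toPlus))⟩⟩
    · exact ⟨⟨0, P_of_mem (mem_j h.toPlus)⟩, ⟨0, P_of_mem (Q.inv_mem (mem_j h.toPlus))⟩⟩
    · exact ⟨⟨0, P_of_mem (mem_k h.toPlus)⟩, ⟨0, P_of_mem (Q.inv_mem (mem_k h.toPlus))⟩⟩
    · exact ⟨⟨0, P_of_mem (mem_l h.toPlus)⟩, ⟨0, P_of_mem (Q.inv_mem (mem_l h.toPlus))⟩⟩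
    · exact ⟨⟨0, 1, Q.one_mem, 1, by simp⟩, ⟨0, 1, Q.one_mem, 2, by rw [hv3]; simp⟩⟩
    · exact ⟨⟨1, 1, Q.one_mem, 0, by simp⟩, ⟨3, 1, Q.one_mem, 0, by rw [hy4]; simp⟩⟩
  induction hc' using Subgroup.closure_induction_right with
  | one => exact ⟨0, P_of_mem Q.one_mem⟩
  | mul_right x hx g hg ih =>
    obtain ⟨b, hb⟩ := ih (by
      have : x ∈ Subgroup.centralizer ({z} : Set G) := by rw [h.cent]; exact hx
      exact Subgroup.mem_centralizer_singleton_iff.1 this)
    obtain ⟨b', hb'⟩ := (hgen g hg).1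
    exact ⟨_, P_mul h hb hb'⟩
  | mul_inv_cancel x hx g hg ih =>
    obtain ⟨b, hb⟩ := ih (by
      have : x ∈ Subgroup.centralizer ({z} : Set G) := by rw [h.cent]; exact hx
      exact Subgroup.mem_centralizer_singleton_iff.1 this)
    obtain ⟨b', hb'⟩ := (hgen g hg).2
    exact ⟨_, P_mul h hb hb'⟩

theorem exp_four (h : CaseF1 Q z i j k l v y) {q : G} (hq : q ∈ Q) : q ^ 4 = 1 := by
  have : q ^ 4 = (q * q) * (q * q) := by simp only [pow_succ, pow_zero, one_mul, mul_assoc]
  rw [this]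
  rcases h.large.sq q hq with h1 | h1
  · rw [h1, one_mul]
  · rw [h1]; exact h.large.z_sq

theorem v_pow_of_mem (h : CaseF1 Q z i j k l v y) {a : ℕ} (ha : v ^ a ∈ Q) : v ^ a = 1 := by
  have h1 : (v ^ a) ^ 4 = 1 := exp_four h ha
  have h2 : (v ^ a) ^ 3 = 1 := by rw [← pow_mul, mul_comm, pow_mul, h.w3, one_pow]
  calc v ^ a = (v ^ a) ^ 4 * ((v ^ a) ^ 3)⁻¹ := by group
    _ = 1 := by rw [h1, h2, inv_one, one_mul]

/-- an element `q v^a` of order two lies in `Q` -/
theorem mem_of_sq (h : CaseF1 Q z i j k l v y) {c : G} (hc : P Q v y c 0) (hcc : c * c = 1) : c ∈ Q := by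
  obtain ⟨q, hq, a, rfl⟩ := hc
  rw [pow_zero, mul_one] at hcc ⊢
  have h1 : v ^ a * q * (v ^ a)⁻¹ ∈ Q := by
    have := h.large.conj_mem (v ^ a) (by simpa only [_root_.pow_zero, _root_.mul_one] using vy_z h a 0) q hq
    exact this
  have h2 : v ^ (2 * a) = (q * (v ^ a * q * (v ^ a)⁻¹))⁻¹ := by
    rw [eq_inv_iff_mul_eq_one]
    have e : q * v ^ a * (q * v ^ a) = (q * (v ^ a * q * (v ^ a)⁻¹)) * v ^ (2 * a) := by
      rw [two_mul, pow_add]; group
    rw [e] at hcc
    have := mul_eq_one_iff_eq_inv.1 hcc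
    rw [this]; group
  have h3 : v ^ (2 * a) ∈ Q := by rw [h2]; exact Q.inv_mem (Q.mul_mem hq h1)
  have h4 := v_pow_of_mem h h3
  have h5 : v ^ a = 1 := by
    have h6 : v ^ (3 * a) = 1 := by rw [pow_mul, h.w3, one_pow]
    calc v ^ a = v ^ (3 * a) * (v ^ (2 * a))⁻¹ := by
          rw [show 3 * a = a + 2 * a by ring, pow_add]; group
      _ = 1 := by rw [h6, h4, inv_one, one_mul]
  rw [h5, mul_one]; exact hq

/-! ### reduced normal form -/

/-- every element of `C_G(z)` is `q v^a y^b` with `a < 3`, `b < 2` -/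
theorem exists_red (h : CaseF1 Q z i j k l v y) {c : G} (hc : c * z = z * c) :
    ∃ m : M, ∃ a : Fin 3, ∃ b : Fin 2, c = hom h.toPlus m * v ^ a.1 * y ^ b.1 := by
  obtain ⟨b, q, hq, a, rfl⟩ := exists_P h hc
  have hv : v ^ a = v ^ (a % 3) := by
    conv_lhs => rw [← Nat.div_add_mod a 3, pow_add, pow_mul, h.w3, one_pow, one_mul]
  have hy : y ^ b = (y * y) ^ (b / 2) * y ^ (b % 2) := by
    conv_lhs => rw [← Nat.div_add_mod b 2, pow_add, pow_mul, pow_two]
  have hyc : (y * y) ^ (b / 2) ∈ Q := by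
    apply Q.pow_mem
    rcases h.s2 with h1 | h1
    · rw [h1]; exact Q.one_mem
    · rw [h1]; exact h.large.z_mem
  have h3 : v ^ (a % 3) * (y * y) ^ (b / 2) * (v ^ (a % 3))⁻¹ ∈ Q := by
    refine h.large.conj_mem _ ?_ _ hyc
    have := vy_z h (a % 3) 0
    simpa only [_root_.pow_zero, _root_.mul_one] using this
  obtain ⟨m, hm⟩ := exists_hom h.toPlus (Q.mul_mem hq h3)
  refine ⟨m, ⟨a % 3, Nat.mod_lt _ (by norm_num)⟩, ⟨b % 2, Nat.mod_lt _ (by norm_num)⟩, ?_⟩
  rw [hm]
  show q * v ^ a * y ^ b = q * (v ^ (a % 3) * (y * y) ^ (b / 2) * (v ^ (a % 3))⁻¹) * v ^ (a % 3) * y ^ (b % 2)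
  rw [hy, hv]; group

/-- iterate of `sv` -/
def itv : ℕ → M → M
  | 0, x => x
  | n + 1, x => sv (itv n x)

theorem vpow_hom (h : CaseF1 Q z i j k l v y) (a : ℕ) (x : M) :
    v ^ a * hom h.toPlus x = hom h.toPlus (itv a x) * v ^ a := by
  induction a with
  | zero => simp [itv]
  | succ a ih =>
    rw [pow_succ', mul_assoc, ih, ← mul_assoc, v_hom' h, mul_assoc]; rfl

/-! ### the twisted case -/

set_option maxRecDepth 100000 in
theorem dec_twist : ∀ (m : M) (a : Fin 3), m * itv a.1 (sy m) * zz ≠ 1 := by decide +kernel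

theorem mem_of_sq_of_twist (h : CaseF1 Q z i j k l v y) (hy : y * y = z) {c : G} (hc : c * z = z * c)
    (hcc : c * c = 1) : c ∈ Q := by
  obtain ⟨m, a, b, rfl⟩ := exists_red h hc
  have hb : b = 0 ∨ b = 1 := by omega
  rcases hb with rfl | rfl
  · apply mem_of_sq h _ hcc
    exact ⟨_, hom_mem h.toPlus m, a.1, rfl⟩
  · exfalso
    have e : (hom h.toPlus m * v ^ a.1 * y ^ (1 : Fin 2).1) * (hom h.toPlus m * v ^ a.1 * y ^ (1 : Fin 2).1) =
        hom h.toPlus (m * itv a.1 (sy m) * zz) := by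
      obtain ⟨a', ha'⟩ := y_pow_v h 1 a.1
      show (hom h.toPlus m * v ^ a.1 * y ^ 1) * (hom h.toPlus m * v ^ a.1 * y ^ 1) = _
      rw [pow_one] at ha' ⊢
      have hinv : y * v ^ a.1 = (v ^ a.1)⁻¹ * y := by
        have h1 : SemiconjBy y v v⁻¹ := by
          show y * v = v⁻¹ * y
          rw [← h.ws]; group
        have h2 := (h1.pow_right a.1).eq
        rw [h2, inv_pow]
      calc hom h.toPlus m * v ^ a.1 * y * (hom h.toPlus m * v ^ a.1 * y)
          = hom h.toPlus m * v ^ a.1 * (y * hom h.toPlus m) * v ^ a.1 * y := by group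
        _ = hom h.toPlus m * v ^ a.1 * (hom h.toPlus (sy m) * y) * v ^ a.1 * y := by rw [y_hom' h]
        _ = hom h.toPlus m * (v ^ a.1 * hom h.toPlus (sy m)) * (y * v ^ a.1) * y := by group
        _ = hom h.toPlus m * (hom h.toPlus (itv a.1 (sy m)) * v ^ a.1) * ((v ^ a.1)⁻¹ * y) * y := by
            rw [vpow_hom h, hinv]
        _ = hom h.toPlus m * hom h.toPlus (itv a.1 (sy m)) * (y * y) := by group
        _ = _ := by rw [hy, map_mul, map_mul, hom_zz]
    rw [e] at hcc
    exact dec_twist m a (hom_injective h.toPlus (by rw [hcc, map_one]))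

set_option maxRecDepth 100000 in
theorem dec_pq : ∀ b : M, b * b = 1 → b ≠ 1 → b ≠ zz → ∃ p q : M, p * p = 1 ∧ q * q = 1 ∧ p * b = b * p ∧
    q * b = b * q ∧ p * q = q * p * zz := by decide +kernel

theorem noncomm (h : CaseF1 Q z i j k l v y) : ∃ a b : G, a * b ≠ b * a := by
  refine ⟨j, i, ?_⟩
  rw [h.ji]
  intro h1
  exact h.large.z_ne (by simpa using h1)

theorem y_sq [Finite G] [IsSimpleGroup G] (h : CaseF1 Q z i j k l v y) : y * y = 1 := by
  rcases h.s2 with h1 | hy
  · exact h1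
  exfalso
  refine Cfsg.Agent.J2Type.SimpleRed.not_isolated z ⟨Base.orderOf_z h.large, ?_⟩ (noncomm h)
  intro g hg
  by_contra hne
  have hzz := h.large.z_sq
  have ha2 : (g * z * g⁻¹) * (g * z * g⁻¹) = 1 := by
    calc (g * z * g⁻¹) * (g * z * g⁻¹) = g * (z * z) * g⁻¹ := by group
      _ = 1 := by rw [hzz]; group
  have haQ : g * z * g⁻¹ ∈ Q := mem_of_sq_of_twist h hy hg.eq.symm ha2
  -- `b = g⁻¹ z g ∈ Q`
  have hbQ : g⁻¹ * z * g ∈ Q := by
    apply mem_of_sq_of_twist h hy
    · have := hg.eq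
      calc g⁻¹ * z * g * z = g⁻¹ * (z * (g * z * g⁻¹)) * g := by group
        _ = g⁻¹ * ((g * z * g⁻¹) * z) * g := by rw [this]
        _ = z * (g⁻¹ * z * g) := by group
    · calc g⁻¹ * z * g * (g⁻¹ * z * g) = g⁻¹ * (z * z) * g := by group
        _ = 1 := by rw [hzz]; group
  obtain ⟨b, hb⟩ := exists_hom h.toPlus hbQ
  have hbb : b * b = 1 := by
    apply hom_injective h.toPlus
    rw [map_mul, hb, map_one]
    calc g⁻¹ * z * g * (g⁻¹ * z * g) = g⁻¹ * (z * z) * g := by group
      _ = 1 := by rw [hzz]; group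
  have hb1 : b ≠ 1 := by
    rintro rfl
    rw [map_one] at hb
    apply h.large.z_ne
    calc z = g * (g⁻¹ * z * g) * g⁻¹ := by group
      _ = 1 := by rw [← hb]; group
  have hbz : b ≠ zz := by
    rintro rfl
    rw [hom_zz] at hb
    apply hne
    calc g * z * g⁻¹ = g * (g⁻¹ * z * g) * g⁻¹ := by rw [← hb]
      _ = z := by group
  obtain ⟨p, q, hp, hq, hpb, hqb, hpq⟩ := dec_pq b hbb hb1 hbz
  have key : ∀ x : M, x * x = 1 → x * b = b * x → g * hom h.toPlus x * g⁻¹ ∈ Q := by
    intro x hx hxb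
    apply mem_of_sq_of_twist h hy
    · have h2 : hom h.toPlus x * (g⁻¹ * z * g) = (g⁻¹ * z * g) * hom h.toPlus x := by
        rw [← hb, ← map_mul, ← map_mul, hxb]
      calc g * hom h.toPlus x * g⁻¹ * z = g * (hom h.toPlus x * (g⁻¹ * z * g)) * g⁻¹ := by group
        _ = g * ((g⁻¹ * z * g) * hom h.toPlus x) * g⁻¹ := by rw [h2]
        _ = z * (g * hom h.toPlus x * g⁻¹) := by group
    · calc g * hom h.toPlus x * g⁻¹ * (g * hom h.toPlus x * g⁻¹)
          = g * (hom h.toPlus x * hom h.toPlus x) * g⁻¹ := by group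
        _ = 1 := by rw [← map_mul, hx, map_one]; group
  have e : (g * hom h.toPlus p * g⁻¹) * (g * hom h.toPlus q * g⁻¹) =
      (g * hom h.toPlus q * g⁻¹) * (g * hom h.toPlus p * g⁻¹) * (g * z * g⁻¹) := by
    calc (g * hom h.toPlus p * g⁻¹) * (g * hom h.toPlus q * g⁻¹)
        = g * (hom h.toPlus (p * q)) * g⁻¹ := by rw [map_mul]; group
      _ = g * (hom h.toPlus (q * p * zz)) * g⁻¹ := by rw [hpq]
      _ = _ := by rw [map_mul, map_mul, hom_zz]; group
  rcases h.large.comm _ (key p hp hpb) _ (key q hq hqb) with h2 | h2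
  · rw [e] at h2
    have h3 : g * z * g⁻¹ = 1 := by simpa only [_root_.conj_eq_one_iff, _root_.conj_mul, _root_.mul_left_inj, _root_.mul_right_inj, _root_.mul_eq_left] using h2
    apply h.large.z_ne
    calc z = g⁻¹ * (g * z * g⁻¹) * g := by group
      _ = 1 := by rw [h3]; group
  · rw [e] at h2
    exact hne (mul_left_cancel h2)

end

end Cfsg.Agent.AltTypeConv
end

-- part: AltType/Recognize
section
/-!
Recognition of `A₈` and `A₉` from the interface `CaseF1` of S1759.
-/

set_option autoImplicit false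
set_option linter.unusedSimpArgs false

namespace Cfsg.Agent.AltType

open Cfsg.Agent.LargeExtra.W2

variable {G : Type*} [Group G]

theorem rel_of_rules {z i j k l r s : G} (zz : z * z = 1) (ii : i * i = z) (jj : j * j = z) (kk : k * k = z)
    (ll : l * l = z) (iz : i * z = z * i) (jz : j * z = z * j) (kz : k * z = z * k) (lz : l * z = z * l)
    (ji : j * i = z * (i * j)) (lk : l * k = z * (k * l)) (ki : k * i = i * k) (li : l * i = i * l)
    (kj : k * j = j * k) (lj : l * j = j * l) (zr : z * r = r * z) (zs : z * s = s * z)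
    (ir : i * r = r * j) (jr : j * r = r * (i * j)) (kr : k * r = r * (k * l)) (lr : l * r = r * k)
    (is : i * s = s * k) (js : j * s = s * l) (ks : k * s = s * i) (ls : l * s = s * j)
    (r3 : r * (r * r) = 1) (ss : s * s = 1) (rsr : r * (s * r) = s) :
    Rel z (z * (i * k)) (z * (i * (j * (k * l)))) (z * (j * (k * l))) (z * (i * l)) r s := by
  have T : ∀ {p q : G}, p = q → ∀ x, p * x = q * x := fun e x => by rw [e]
  have zz' := T zz
  have ii' := T ii
  have jj' := T jj
  have kk' := T kk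
  have ll' := T ll
  have iz' := T iz
  have jz' := T jz
  have kz' := T kz
  have lz' := T lz
  have ji' := T ji
  have lk' := T lk
  have ki' := T ki
  have li' := T li
  have kj' := T kj
  have lj' := T lj
  have zr' := T zr
  have zs' := T zs
  have ir' := T ir
  have jr' := T jr
  have kr' := T kr
  have lr' := T lr
  have is' := T is
  have js' := T js
  have ks' := T ks
  have ls' := T ls
  simp only [mul_assoc, one_mul] at zz' ii' jj' kk' ll' iz' jz' kz' lz' ji' lk' ki' li' kj' lj' zr' zs' ir' jr' kr' lr' is' js' ks' ls'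
  constructor
  all_goals
    simp only [mul_assoc, zz, ii, jj, kk, ll, iz, jz, kz, lz, ji, lk, ki, li, kj, lj, zr, zs, ir, jr, kr, lr, is, js,
      ks, ls, r3, ss, rsr, zz', ii', jj', kk', ll', iz', jz', kz', lz', ji', lk', ki', li', kj', lj', zr', zs', ir',
      jr', kr', lr', is', js', ks', ls', mul_one, one_mul]

theorem f1_of_caseF1 {Q : Subgroup G} {z i j k l w s : G} (h : CaseF1 Q z i j k l w s) (ss : s * s = 1) :
    F1 z (z * (i * k)) (z * (i * (j * (k * l)))) (z * (j * (k * l))) (z * (i * l)) w⁻¹ s := by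
  have mi := PlusHom.mem_i h.toPlus
  have mj := PlusHom.mem_j h.toPlus
  have mk := PlusHom.mem_k h.toPlus
  have ml := PlusHom.mem_l h.toPlus
  have cz : ∀ x ∈ Q, x * z = z * x := fun x hx => h.large.comm_z x hx
  have wz : w * z = z * w := Cfsg.Agent.AltTypeConv.v_z h
  have sz : s * z = z * s := Cfsg.Agent.AltTypeConv.y_z h
  -- rules for `w⁻¹`
  have rw' : ∀ {x y : G}, w * x * w⁻¹ = y → x * w⁻¹ = w⁻¹ * y := by
    intro x y e
    rw [← e]; group
  have rs' : ∀ {x y : G}, s * x * s⁻¹ = y → y * s = s * x := by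
    intro x y e
    rw [← e]; group
  have s' : s⁻¹ = s := inv_eq_of_mul_eq_one_left ss
  have hw3 : w * (w * w) = 1 := by
    have := h.w3
    rwa [pow_succ, pow_two, mul_assoc] at this
  have hrel := rel_of_rules (z := z) (i := i) (j := j) (k := k) (l := l) (r := w⁻¹) (s := s) h.large.z_sq h.ii h.jj
    h.kk h.ll (cz i mi) (cz j mj) (cz k mk) (cz l ml)
    (by rw [h.ji, cz _ (Q.mul_mem mi mj)]) (by rw [h.lk, cz _ (Q.mul_mem mk ml)]) h.ki h.li h.kj h.lj
    (by rw [eq_inv_mul_iff_mul_eq, ← mul_assoc, wz, mul_inv_cancel_right]) sz.symm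
    (rw' h.w_act.i) (rw' h.w_act.j) (rw' h.w_act.k) (rw' h.w_act.l)
    (rs' h.s_act.k) (rs' h.s_act.l) (rs' h.s_act.i) (rs' h.s_act.j)
    (by
      have : w⁻¹ * (w⁻¹ * w⁻¹) = (w * (w * w))⁻¹ := by group
      rw [this, hw3, inv_one])
    ss
    (by
      have e : s * w⁻¹ = w * s := by
        have := h.ws
        have e2 : s * w = w⁻¹ * s := by rw [← this]; group
        calc s * w⁻¹ = s * w⁻¹ * s⁻¹ * s := by group
          _ = (s * w * s⁻¹)⁻¹ * s := by group
          _ = w * s := by rw [this, inv_inv]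
      rw [e, inv_mul_cancel_left])
  refine ⟨hrel, ?_, h.card_cent⟩
  rw [h.cent]
  apply le_antisymm
  · rw [Subgroup.closure_le]
    set K := Subgroup.closure ({z, z * (i * k), z * (i * (j * (k * l))), z * (j * (k * l)), z * (i * l), w⁻¹, s} :
      Set G) with hK
    have kz : z ∈ K := Subgroup.subset_closure (by simp only [_root_.Set.mem_insert_iff, _root_.left_eq_mul, _root_.Set.mem_singleton_iff, _root_.true_or])
    have kb : z * (i * (j * (k * l))) ∈ K := Subgroup.subset_closure (by simp only [_root_.Set.mem_insert_iff, _root_.mul_eq_left, _root_.mul_right_inj, _root_.mul_eq_right, _root_.Set.mem_singleton_iff, _root_.true_or, _root_.or_true])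
    have kc : z * (j * (k * l)) ∈ K := Subgroup.subset_closure (by simp only [_root_.Set.mem_insert_iff, _root_.mul_eq_left, _root_.mul_right_inj, _root_.right_eq_mul, _root_.Set.mem_singleton_iff, _root_.true_or, _root_.or_true])
    have kr : w⁻¹ ∈ K := Subgroup.subset_closure (by simp only [_root_.Set.mem_insert_iff, _root_.Set.mem_singleton_iff, _root_.true_or, _root_.or_true])
    have ks : s ∈ K := Subgroup.subset_closure (by simp only [_root_.Set.mem_insert_iff, _root_.Set.mem_singleton_iff, _root_.or_true])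
    have kw : w ∈ K := by
      have := K.inv_mem kr
      rwa [inv_inv] at this
    have ki : i ∈ K := by
      have h1 := K.mul_mem kb (K.inv_mem kc)
      have h2 : z * (i * (j * (k * l))) * (z * (j * (k * l)))⁻¹ = i := by
        have h3 : z * (i * (j * (k * l))) = i * (z * (j * (k * l))) := by
          rw [← mul_assoc, ← cz i mi, mul_assoc]
        rw [h3, mul_inv_cancel_right]
      rwa [h2] at h1
    have kj : j ∈ K := by
      have := K.mul_mem (K.mul_mem kw ki) (K.inv_mem kw)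
      rwa [h.w_act.i] at this
    have kk : k ∈ K := by
      have := K.mul_mem (K.mul_mem ks ki) (K.inv_mem ks)
      rwa [h.s_act.i] at this
    have kl : l ∈ K := by
      have := K.mul_mem (K.mul_mem ks kj) (K.inv_mem ks)
      rwa [h.s_act.j] at this
    rintro x (rfl | rfl | rfl | rfl | rfl | rfl)
    · exact ki
    · exact kj
    · exact kk
    · exact kl
    · exact kw
    · exact ks
  · rw [Subgroup.closure_le]
    set K := Subgroup.closure ({i, j, k, l, w, s} : Set G) with hK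
    have ki : i ∈ K := Subgroup.subset_closure (by simp)
    have kj : j ∈ K := Subgroup.subset_closure (by simp)
    have kk : k ∈ K := Subgroup.subset_closure (by simp)
    have kl : l ∈ K := Subgroup.subset_closure (by simp)
    have kw : w ∈ K := Subgroup.subset_closure (by simp)
    have ks : s ∈ K := Subgroup.subset_closure (by simp)
    have kz : z ∈ K := by rw [← h.ii]; exact K.mul_mem ki ki
    rintro x (rfl | rfl | rfl | rfl | rfl | rfl | rfl)
    · exact kz
    · exact K.mul_mem kz (K.mul_mem ki kk)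
    · exact K.mul_mem kz (K.mul_mem ki (K.mul_mem kj (K.mul_mem kk kl)))
    · exact K.mul_mem kz (K.mul_mem kj (K.mul_mem kk kl))
    · exact K.mul_mem kz (K.mul_mem ki kl)
    · exact K.inv_mem kw
    · exact ks

/-- **Recognition of `A₈` and `A₉`** (case F1 of S1759). -/
theorem recognize [Finite G] [IsSimpleGroup G] {Q : Subgroup G} {z i j k l w s : G} (hc : ¬ IsMulCommutative G)
    (h : CaseF1 Q z i j k l w s) :
    Nonempty (G ≃* alternatingGroup (Fin 8)) ∨ Nonempty (G ≃* alternatingGroup (Fin 9)) :=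
  (f1_of_caseF1 h (Cfsg.Agent.AltTypeConv.y_sq h)).iso hc

end Cfsg.Agent.AltType
end

private theorem dce_b79c26885a7e : _root_.True := by
  try have : _root_.True := by simp only [_root_.Cfsg.Agent.AltType.wW.eq_3]
  try have : _root_.True := by simp only [_root_.Cfsg.Agent.AltType.l12.eq_11]
  try have : _root_.True := by simp only [_root_.Cfsg.Agent.AltType.eqs12.eq_1]
  try have : _root_.True := by simp only [_root_.Cfsg.Agent.AltType.wW.eq_1]
  try have : _root_.True := by simp only [_root_.Cfsg.Agent.AltType.l12.eq_13]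
  try have : _root_.True := by simp only [_root_.Cfsg.Agent.LargeExtra.W2.PlusHom.hom.congr_simp]
  try have : _root_.True := by simp only [_root_.Cfsg.Agent.AltType.l12.eq_1]
  try have : _root_.True := by simp only [_root_.Cfsg.Agent.AltType.l12.eq_5]
  try have : _root_.True := by simp only [_root_.Cfsg.Agent.AltType.l12.eq_10]
  try have : _root_.True := by simp only [_root_.Cfsg.Agent.AltType.l12.eq_3]
  try have : _root_.True := by simp only [_root_.Cfsg.Agent.AltType.l12.eq_7]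
  try have : _root_.True := by simp only [_root_.Cfsg.Agent.AltType.l12.eq_9]
  try have : _root_.True := by simp only [_root_.Cfsg.Agent.AltType.wW.eq_2]
  try have : _root_.True := by simp only [_root_.Cfsg.Agent.AltTypeConv.itv.eq_def]
  try have : _root_.True := by simp only [_root_.Cfsg.Agent.AltType.l12.eq_12]
  try have : _root_.True := by simp only [_root_.Cfsg.Agent.AltType.l12.eq_4]
  try have : _root_.True := by simp only [_root_.Cfsg.Agent.AltType.l12.eq_8]
  try have : _root_.True := by simp only [_root_.Cfsg.Agent.AltType.l12.eq_6]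
  try have : _root_.True := by simp only [_root_.Cfsg.Agent.AltType.wW.eq_4]
  try have : _root_.True := by simp only [_root_.Cfsg.Agent.AltType.l12.eq_2]
  try have : _root_.True := by simp only [_root_.Cfsg.Agent.AltType.tT.eq_1]
  try have : _root_.True := by simp only [_root_.Cfsg.Agent.AltTypeConv.itv.eq_2]
  try have : _root_.True := by simp only [_root_.Cfsg.Agent.AltTypeConv.itv.eq_1]
  exact _root_.True.intro
end
end
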